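import Cfsg.Agent.Lib.SmallDim.PSLMain
import Cfsg.Agent.Lib.SmallN.ThreePrimes.Main
import Cfsg.Agent.Lib.Classical.ProjLine

/-!
Simple groups of order `p q ^ b g₀` with `g₀ < p - 1`.
-/

set_option autoImplicit false
set_option linter.unusedSectionVars false
set_option linter.style.haveILetI false

namespace Cfsg.Agent.SmallDim

open Cfsg Cfsg.Agent.Char Cfsg.Agent.Blocks Cfsg.Agent.BrauerPairs Cfsg.Agent.SmallN
open scoped Classical MatrixGroups ComplexConjugate

universe u

variable {G : Type u} [Group G] [Fintype G]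

/-- An exceptional character of degree `(p + 1) / 2` has a constituent of defect zero in
`θ * conj θ`. -/
theorem exists_constituent {p : ℕ} {S V : Subgroup G} {e : ℕ} {X Y : Finset (IrrCharacter G)}
    {δ : ℤ} {sg : IrrCharacter G → ℤ} (B : PBlock p S V e X Y δ sg) (hV : Nat.card V = 1)
    {θ : IrrCharacter G} (hθ : θ ∈ Y) (hπ : principal G ∈ X) (hδ : δ = 1) (he : 0 < e)
    (hp : p = 2 * e + 1) (hd : charDegree (θ : G → ℂ) = e + 1) (heven : 2 ∣ e)
    (hX : ∀ χ ∈ X.erase (principal G), 2 ∣ charDegree (χ : G → ℂ)) :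
    ∃ χ : IrrCharacter G, p ∣ charDegree (χ : G → ℂ) ∧
      classInner (fun g => (θ : G → ℂ) g * conj ((θ : G → ℂ) g)) (χ : G → ℂ) ≠ 0 := by
  set f : G → ℂ := fun g => (θ : G → ℂ) g * conj ((θ : G → ℂ) g) with hfdef
  have hfc : IsCharacter G f :=
    IsCharacter.mul (IsIrrCharacter.isCharacter θ.2) (IsCharacter.conj (IsIrrCharacter.isCharacter θ.2))
  obtain ⟨m, hm⟩ := IsCharacter.exists_decomp hfc
  have hcI : ∀ χ : IrrCharacter G, classInner f (χ : G → ℂ) = (m χ : ℂ) := fun χ => by
    rw [hm]; exact classInner_combination _ _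
  have happ : ∀ g, f g = ∑ ψ : IrrCharacter G, (m ψ : ℂ) * (ψ : G → ℂ) g := fun g => by
    rw [hm, Finset.sum_apply]
    rfl
  by_contra hcon
  push Not at hcon
  have hzero : ∀ χ : IrrCharacter G, χ ∉ X ∪ Y → m χ = 0 := fun χ hχ => by
    rw [Finset.mem_union, not_or] at hχ
    have h := hcon χ (((B.cover hV χ).resolve_left hχ.1).resolve_left hχ.2)
    rw [hcI] at h
    exact_mod_cast h
  have hmπ : m (principal G) = 1 := by
    have h1 := hcI (principal G)
    have h2 : classInner f (principal G : G → ℂ) = classInner (θ : G → ℂ) (θ : G → ℂ) := by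
      simp only [classInner]
      congr 1
      refine Finset.sum_congr rfl fun g _ => ?_
      simp [hfdef, principal]
    rw [h2, classInner_self_irr θ.2] at h1
    exact_mod_cast h1.symm
  have happ' : ∀ g, f g = ∑ χ ∈ X, (m χ : ℂ) * (χ : G → ℂ) g +
      ∑ χ ∈ Y, (m χ : ℂ) * (χ : G → ℂ) g := fun g => by
    rw [happ g, ← Finset.sum_union B.disj]
    refine (Finset.sum_subset (Finset.subset_univ _) fun χ _ hχ => ?_).symm
    rw [hzero χ hχ, Nat.cast_zero, zero_mul]
  set N := ∑ χ ∈ Y, m χ with hN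
  -- the degree
  have hA : (e + 1) * (e + 1) =
      1 + ∑ χ ∈ X.erase (principal G), m χ * charDegree (χ : G → ℂ) + N * (e + 1) := by
    have h1 := happ' 1
    simp only [hfdef, irr_one_eq_charDegree, Complex.conj_natCast] at h1
    rw [← Finset.add_sum_erase _ _ hπ, hmπ,
      show charDegree (principal G : G → ℂ) = 1 from Cfsg.Agent.CharX.charDegree_one,
      Finset.sum_congr (s₁ := Y) rfl fun χ hχ => by
        rw [← irr_one_eq_charDegree χ, B.deg_Y hχ hθ, irr_one_eq_charDegree θ], ← Finset.sum_mul,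
      hd] at h1
    have h2 : (((e + 1) * (e + 1) : ℕ) : ℂ) = ((1 + ∑ χ ∈ X.erase (principal G),
        m χ * charDegree (χ : G → ℂ) + N * (e + 1) : ℕ) : ℂ) := by
      rw [hN]
      push_cast at h1 ⊢
      linear_combination h1
    exact_mod_cast h2
  -- the sum over the non-trivial elements of `S`
  haveI : Fintype (S →* ℂˣ) := Fintype.ofFinite _
  obtain ⟨L, hL1, hLc, hL⟩ := B.linY θ hθ
  have hsum : ∑ y ∈ Finset.univ.erase (1 : S), f y = (e : ℂ) * (e + 1) := by
    have h1 : ∀ y ∈ Finset.univ.erase (1 : S), f y =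
        (∑ l ∈ L, ((l y : ℂˣ) : ℂ)) * conj (∑ l ∈ L, ((l y : ℂˣ) : ℂ)) := fun y hy => by
      show (θ : G → ℂ) y * conj ((θ : G → ℂ) y) = _
      rw [hL y (Finset.ne_of_mem_erase hy), hδ]
      simp
    have h2 : ∑ y : S, (∑ l ∈ L, ((l y : ℂˣ) : ℂ)) * conj (∑ l ∈ L, ((l y : ℂˣ) : ℂ)) =
        (p : ℂ) * e := by
      simp only [map_sum, Finset.sum_mul_sum]
      rw [Finset.sum_comm, Finset.sum_congr rfl fun l hl => by
        rw [Finset.sum_comm, Finset.sum_congr rfl fun l' _ => sum_lin_mul_conj l l',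
          Finset.sum_ite_eq, if_pos hl], Finset.sum_const, hLc, nsmul_eq_mul, B.cardS, mul_comm]
    rw [← Finset.add_sum_erase _ _ (Finset.mem_univ (1 : S))] at h2
    simp only [map_one, Units.val_one, Finset.sum_const, hLc, nsmul_eq_mul, mul_one,
      Complex.conj_natCast] at h2
    rw [Finset.sum_congr rfl h1]
    have h3 : (p : ℂ) = 2 * (e : ℂ) + 1 := by exact_mod_cast hp
    rw [h3] at h2
    linear_combination h2
  have hcard : (Finset.univ.erase (1 : S)).card = 2 * e := by
    rw [Finset.card_erase_of_mem (Finset.mem_univ _), Finset.card_univ, ← Nat.card_eq_fintype_card,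
      B.cardS, hp]
    omega
  have hB : (e : ℂ) * (e + 1) = 2 * (e : ℂ) * ((∑ χ ∈ X, (m χ : ℤ) * sg χ : ℤ) : ℂ) +
      (N : ℂ) * e := by
    rw [← hsum, Finset.sum_congr rfl fun (y : S) _ => happ' (y : G), Finset.sum_add_distrib,
      Finset.sum_comm (t := X), Finset.sum_comm (t := Y)]
    simp only [← Finset.mul_sum]
    rw [Finset.sum_congr (s₁ := X) rfl fun χ hχ => by
        rw [Finset.sum_congr rfl fun (y : S) hy => B.valX χ hχ y y.2
          (fun h => Finset.ne_of_mem_erase hy (Subtype.ext h)), Finset.sum_const, hcard,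
          nsmul_eq_mul],
      Finset.sum_congr (s₁ := Y) rfl fun χ hχ => by rw [B.sum_Y hχ, hδ], hN]
    push_cast
    rw [Finset.mul_sum, Finset.sum_mul]
    congr 1
    · exact Finset.sum_congr rfl fun χ _ => by ring
    · exact Finset.sum_congr rfl fun χ _ => by ring
  have hB' : (e + 1 : ℤ) = 2 * (∑ χ ∈ X, (m χ : ℤ) * sg χ) + (N : ℤ) := by
    have h : (((e : ℤ) * (e + 1) : ℤ) : ℂ) =
        (((e : ℤ) * (2 * (∑ χ ∈ X, (m χ : ℤ) * sg χ) + (N : ℤ)) : ℤ) : ℂ) := by
      push_cast at hB ⊢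
      linear_combination hB
    exact mul_left_cancel₀ (by omega : (e : ℤ) ≠ 0) (by exact_mod_cast h)
  obtain ⟨c, hc⟩ : 2 ∣ ∑ χ ∈ X.erase (principal G), m χ * charDegree (χ : G → ℂ) :=
    Finset.dvd_sum fun χ hχ => dvd_mul_of_dvd_right (hX χ hχ) _
  have he1 : Odd (e + 1) := by rw [Nat.odd_iff]; omega
  have hN1 : Odd N := by
    rw [Nat.odd_iff]
    omega
  have h1 := Nat.odd_iff.1 (he1.mul he1)
  have h2 := Nat.odd_iff.1 (hN1.mul he1)
  omega

theorem exists_rep_of_irr [IsSimpleGroup G] (hperf : commutator G = ⊤) {θ : IrrCharacter G}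
    (hne : θ ≠ principal G) :
    ∃ ρ : Representation ℂ G (Fin (charDegree (θ : G → ℂ)) → ℂ),
      Function.Injective ρ ∧ ρ.character = (θ : G → ℂ) := by
  obtain ⟨n, ρ, -, hc⟩ := id θ.2
  have hn : charDegree (θ : G → ℂ) = n := by
    have h1 : (θ : G → ℂ) 1 = (n : ℂ) := by simp [← hc, Representation.char_one]
    simp [charDegree, h1]
  subst hn
  refine ⟨ρ, (injective_iff_map_eq_one ρ).2 fun g hg => faithful_of_simple hperf hne ?_, hc⟩
  rw [← hc]
  simp [Representation.character, hg]

/-- The theorem of Brauer and Tuan, up to the groups of order less than `p ^ 3`. -/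
theorem brauer_tuan [IsSimpleGroup G] (hnc : ¬ IsCyclic G) (hperf : commutator G = ⊤)
    {p q b g₀ : ℕ} (hp : p.Prime) (hq : q.Prime) (hpq : p ≠ q) (hG : Nat.card G = p * q ^ b * g₀)
    (hg : g₀ < p - 1) (hqg : ¬ q ∣ g₀) :
    ((∃ m : ℕ, p = 2 ^ m + 1 ∨ p = 2 ^ m - 1) ∧
        Nonempty (G ≃* Matrix.ProjectiveSpecialLinearGroup (Fin 2) (ZMod p))) ∨
      ((∃ m : ℕ, p = 2 ^ m + 1) ∧ Nat.card G < p ^ 3) := by
  haveI hpF : Fact p.Prime := ⟨hp⟩
  have hg0 : 0 < g₀ := by
    refine Nat.pos_of_ne_zero fun h => ?_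
    rw [h, mul_zero] at hG
    exact Nat.card_pos.ne' hG
  have hdvd : p ∣ Nat.card G := ⟨q ^ b * g₀, by rw [hG, mul_assoc]⟩
  have hpk : ¬ p ∣ q ^ b * g₀ := by
    intro h
    rcases hp.dvd_mul.1 h with h | h
    · exact hpq ((Nat.prime_dvd_prime_iff_eq hp hq).1 (hp.dvd_of_dvd_pow h))
    · have := Nat.le_of_dvd hg0 h; omega
  have hsq : ¬ p ^ 2 ∣ Nat.card G := by
    intro h
    rw [hG, mul_assoc, pow_two] at h
    exact hpk (Nat.dvd_of_mul_dvd_mul_left hp.pos h)
  obtain ⟨S, hS⟩ := exists_sylow_card (by rw [hG, mul_assoc]) hpk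
  have hnot : ∀ H : Subgroup G, H.Normal → IsPGroup p H → H = ⊥ := by
    intro H hH hHp
    refine hH.eq_bot_or_eq_top.resolve_right fun h => hnc ?_
    obtain ⟨i, hi⟩ := hHp.exists_card_eq
    rw [h, Subgroup.card_top] at hi
    rcases (show i = 0 ∨ i = 1 ∨ 2 ≤ i by omega) with h0 | h0 | h0
    · rw [h0, pow_zero] at hi
      rw [hi] at hdvd
      exact absurd hdvd hp.not_dvd_one
    · rw [h0, pow_one] at hi
      exact isCyclic_of_prime_card hi
    · exact absurd (hi ▸ pow_dvd_pow p h0) hsq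
  have hSn : ¬ (S : Subgroup G).Normal := fun h => by
    have h1 := hnot _ h S.2
    rw [h1, Subgroup.card_bot] at hS
    exact hp.ne_one hS.symm
  obtain ⟨V, e, X, Y, δ, sg, B⟩ := exists_pblock S hS
  have he2 := PBlock.two_le hperf S B
  have hed : e ∣ p - 1 := ⟨Y.card, by rw [← B.cardY, mul_comm]⟩
  have hp_two := hp.two_le
  have hep : e ≤ p - 1 := Nat.le_of_dvd (by omega) hed
  have hp5 : 5 ≤ p ∨ p = 3 := by
    rcases (show p = 2 ∨ p = 3 ∨ p = 4 ∨ 5 ≤ p by omega) with h | h | h | h
    · omega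
    · exact Or.inr h
    · subst h; exact absurd hp (by norm_num)
    · exact Or.inl h
  have hne1 : ∀ χ : IrrCharacter G, χ ≠ principal G → 2 ≤ charDegree (χ : G → ℂ) := fun χ hne => by
    by_contra h
    refine hne (eq_principal_of_deg_one hperf ?_)
    rw [irr_one_eq_charDegree, show charDegree (χ : G → ℂ) = 1 by
      have := Blocks.charDegree_pos χ; omega, Nat.cast_one]
  have hdiv : ∀ χ : IrrCharacter G, χ ∈ X ∨ χ ∈ Y → charDegree (χ : G → ℂ) ∣ q ^ b * g₀ :=
    fun χ h => by
      have h1 := charDegree_dvd_card χ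
      rw [hG, mul_assoc] at h1
      exact ((hp.coprime_iff_not_dvd.2 (B.not_dvd χ h)).symm).dvd_of_dvd_mul_left h1
  have hdiv' : ∀ χ : IrrCharacter G, χ ∈ X ∨ χ ∈ Y → ¬ q ∣ charDegree (χ : G → ℂ) →
      charDegree (χ : G → ℂ) ∣ g₀ := fun χ h hd =>
    ((hq.coprime_iff_not_dvd.2 hd).symm.pow_right b).dvd_of_dvd_mul_left (hdiv χ h)
  -- the non-principal characters of the first family have degree divisible by `q`
  have hXq : ∀ χ ∈ X, χ ≠ principal G → q ∣ charDegree (χ : G → ℂ) := by
    intro χ hχ hne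
    by_contra hd
    have h1 := Nat.le_of_dvd hg0 (hdiv' χ (Or.inl hχ) hd)
    have h2 := hne1 χ hne
    obtain ⟨w, hw⟩ := Int.modEq_iff_dvd.1 (B.modX χ hχ)
    rcases B.signX χ hχ with hs | hs <;> rw [hs] at hw
    · rcases lt_trichotomy w 0 with h0 | h0 | h0
      · have : (p : ℤ) * w ≤ (p : ℤ) * -1 := mul_le_mul_of_nonneg_left (by omega) (by omega)
        omega
      · subst h0; omega
      · have : (p : ℤ) * 1 ≤ (p : ℤ) * w := mul_le_mul_of_nonneg_left (by omega) (by omega)
        omega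
    · rcases lt_trichotomy w (-1) with h0 | h0 | h0
      · have : (p : ℤ) * w ≤ (p : ℤ) * -2 := mul_le_mul_of_nonneg_left (by omega) (by omega)
        omega
      · subst h0; omega
      · have : (p : ℤ) * 0 ≤ (p : ℤ) * w := mul_le_mul_of_nonneg_left (by omega) (by omega)
        omega
  have hdπ : charDegree (principal G : G → ℂ) = 1 := Cfsg.Agent.CharX.charDegree_one
  have hnq : ¬ (q : ℤ) ∣ 1 := fun h =>
    hq.one_lt.ne' (by exact_mod_cast Int.eq_one_of_dvd_one (by positivity) h)
  -- an exceptional character of degree prime to `q`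
  obtain ⟨θ, hθ, hθne, hθq⟩ : ∃ θ ∈ Y, θ ≠ principal G ∧ ¬ q ∣ charDegree (θ : G → ℂ) := by
    by_contra hcon
    push Not at hcon
    obtain ⟨θ0, hθ0⟩ := B.nonempty
    have hrel := B.relation_one hθ0
    rcases B.prin with h | h
    · rw [← Finset.add_sum_erase _ _ h, B.sign_principal h, hdπ] at hrel
      have h1 : (q : ℤ) ∣ ∑ χ ∈ X.erase (principal G), sg χ * (charDegree (χ : G → ℂ) : ℤ) :=
        Finset.dvd_sum fun χ hχ => dvd_mul_of_dvd_right (Int.natCast_dvd_natCast.2
          (hXq χ (Finset.mem_of_mem_erase hχ) (Finset.ne_of_mem_erase hχ))) _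
      have hYq : (q : ℤ) ∣ δ * (charDegree (θ0 : G → ℂ) : ℤ) :=
        dvd_mul_of_dvd_right (Int.natCast_dvd_natCast.2 (hcon θ0 hθ0
          fun e => Finset.disjoint_left.1 B.disj h (e ▸ hθ0))) _
      refine hnq ?_
      have h2 := dvd_neg.2 (dvd_add h1 hYq)
      push_cast at hrel
      have he1 : -(∑ χ ∈ X.erase (principal G), sg χ * (charDegree (χ : G → ℂ) : ℤ) +
          δ * (charDegree (θ0 : G → ℂ) : ℤ)) = 1 := by linarith
      rwa [he1] at h2
    · obtain rfl : θ0 = principal G := by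
        rw [B.single h, Finset.mem_singleton] at hθ0; exact hθ0
      have hπX : principal G ∉ X := fun h' => Finset.disjoint_left.1 B.disj h' h
      have h1 : (q : ℤ) ∣ ∑ χ ∈ X, sg χ * (charDegree (χ : G → ℂ) : ℤ) :=
        Finset.dvd_sum fun χ hχ => dvd_mul_of_dvd_right (Int.natCast_dvd_natCast.2
          (hXq χ hχ fun e => hπX (e ▸ hχ))) _
      rw [hdπ] at hrel
      push_cast at hrel
      refine hnq ?_
      rcases B.sign with hd | hd <;> rw [hd] at hrel
      · rw [show ∑ χ ∈ X, sg χ * (charDegree (χ : G → ℂ) : ℤ) = -1 by linarith, dvd_neg] at h1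
        exact h1
      · rwa [show ∑ χ ∈ X, sg χ * (charDegree (χ : G → ℂ) : ℤ) = 1 by linarith] at h1
  obtain ⟨z, hz⟩ : ∃ z, z = charDegree (θ : G → ℂ) := ⟨_, rfl⟩
  obtain ⟨ρ, hρ, hρθ⟩ : ∃ ρ : Representation ℂ G (Fin z → ℂ),
      Function.Injective ρ ∧ ρ.character = (θ : G → ℂ) := by
    subst hz
    exact exists_rep_of_irr hperf hθne
  have hzg : z ∣ g₀ := hz ▸ hdiv' θ (Or.inr hθ) hθq
  have hz2 : 2 ≤ z := hz ▸ hne1 θ hθne
  have hzle : z ≤ g₀ := Nat.le_of_dvd hg0 hzg
  replace hp5 : 5 ≤ p := hp5.resolve_right fun h => by omega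
  have hcase : (δ = -1 ∧ z = e) ∨ (δ = 1 ∧ z + e = p) := by
    obtain ⟨w, hw⟩ := Int.modEq_iff_dvd.1 (B.modY θ hθ)
    rcases B.sign with hd | hd <;> rw [hd] at hw
    · refine Or.inr ⟨hd, ?_⟩
      rcases lt_trichotomy w (-1) with h0 | h0 | h0
      · have : (p : ℤ) * w ≤ (p : ℤ) * -2 := mul_le_mul_of_nonneg_left (by omega) (by omega)
        omega
      · subst h0; omega
      · have : (p : ℤ) * 0 ≤ (p : ℤ) * w := mul_le_mul_of_nonneg_left (by omega) (by omega)
        omega
    · refine Or.inl ⟨hd, ?_⟩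
      rcases lt_trichotomy w 0 with h0 | h0 | h0
      · have : (p : ℤ) * w ≤ (p : ℤ) * -1 := mul_le_mul_of_nonneg_left (by omega) (by omega)
        omega
      · subst h0; omega
      · have : (p : ℤ) * 1 ≤ (p : ℤ) * w := mul_le_mul_of_nonneg_left (by omega) (by omega)
        omega
  have hV : Nat.card V = 1 := B.V_eq_one hperf hθ hθne (by rw [← hz]; exact hcase) (by omega)
  have h2ep : 2 * e + 1 ≤ p := by
    obtain ⟨a, ha⟩ := hed
    rcases (show a = 0 ∨ a = 1 ∨ 2 ≤ a by omega) with h | h | h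
    · subst h; omega
    · subst h; omega
    · have := Nat.mul_le_mul_left e h
      omega
  obtain ⟨y0, hy0⟩ := B.exists_ne_one
  have hy : (y0 : G) ∈ (S : Subgroup G) := y0.2
  have hy1 : (y0 : G) ≠ 1 := fun h => hy0 (Subtype.ext h)
  rcases hcase with ⟨hδ, hze⟩ | ⟨hδ, hze⟩
  · -- degree `e`
    refine Or.inl ?_
    obtain ⟨k, _, _, _, φ, hφ⟩ := exists_hom_complex hp5 (S : Subgroup G) hS hsq hnot ρ hρ hy hy1
      (Or.inl (by omega))
    obtain ⟨E⟩ := equiv_psl_of_hom hp5 (S : Subgroup G) hS hsq hSn φ hy hφ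
    obtain ⟨hpe, -⟩ := B.deg_eq_succ hperf hV hθ hδ (hz.symm.trans hze) he2 h2ep
    refine ⟨⟨b, Or.inr ?_⟩, ⟨E⟩⟩
    have hc := ProjLine.two_mul_card_psl (F := ZMod p)
    rw [← Nat.card_congr E.toEquiv, hG, Nat.card_zmod, show p - 1 = 2 * e by omega,
      show Nat.gcd 2 (2 * e) = 2 from Nat.gcd_eq_left (dvd_mul_right 2 e)] at hc
    have hc' : q ^ b * g₀ = e * (p + 1) :=
      Nat.eq_of_mul_eq_mul_left (show 0 < 4 * p * e by positivity) (by linear_combination hc)
    obtain ⟨j, hj⟩ := hze ▸ hzg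
    rw [hj] at hc' hg
    obtain rfl : j = 1 := by
      rcases (show j = 0 ∨ j = 1 ∨ 2 ≤ j by omega) with h | h | h
      · rw [h, mul_zero] at hj; omega
      · exact h
      · have := Nat.mul_le_mul_left e h
        omega
    rw [mul_one, mul_comm (q ^ b)] at hc'
    have hqb : q ^ b = p + 1 := Nat.eq_of_mul_eq_mul_left (by omega) hc'
    obtain rfl : q = 2 := ((Nat.prime_dvd_prime_iff_eq Nat.prime_two hq).1
      (Nat.prime_two.dvd_of_dvd_pow (show 2 ∣ q ^ b by omega))).symm
    omega
  · -- degree `p - e`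
    have hπ : principal G ∈ X := by
      refine B.prin.resolve_right fun h => hθne ?_
      rw [B.single h, Finset.mem_singleton] at hθ
      exact hθ
    have hgz : g₀ = z := by
      obtain ⟨j, hj⟩ := hzg
      rcases (show j = 0 ∨ j = 1 ∨ 2 ≤ j by omega) with h | h | h
      · rw [h, mul_zero] at hj; omega
      · rw [hj, h, mul_one]
      · have := Nat.mul_le_mul_left z h
        omega
    subst g₀
    have hcardN : Nat.card (Subgroup.normalizer ((S : Subgroup G) : Set G)) = p * e := by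
      rw [B.cardN, hV, mul_one]
    have hC : Subgroup.centralizer ((S : Subgroup G) : Set G) = (S : Subgroup G) := by
      refine (Subgroup.eq_of_le_of_card_ge ?_ (le_of_eq (by rw [B.cardC, hV, mul_one, hS]))).symm
      haveI : IsCyclic (S : Subgroup G) := isCyclic_of_prime_card hS
      letI := IsCyclic.commGroup (α := (S : Subgroup G))
      exact fun x hx => Subgroup.mem_centralizer_iff.2 fun t ht =>
        congrArg Subtype.val (mul_comm (⟨t, ht⟩ : (S : Subgroup G)) ⟨x, hx⟩)
    have heq : e ∣ q ^ b := by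
      have h := (Subgroup.normalizer ((S : Subgroup G) : Set G)).card_subgroup_dvd_card
      rw [hcardN, hG, mul_assoc] at h
      refine Nat.Coprime.dvd_of_dvd_mul_right ?_ (Nat.dvd_of_mul_dvd_mul_left hp.pos h)
      refine Nat.coprime_of_dvd' fun l hl hle hlz => ?_
      have h1 : l ∣ p := hze ▸ dvd_add hlz hle
      rw [(Nat.prime_dvd_prime_iff_eq hl hp).1 h1] at hle
      have := Nat.le_of_dvd (by omega) hle
      omega
    obtain ⟨f, -, hef⟩ := (Nat.dvd_prime_pow hq).1 heq
    have hrel := B.relation_one hθ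
    rw [← Finset.add_sum_erase _ _ hπ, B.sign_principal hπ, hδ, hdπ, ← hz] at hrel
    push_cast at hrel
    have hX' : ∀ χ ∈ X.erase (principal G), q ∣ charDegree (χ : G → ℂ) := fun χ hχ =>
      hXq χ (Finset.mem_of_mem_erase hχ) (Finset.ne_of_mem_erase hχ)
    obtain rfl : q = 2 := by
      have h1 : (q : ℤ) ∣ ((1 + z : ℕ) : ℤ) := by
        have h2 : (q : ℤ) ∣ ∑ χ ∈ X.erase (principal G), sg χ * (charDegree (χ : G → ℂ) : ℤ) :=
          Finset.dvd_sum fun χ hχ => dvd_mul_of_dvd_right (Int.natCast_dvd_natCast.2 (hX' χ hχ)) _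
        have h3 : ((1 + z : ℕ) : ℤ) =
            -∑ χ ∈ X.erase (principal G), sg χ * (charDegree (χ : G → ℂ) : ℤ) := by
          push_cast; linarith
        rw [h3, dvd_neg]
        exact h2
      rw [Int.natCast_dvd_natCast] at h1
      have hqe : q ∣ e := by
        rcases f with _ | f
        · rw [pow_zero] at hef; omega
        · rw [hef]; exact dvd_pow_self q (Nat.succ_ne_zero f)
      have h2 : q ∣ p + 1 := by
        rw [show p + 1 = (1 + z) + e by omega]; exact dvd_add h1 hqe
      have h3 : q ∣ 2 := by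
        rw [show 2 = (p + 1) - (p - 1) by omega]; exact Nat.dvd_sub h2 (hqe.trans hed)
      exact (Nat.prime_dvd_prime_iff_eq hq Nat.prime_two).1 h3
    rcases (show f = 0 ∨ f = 1 ∨ 2 ≤ f by omega) with hf | hf | hf
    · subst hf; rw [pow_zero] at hef; omega
    · -- `e = 2`
      subst hf
      rw [pow_one] at hef
      subst hef
      refine Or.inr ?_
      obtain ⟨χ, hχ⟩ := Finset.card_eq_one.1 (show (X.erase (principal G)).card = 1 by
        rw [Finset.card_erase_of_mem hπ, B.cardX])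
      have hmem : χ ∈ X.erase (principal G) := hχ ▸ Finset.mem_singleton_self χ
      rw [hχ, Finset.sum_singleton] at hrel
      have hd : charDegree (χ : G → ℂ) = p - 1 := by
        rcases B.signX χ (Finset.mem_of_mem_erase hmem) with h | h <;> rw [h] at hrel <;> omega
      have h1 : p - 1 ∣ 2 ^ b := by
        have h := hd ▸ hdiv χ (Or.inl (Finset.mem_of_mem_erase hmem))
        refine Nat.Coprime.dvd_of_dvd_mul_right ?_ h
        rw [show p - 1 = z + 1 by omega]
        simp
      obtain ⟨j, -, hj⟩ := (Nat.dvd_prime_pow Nat.prime_two).1 h1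
      refine ⟨⟨j, by omega⟩, ?_⟩
      have hbd : 2 ^ b ≤ z + 1 := by
        refine two_pow_le_of_odd hperf (by omega) (Nat.odd_iff.2 (by omega)) (by omega) ?_
          (by rw [hG]; ring) S hS hC hcardN
        intro ψ hne hnd hodd
        rcases B.cover hV ψ with h | h | h
        · exfalso
          have h2 := hX' ψ (Finset.mem_erase.2 ⟨hne, h⟩)
          rw [Nat.odd_iff] at hodd
          omega
        · have h2 := B.deg_Y h hθ
          rw [irr_one_eq_charDegree, irr_one_eq_charDegree, ← hz] at h2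
          exact_mod_cast h2
        · exact absurd h hnd
      calc Nat.card G = p * (2 ^ b * z) := by rw [hG]; ring
        _ ≤ p * ((z + 1) * z) := Nat.mul_le_mul_left p (Nat.mul_le_mul_right z hbd)
        _ < p * (p * p) := Nat.mul_lt_mul_of_pos_left
            (lt_of_le_of_lt (Nat.mul_le_mul_left _ (show z ≤ p by omega))
              (Nat.mul_lt_mul_of_pos_right (show z + 1 < p by omega) hp.pos)) hp.pos
        _ = p ^ 3 := by ring
    · -- `4 ∣ e`
      refine Or.inl ?_
      have h4e : 4 ∣ e := by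
        rw [hef, show (4 : ℕ) = 2 ^ 2 by norm_num]; exact Nat.pow_dvd_pow 2 hf
      have h4p := h4e.trans hed
      obtain ⟨χ, hχ, hχ4⟩ : ∃ χ ∈ X.erase (principal G), ¬ 4 ∣ charDegree (χ : G → ℂ) := by
        by_contra hcon
        push Not at hcon
        have h1 : (4 : ℤ) ∣ ∑ χ ∈ X.erase (principal G), sg χ * (charDegree (χ : G → ℂ) : ℤ) :=
          Finset.dvd_sum fun χ hχ => dvd_mul_of_dvd_right (by exact_mod_cast hcon χ hχ) _
        omega
      obtain ⟨u, hu⟩ := hX' χ hχ
      have hudd : ¬ 2 ∣ u := fun h => hχ4 (by omega)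
      have huz : u ∣ z := ((Nat.prime_two.coprime_iff_not_dvd.2 hudd).symm.pow_right b).dvd_of_dvd_mul_left
        ((dvd_mul_left u 2).trans (hu ▸ hdiv χ (Or.inl (Finset.mem_of_mem_erase hχ))))
      have hu1 : 2 * u = p + 1 ∨ 2 * u + 1 = p := by
        obtain ⟨w, hw⟩ := Int.modEq_iff_dvd.1 (B.modX χ (Finset.mem_of_mem_erase hχ))
        rw [hu] at hw
        push_cast at hw
        have := Nat.le_of_dvd (by omega) huz
        rcases B.signX χ (Finset.mem_of_mem_erase hχ) with hs | hs <;> rw [hs] at hw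
        · left
          rcases lt_trichotomy w (-1) with h0 | h0 | h0
          · have : (p : ℤ) * w ≤ (p : ℤ) * -2 := mul_le_mul_of_nonneg_left (by omega) (by omega)
            omega
          · subst h0; omega
          · have : (p : ℤ) * 0 ≤ (p : ℤ) * w := mul_le_mul_of_nonneg_left (by omega) (by omega)
            omega
        · right
          rcases lt_trichotomy w (-1) with h0 | h0 | h0
          · have : (p : ℤ) * w ≤ (p : ℤ) * -2 := mul_le_mul_of_nonneg_left (by omega) (by omega)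
            omega
          · subst h0; omega
          · have : (p : ℤ) * 0 ≤ (p : ℤ) * w := mul_le_mul_of_nonneg_left (by omega) (by omega)
            omega
      have huz' : u = z := by
        obtain ⟨j, hj⟩ := huz
        rcases (show j = 0 ∨ j = 1 ∨ j = 2 ∨ 3 ≤ j by omega) with h | h | h | h
        · rw [h, mul_zero] at hj; omega
        · rw [hj, h, mul_one]
        · exfalso
          rw [h] at hj
          omega
        · exfalso
          have := Nat.mul_le_mul_left u h
          omega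
      have hp2e : p = 2 * e + 1 := by
        rcases hu1 with h | h
        · omega
        · exfalso
          obtain ⟨a, ha⟩ := hed
          rcases (show a = 0 ∨ a = 1 ∨ 2 ≤ a by omega) with h' | h' | h'
          · subst h'; omega
          · subst h'; omega
          · have := Nat.mul_le_mul_left e h'
            omega
      have hzd : z = e + 1 := by omega
      have heven : 2 ∣ e := (show (2 : ℕ) ∣ 4 by norm_num).trans h4e
      refine ⟨⟨f + 1, Or.inl (by rw [pow_succ, ← hef]; omega)⟩, ?_⟩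
      -- an element inducing a non-trivial power map
      have hNC : ¬ Subgroup.normalizer ((S : Subgroup G) : Set G) ≤
          Subgroup.centralizer ((S : Subgroup G) : Set G) := fun hle => by
        have h := Subgroup.card_dvd_of_le hle
        rw [hcardN, hC, hS] at h
        have := Nat.le_of_dvd hp.pos h
        have := Nat.mul_le_mul_left p he2
        omega
      obtain ⟨n, hn, hnc'⟩ := SetLike.not_le_iff_exists.1 hNC
      obtain ⟨a, ha⟩ := exists_pow_eq hS hy hy1 ((Subgroup.mem_normalizer_iff.1 hn _).1 hy)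
      have ha1 : (a : ZMod p) ≠ 1 := by
        intro h
        refine hnc' (Subgroup.mem_centralizer_iff.2 fun x hx => ?_)
        obtain ⟨c, rfl⟩ := exists_pow_eq hS hy hy1 hx
        rw [← Nat.cast_one, ZMod.natCast_eq_natCast_iff] at h
        have e1 : n * y0 * n⁻¹ = (y0 : G) := by
          rw [ha, pow_eq_pow_mod a (pow_p_eq_one hS hy), h, ← pow_eq_pow_mod 1 (pow_p_eq_one hS hy),
            pow_one]
        exact ((Commute.pow_left (show Commute (y0 : G) n from (mul_inv_eq_iff_eq_mul.1 e1).symm) c)).eq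
      have ha0 : (a : ZMod p) ≠ 0 := by
        rw [Ne, ZMod.natCast_eq_zero_iff]
        rintro ⟨c, rfl⟩
        rw [pow_mul, pow_p_eq_one hS hy, one_pow] at ha
        exact hy1 (conj_eq_one_iff.1 ha)
      have htw : (a : ZMod p) ^ (z - 2) ≠ 1 := by
        intro h
        refine ha1 ?_
        have h1 := ZMod.pow_card_sub_one_eq_one ha0
        rw [show p - 1 = (z - 2) + (z - 2) + 2 by omega, pow_add, pow_add, h, one_mul, one_mul] at h1
        obtain ⟨c, hc⟩ : ∃ c, z - 2 = 2 * c + 1 := ⟨(z - 2) / 2, by omega⟩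
        rw [hc, pow_succ, pow_mul, h1, one_pow, one_mul] at h
        exact h
      have E : EdgeHyp p (S : Subgroup G) (y0 : G) ρ :=
        { deg := by omega
          selfCent := fun x hx => by
            rw [← hC]
            exact Subgroup.mem_centralizer_iff.2 hx
          vanish := fun ψ hd s hs hs1 => by
            have h := B.zeroV ψ hd s hs hs1 1 V.one_mem
            rwa [one_mul] at h
          twist := ⟨n, hn, a, ha, htw⟩
          constituent := by
            rw [hρθ]
            exact exists_constituent B hV hθ hπ hδ (by omega) hp2e (hz.symm.trans hzd) heven hX' }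
      obtain ⟨k, _, _, _, φ, hφ⟩ := exists_hom_complex hp5 (S : Subgroup G) hS hsq hnot ρ hρ hy hy1
        (Or.inr E)
      exact equiv_psl_of_hom hp5 (S : Subgroup G) hS hsq hSn φ hy hφ

end Cfsg.Agent.SmallDim
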