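import Cfsg.Agent.Lib.SmallDim.PSLMain
import Cfsg.Agent.Lib.Solvable.HHThmB
import Mathlib.LinearAlgebra.Eigenspace.Semisimple
import Mathlib.LinearAlgebra.Eigenspace.Triangularizable
import Mathlib.RingTheory.SimpleModule.Basic
import Mathlib.RingTheory.ZMod.UnitsCyclic

/-!
Groups with a faithful character of degree `(p - 1) / 2`.
-/

set_option autoImplicit false
set_option linter.unusedSectionVars false
set_option linter.style.haveILetI false

namespace Cfsg.Agent.SmallDim

open Module IsLocalRing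
open scoped Classical MatrixGroups

universe u

variable {G : Type u} [Group G] [Fintype G] {p : ℕ} [hpF : Fact p.Prime]

/-- A normal `p'`-subgroup centralises the elements of order `p`, in small degree. -/
theorem commute_of_normal_compl {k : Type*} [Field k] [CharP k p] {U : Type*} [AddCommGroup U]
    [Module k U] [FiniteDimensional k U] (σ : Representation k G U) (hσ : Function.Injective σ)
    (hd : Module.finrank k U + 2 ≤ p) (hsq : ¬ p ^ 2 ∣ Nat.card G) (K : Subgroup G) [K.Normal]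
    (hK : ¬ p ∣ Nat.card K) {x : G} (hx : x ^ p = 1) {z : G} (hz : z ∈ K) : z * x = x * z := by
  rcases eq_or_ne x 1 with rfl | hx1
  · rw [mul_one, one_mul]
  have hox : orderOf x = p := orderOf_eq_prime hx hx1
  set S := Subgroup.zpowers x with hSd
  have hS : Nat.card S = p := by rw [Nat.card_zpowers, hox]
  set H := K ⊔ S with hH
  have hKH : K ≤ H := le_sup_left
  have hSH : S ≤ H := le_sup_right
  set xh : H := ⟨x, hSH (Subgroup.mem_zpowers x)⟩ with hxh
  have hdisj : K ⊓ S = ⊥ := Subgroup.inf_eq_bot_of_coprime (by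
    rw [hS]; exact (hpF.out.coprime_iff_not_dvd.2 hK).symm)
  have hindex : (K.subgroupOf H).index = p := by
    show K.relIndex H = p
    rw [hH, Subgroup.relIndex_sup_left, ← Subgroup.inf_relIndex_right, hdisj, Subgroup.relIndex_bot_left,
      hS]
  have hKc : Nat.card (K.subgroupOf H) = Nat.card K :=
    Nat.card_congr (Subgroup.subgroupOfEquivOfLe hKH).toEquiv
  by_cases hO : Cfsg.pCore p H = ⊥
  · exfalso
    have hsol : Cfsg.IsPSolvable p H := by
      refine ⟨2, ![⊥, K.subgroupOf H, ⊤], rfl, rfl, ?_, fun i => ?_, fun i => ?_⟩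
      · rw [Fin.monotone_iff_le_succ]
        intro i
        fin_cases i
        · exact bot_le
        · exact le_top
      · fin_cases i <;> simp <;> infer_instance
      · fin_cases i
        · right
          show ((⊥ : Subgroup H).relIndex (K.subgroupOf H)).Coprime p
          rw [Subgroup.relIndex_bot_left, hKc]
          exact (hpF.out.coprime_iff_not_dvd.2 hK).symm
        · left
          refine ⟨1, ?_⟩
          show (K.subgroupOf H).relIndex ⊤ = p ^ 1
          rw [Subgroup.relIndex_top_right, hindex, pow_one]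
    have hA : (σ x - 1) ^ Module.finrank k U = 0 :=
      A_pow_eq_zero σ (S := S) hS (Subgroup.mem_zpowers x)
    have hb := HHThmB.exists_bound (σ.comp H.subtype) (hσ.comp H.subtype_injective) hsol hO xh 1 le_rfl
      (by rw [pow_one, ← Subgroup.orderOf_coe, hox])
    have e : (σ.comp H.subtype) xh = σ x := rfl
    rw [e] at hb
    rcases hb with hb | ⟨n₀, q, m, h1, h2, -, -, -, -, hb⟩
    · exact hb (pow_eq_zero_of_le (by rw [pow_one]; omega) hA)
    · obtain rfl : n₀ = 1 := le_antisymm h2 h1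
      exact hb (pow_eq_zero_of_le (by rw [pow_one, Nat.sub_self, pow_zero, one_mul]; omega) hA)
  · set P := Cfsg.pCore p H with hP
    haveI : P.Normal := FittingCores.pCore_normal p
    obtain ⟨i, hi⟩ := (FittingCores.pCore_isPGroup (G := H) p).exists_card_eq
    have hi1 : i = 1 := by
      rcases (show i = 0 ∨ i = 1 ∨ 2 ≤ i by omega) with h | h | h
      · rw [h, pow_zero, Subgroup.card_eq_one] at hi
        exact absurd hi hO
      · exact h
      · exact absurd ((pow_dvd_pow p h).trans (hi ▸ (Subgroup.card_subgroup_dvd_card P).trans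
          H.card_subgroup_dvd_card)) hsq
    rw [hi1, pow_one] at hi
    have hmem : ∀ w : H, w ^ p = 1 → w ∈ P := fun w hw =>
      mem_of_pow_eq_one P hi (fun h => hsq (h.trans H.card_subgroup_dvd_card))
        (by rw [Subgroup.normalizer_eq_top]; exact Subgroup.mem_top _) hw
    have hxP : xh ∈ P := hmem xh (Subtype.ext hx)
    have hcP : (⟨z, hKH hz⟩ : H) * xh * (⟨z, hKH hz⟩ : H)⁻¹ * xh⁻¹ ∈ P :=
      P.mul_mem ((inferInstance : P.Normal).conj_mem _ hxP _) (P.inv_mem hxP)
    have hsub : P ≤ S.subgroupOf H := by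
      intro w hw
      obtain ⟨b, rfl⟩ := exists_pow_eq hi hxP (fun h => hx1 (congrArg Subtype.val h)) hw
      exact Subgroup.mem_subgroupOf.2 (by
        rw [SubmonoidClass.coe_pow]; exact pow_mem (Subgroup.mem_zpowers x) b)
    have h1 : z * x * z⁻¹ * x⁻¹ ∈ S := Subgroup.mem_subgroupOf.1 (hsub hcP)
    have h2 : z * x * z⁻¹ * x⁻¹ ∈ K := by
      rw [show z * x * z⁻¹ * x⁻¹ = z * (x * z⁻¹ * x⁻¹) by group]
      exact K.mul_mem hz ((inferInstance : K.Normal).conj_mem _ (K.inv_mem hz) x)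
    have h3 : z * x * z⁻¹ * x⁻¹ ∈ K ⊓ S := ⟨h2, h1⟩
    rw [hdisj, Subgroup.mem_bot] at h3
    exact mul_inv_eq_iff_eq_mul.1 (mul_inv_eq_one.1 h3)

variable {d : ℕ}

theorem isSemisimple_rep (ρ : Representation ℂ G (Fin d → ℂ)) (g : G) :
    Module.End.IsSemisimple (ρ g) := by
  refine Module.End.isSemisimple_of_squarefree_aeval_eq_zero
    (p := (Polynomial.X ^ orderOf g - 1 : Polynomial ℂ)) ?_ ?_
  · exact ((Polynomial.X_pow_sub_one_separable_iff).2
      (Nat.cast_ne_zero.2 (orderOf_pos g).ne')).squarefree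
  · rw [map_sub, map_pow, Polynomial.aeval_X, map_one, ← map_pow, pow_orderOf_eq_one, map_one,
      sub_self]

theorem iSup_eigenspace_rep (ρ : Representation ℂ G (Fin d → ℂ)) (g : G) :
    ⨆ μ : ℂ, Module.End.eigenspace (ρ g) μ = ⊤ := by
  rw [← Module.End.iSup_maxGenEigenspace_eq_top (ρ g)]
  refine iSup_congr fun μ => ?_
  rw [((isSemisimple_rep ρ g).isFinitelySemisimple).maxGenEigenspace_eq_eigenspace]

/-- A stable subspace moved by `y` has dimension at least the order of a power map. -/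
theorem orderOf_le_finrank (ρ : Representation ℂ G (Fin d → ℂ)) {y : G} (hyp : y ^ p = 1)
    (W : Submodule ℂ (Fin d → ℂ)) (hy : ∀ w ∈ W, ρ y w ∈ W) {w₀ : Fin d → ℂ} (hw₀ : w₀ ∈ W)
    (hne : ρ y w₀ ≠ w₀) {n : G} {a : ℕ} (hn : n * y * n⁻¹ = y ^ a) (hnW : ∀ w ∈ W, ρ n w ∈ W)
    (ha : (a : ZMod p) ≠ 0) : orderOf (a : ZMod p) ≤ Module.finrank ℂ W := by
  set f : Module.End ℂ W := (ρ y).restrict hy with hf
  have hfs : Module.End.IsSemisimple f := (isSemisimple_rep ρ y).restrict hy
  obtain ⟨ζ, hζ, v, hvW, hv, hv0⟩ : ∃ ζ : ℂ, ζ ≠ 1 ∧ ∃ v ∈ W, ρ y v = ζ • v ∧ v ≠ 0 := by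
    by_contra hcon
    push Not at hcon
    have htop := Module.End.iSup_maxGenEigenspace_eq_top f
    have hle : ⨆ μ, Module.End.maxGenEigenspace f μ ≤ LinearMap.ker (f - 1) := by
      refine iSup_le fun μ => ?_
      rw [hfs.isFinitelySemisimple.maxGenEigenspace_eq_eigenspace]
      intro v hv
      rw [Module.End.mem_eigenspace_iff] at hv
      rw [LinearMap.mem_ker, LinearMap.sub_apply, Module.End.one_apply, hv]
      rcases eq_or_ne μ 1 with rfl | hμ
      · rw [one_smul, sub_self]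
      · have h1 : ρ y (v : Fin d → ℂ) = μ • (v : Fin d → ℂ) := congrArg Subtype.val hv
        rw [show v = 0 from Subtype.ext (hcon μ hμ v v.2 h1), smul_zero, sub_zero]
    rw [htop, top_le_iff, LinearMap.ker_eq_top] at hle
    have hle' : f = 1 := sub_eq_zero.1 hle
    exact hne (congrArg Subtype.val (LinearMap.congr_fun hle' ⟨w₀, hw₀⟩))
  have hpow : ∀ i : ℕ, ρ (y ^ i) v = ζ ^ i • v := fun i => by
    induction i with
    | zero => simp
    | succ i ih =>
      rw [pow_succ, map_mul, Module.End.mul_apply, hv, map_smul, ih, smul_smul, pow_succ']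
  have hζp : ζ ^ p = 1 := by
    have h := hpow p
    rw [hyp, map_one, Module.End.one_apply] at h
    exact (smul_left_injective ℂ hv0 ((one_smul ℂ v).trans h)).symm
  have hord : orderOf ζ = p := orderOf_eq_prime hζp hζ
  -- the inverse exponent
  set b : ℕ := ((a : ZMod p)⁻¹).val with hb
  have hab : (a : ZMod p) * (b : ZMod p) = 1 := by
    rw [hb, ZMod.natCast_zmod_val, mul_inv_cancel₀ ha]
  have hvec : ∀ i : ℕ, ∃ w ∈ W, w ≠ 0 ∧ ρ y w = ζ ^ (b ^ i) • w := by
    intro i
    induction i with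
    | zero => exact ⟨v, hvW, hv0, by rw [pow_zero, pow_one, hv]⟩
    | succ i ih =>
      obtain ⟨w, hw, hw0, hwy⟩ := ih
      have hyw : ∀ j : ℕ, ρ (y ^ j) w = (ζ ^ b ^ i) ^ j • w := fun j => by
        induction j with
        | zero => simp
        | succ j ih =>
          rw [pow_succ, map_mul, Module.End.mul_apply, hwy, map_smul, ih, smul_smul, pow_succ']
      refine ⟨ρ n w, hnW w hw, fun h => hw0 ?_, ?_⟩
      · have := congrArg (ρ n⁻¹) h
        rwa [map_zero, ← Module.End.mul_apply, rho_inv_mul, Module.End.one_apply] at this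
      · have e : y * n = n * y ^ b := by
          have hab' : y ^ (a * b) = y := by
            have h1 : a * b % p = 1 % p :=
              (ZMod.natCast_eq_natCast_iff' (a * b) 1 p).1 (by push_cast; exact hab)
            rw [pow_eq_pow_mod (a * b) hyp, h1, ← pow_eq_pow_mod 1 hyp, pow_one]
          calc y * n = (y ^ a) ^ b * n := by rw [← pow_mul, hab']
            _ = n * y ^ b := by rw [← hn, conj_pow, inv_mul_cancel_right]
        rw [← Module.End.mul_apply, ← map_mul, e, map_mul, Module.End.mul_apply, hyw, map_smul,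
          ← pow_mul, ← pow_succ]
  choose w hwW hw0 hwy using hvec
  have hba : orderOf (b : ZMod p) = orderOf (a : ZMod p) := by
    rw [hb, ZMod.natCast_zmod_val]
    refine orderOf_eq_orderOf_iff.2 fun j => ?_
    rw [inv_pow, inv_eq_one]
  have hli : LinearIndependent ℂ fun i : Fin (orderOf (a : ZMod p)) => (⟨w i, hwW i⟩ : W) := by
    refine Module.End.eigenvectors_linearIndependent' f
      (fun i : Fin (orderOf (a : ZMod p)) => ζ ^ (b ^ (i : ℕ))) ?_ (fun i => (⟨w i, hwW i⟩ : W)) fun i =>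
      ⟨Module.End.mem_eigenspace_iff.2 (Subtype.ext (hwy i)), fun h => hw0 i (congrArg Subtype.val h)⟩
    intro i j h
    simp only at h
    have h1 : (b ^ (i : ℕ)) ≡ b ^ (j : ℕ) [MOD p] := by
      have := (isOfFinOrder_iff_pow_eq_one.2 ⟨p, hpF.out.pos, hζp⟩).pow_eq_pow_iff_modEq.1 h
      rwa [hord] at this
    have h2 : (b : ZMod p) ^ (i : ℕ) = (b : ZMod p) ^ (j : ℕ) := by
      have := (ZMod.natCast_eq_natCast_iff _ _ p).2 h1
      simpa using this
    exact Fin.ext (pow_injOn_Iio_orderOf (show (i : ℕ) < orderOf (b : ZMod p) from hba.symm ▸ i.2)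
      (show (j : ℕ) < orderOf (b : ZMod p) from hba.symm ▸ j.2) h2)
  simpa using hli.fintype_card_le_finrank

section Centraliser

variable {k : Type} [Field k]

/-- An element commuting with the standard transvection in `PGL₂`. -/
theorem comm_upper (hp2 : (2 : k) ≠ 0) (z : Matrix.SpecialLinearGroup (Fin 2) k)
    (h : Commute (Matrix.SpecialLinearGroup.toPGL z) (Matrix.SpecialLinearGroup.toPGL (sU 1))) :
    z 1 0 = 0 ∧ z 0 0 = z 1 1 := by
  have h' : Matrix.SpecialLinearGroup.toPGL ((z * sU 1)⁻¹ * (sU 1 * z)) = 1 := by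
    rw [map_mul, map_inv, map_mul, map_mul, h.eq, inv_mul_cancel]
  rw [← MonoidHom.mem_ker, Matrix.SpecialLinearGroup.toPGL_ker] at h'
  have e : (sU 1 * z).1 = (z * sU 1).1 * ((z * sU 1)⁻¹ * (sU 1 * z)).1 := by
    rw [← Matrix.SpecialLinearGroup.coe_mul, mul_inv_cancel_left]
  rcases center_sl_eq h' with hc | hc
  · rw [hc, mul_one] at e
    rw [Matrix.SpecialLinearGroup.coe_mul, Matrix.SpecialLinearGroup.coe_mul] at e
    have e1 := congrFun (congrFun e 0) 0
    have e2 := congrFun (congrFun e 0) 1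
    simp [sU, Matrix.mul_apply, Matrix.vecMul, dotProduct, Fin.sum_univ_two] at e1 e2
    exact ⟨e1, by linear_combination -e2⟩
  · exfalso
    rw [hc, Matrix.mul_neg, mul_one, Matrix.SpecialLinearGroup.coe_mul,
      Matrix.SpecialLinearGroup.coe_mul] at e
    have e1 := congrFun (congrFun e 1) 0
    have e2 := congrFun (congrFun e 0) 0
    have e3 := congrFun (congrFun e 1) 1
    simp [sU, Matrix.mul_apply, Matrix.vecMul, dotProduct, Fin.sum_univ_two] at e1 e2 e3
    have h10 : z 1 0 = 0 := (mul_eq_zero.1 (by linear_combination e1 :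
      (2 : k) * z 1 0 = 0)).resolve_left hp2
    have h00 : z 0 0 = 0 := (mul_eq_zero.1 (by linear_combination e2 - h10 :
      (2 : k) * z 0 0 = 0)).resolve_left hp2
    have := z.2
    rw [Matrix.det_fin_two, h10, h00] at this
    simp at this

end Centraliser

/-- The main theorem. -/
theorem center_quotient_psl (hp5 : 5 ≤ p) (hdvd : p ∣ Nat.card G) (hsq : ¬ p ^ 2 ∣ Nat.card G)
    (hnn : ∀ H : Subgroup G, H.Normal → Nat.card H ≠ p) (ρ : Representation ℂ G (Fin d → ℂ))
    (hρ : Function.Injective ρ) (hd : 2 * d + 1 = p) :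
    Nonempty ((G ⧸ Subgroup.center G) ≃* Matrix.ProjectiveSpecialLinearGroup (Fin 2) (ZMod p)) := by
  have hp := hpF.out
  obtain ⟨y, hy⟩ := exists_prime_orderOf_dvd_card' (G := G) p hdvd
  set S := Subgroup.zpowers y with hSd
  have hS : Nat.card S = p := by rw [Nat.card_zpowers, hy]
  have hyS : y ∈ S := Subgroup.mem_zpowers y
  have hy1 : y ≠ 1 := fun h => hp.ne_one (by rw [← hy, h, orderOf_one])
  have hyp : y ^ p = 1 := pow_p_eq_one hS hyS
  have hnn' : ∀ H : Subgroup G, H.Normal → IsPGroup p H → H = ⊥ := by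
    intro H hH hHp
    obtain ⟨i, hi⟩ := hHp.exists_card_eq
    rcases (show i = 0 ∨ i = 1 ∨ 2 ≤ i by omega) with h | h | h
    · rw [h, pow_zero, Subgroup.card_eq_one] at hi; exact hi
    · rw [h, pow_one] at hi; exact absurd hi (hnn H hH)
    · exact absurd ((pow_dvd_pow p h).trans (hi ▸ H.card_subgroup_dvd_card)) hsq
  obtain ⟨k, _, _, _, φ₀, hφ₀⟩ := exists_hom_complex hp5 S hS hsq hnn' ρ hρ hyS hy1
    (Or.inl (by omega))
  obtain ⟨φ, -, hφy, hle, hge⟩ := exists_conj_hom hp5 hsq φ₀ hφ₀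
  set K := φ.ker with hK
  have h2k : (2 : k) ≠ 0 := two_ne_zero_of hp5
  have hTne : φ y ≠ 1 := by
    rw [hφy, Ne, ← MonoidHom.mem_ker, Matrix.SpecialLinearGroup.toPGL_ker]
    intro h
    rcases center_sl_eq h with h | h <;>
      simpa [sU] using congrFun (congrFun h 0) 1
  have hKp : ¬ p ∣ Nat.card K := by
    intro h
    obtain ⟨z, hz⟩ := exists_prime_orderOf_dvd_card' (G := K) p h
    have h1 : p * Nat.card (Subgroup.map φ S) ∣ Nat.card G := by
      have hyim : orderOf (φ y) = p := orderOf_eq_prime (by rw [← map_pow, hyp, map_one]) hTne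
      have e1 : Nat.card (Subgroup.map φ S) = p := by
        rw [hSd, MonoidHom.map_zpowers, Nat.card_zpowers, hyim]
      rw [e1, Subgroup.card_eq_card_quotient_mul_card_subgroup K,
        Nat.card_congr (QuotientGroup.quotientKerEquivRange φ).toEquiv, mul_comm]
      exact Nat.mul_dvd_mul (hyim ▸ Subgroup.orderOf_dvd_natCard φ.range ⟨y, rfl⟩) h
    rw [hSd, MonoidHom.map_zpowers, Nat.card_zpowers,
      orderOf_eq_prime (by rw [← map_pow, hyp, map_one]) hTne, ← pow_two] at h1
    exact hsq h1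
  -- the reduction
  obtain ⟨V, -, hch, -, σ, -, hinj, -⟩ := exists_reduction hnn' ρ hρ
  haveI := hch
  have hcomm : ∀ x, x ^ p = 1 → ∀ z ∈ K, z * x = x * z := fun x hx z hz =>
    commute_of_normal_compl σ hinj (by rw [Module.finrank_fin_fun]; omega) hsq K hKp hx hz
  have hKco : (Nat.card K).Coprime p := (hp.coprime_iff_not_dvd.2 hKp).symm
  -- elements of `K x` of order dividing `p`
  have huniq : ∀ x z, x ^ p = 1 → z ^ p = 1 → φ x = φ z → x = z := by
    intro x z hx hz e
    have hk : x * z⁻¹ ∈ K := by rw [hK, MonoidHom.mem_ker, map_mul, map_inv, e, mul_inv_cancel]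
    have hc := hcomm z hz _ hk
    have h1 : (x * z⁻¹) ^ p = 1 := by
      have : x = (x * z⁻¹) * z := by group
      have h2 : ((x * z⁻¹) * z) ^ p = (x * z⁻¹) ^ p * z ^ p := (Commute.mul_pow hc p)
      rw [← this, hx, hz, mul_one] at h2
      exact h2.symm
    have h2 : (x * z⁻¹) ^ Nat.card K = 1 := by
      have : (⟨x * z⁻¹, hk⟩ : K) ^ Nat.card K = 1 := pow_card_eq_one'
      exact congrArg Subtype.val this
    exact mul_inv_eq_one.1 (orderOf_eq_one_iff.1
      (Nat.eq_one_of_dvd_coprimes hKco (orderOf_dvd_of_pow_eq_one h2) (orderOf_dvd_of_pow_eq_one h1)))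
  have hlift : ∀ g, φ g ^ p = 1 → ∃ x, x ^ p = 1 ∧ φ x = φ g := by
    intro g hg
    obtain ⟨j, hj⟩ : ∃ j : ℕ, Nat.card K * j ≡ 1 [MOD p] := by
      refine ⟨((Nat.card K : ZMod p)⁻¹).val, (ZMod.natCast_eq_natCast_iff _ _ p).1 ?_⟩
      push_cast
      rw [ZMod.natCast_zmod_val, mul_inv_cancel₀ ?_]
      rw [Ne, ZMod.natCast_eq_zero_iff]; exact hKp
    refine ⟨g ^ (Nat.card K * j), ?_, ?_⟩
    · have hk : g ^ p ∈ K := by rw [hK, MonoidHom.mem_ker, map_pow, hg]
      have : (⟨g ^ p, hk⟩ : K) ^ Nat.card K = 1 := pow_card_eq_one'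
      have h' : (g ^ p) ^ Nat.card K = 1 := congrArg Subtype.val this
      rw [← pow_mul, mul_comm, pow_mul, pow_mul, h', one_pow]
    · rw [map_pow, pow_eq_pow_mod _ hg, hj, ← pow_eq_pow_mod 1 hg, pow_one]
  have hP : (iotaSL k p).range ≤ φ.range := by
    refine hge.resolve_right fun h => hnn S ⟨fun a ha g => ?_⟩ hS
    have hap : (g * a * g⁻¹) ^ p = 1 := by
      rw [conj_pow, pow_p_eq_one hS ha, mul_one, mul_inv_cancel]
    obtain ⟨b, hb⟩ := Subgroup.mem_zpowers_iff.1 (h _ hap)
    rw [← map_zpow] at hb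
    have : y ^ b = g * a * g⁻¹ := huniq _ _
      (by rw [← zpow_natCast, ← zpow_mul, mul_comm, zpow_mul, zpow_natCast, hyp, one_zpow]) hap hb
    exact this ▸ S.zpow_mem hyS b
  -- the subgroup generated by the elements of order `p`
  set G0 := Subgroup.closure {x : G | x ^ p = 1} with hG0
  have hG0n : G0.Normal := ⟨fun a ha g => by
    have h : G0 ≤ G0.comap (MulAut.conj g).toMonoidHom :=
      (Subgroup.closure_le _).2 fun x hx => Subgroup.subset_closure (by
        show (g * x * g⁻¹) ^ p = 1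
        rw [conj_pow, hx, mul_one, mul_inv_cancel])
    exact h ha⟩
  have hKG0 : ∀ z ∈ K, ∀ g ∈ G0, z * g = g * z := fun z hz g hg => by
    have h : G0 ≤ Subgroup.centralizer ({z} : Set G) :=
      (Subgroup.closure_le _).2 fun x hx => Subgroup.mem_centralizer_singleton_iff.2
        (hcomm x hx z hz).symm
    exact (Subgroup.mem_centralizer_singleton_iff.1 (h hg)).symm
  have hPG0 : ∀ X ∈ (iotaSL k p).range, ∃ g ∈ G0, φ g = X := by
    have h2 : (2 : ZMod p) ≠ 0 := two_ne_zero_of hp5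
    have hclo : Subfield.closure ({1} : Set (ZMod p)) = ⊤ := eq_top_iff.2 fun x _ => by
      rw [← ZMod.natCast_zmod_val x]; exact natCast_mem _ _
    rcases Cfsg.Agent.S0801.result (F := ZMod p) h2 1 one_ne_zero hclo with ⟨h, -⟩ | ⟨h9, -, -⟩
    · rintro _ ⟨m, rfl⟩
      have hle' : (⊤ : Subgroup (Matrix.SpecialLinearGroup (Fin 2) (ZMod p))) ≤
          (G0.map φ).comap (iotaSL k p) := by
        rw [← h, Subgroup.closure_le]
        intro w hw
        show iotaSL k p w ∈ G0.map φ
        obtain ⟨g, hg⟩ := hP ⟨w, rfl⟩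
        have hwp : w ^ p = 1 := by
          rcases hw with hw | hw
          · rw [show w = sL 1 from Subtype.ext hw, sL_pow, CharP.cast_eq_zero, zero_mul]
            exact Subtype.ext (by simp [sL, Matrix.one_fin_two])
          · rw [show w = sU 1 from Subtype.ext hw, sU_pow, CharP.cast_eq_zero, zero_mul]
            exact Subtype.ext (by simp [sU, Matrix.one_fin_two])
        obtain ⟨x, hx, hxg⟩ := hlift g (by rw [hg, ← map_pow, hwp, map_one])
        exact ⟨x, Subgroup.subset_closure hx, hxg.trans hg⟩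
      exact hle' (Subgroup.mem_top m)
    · exfalso
      rw [ZMod.card] at h9
      subst h9
      exact absurd hp (by norm_num)
  -- the power maps
  have hn0 : ∀ t : (ZMod p)ˣ, ∃ n ∈ G0, n * y * n⁻¹ = y ^ (((t : ZMod p) ^ 2).val) := by
    intro t
    let D : Matrix.SpecialLinearGroup (Fin 2) (ZMod p) :=
      ⟨!![(t : ZMod p), 0; 0, ((t⁻¹ : (ZMod p)ˣ) : ZMod p)], by
        rw [Matrix.det_fin_two_of, Units.mul_inv, mul_zero, sub_zero]⟩
    let T : Matrix.SpecialLinearGroup (Fin 2) (ZMod p) := sU 1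
    obtain ⟨n, hn, hnD⟩ := hPG0 (iotaSL k p D) ⟨D, rfl⟩
    refine ⟨n, hn, huniq _ _ (by rw [conj_pow, hyp, mul_one, mul_inv_cancel])
      (by rw [← pow_mul, mul_comm, pow_mul, hyp, one_pow]) ?_⟩
    have hT : iotaSL k p T = φ y := by
      rw [hφy, iotaSL, MonoidHom.comp_apply]
      refine congrArg Matrix.SpecialLinearGroup.toPGL (Subtype.ext (Matrix.ext fun i j => ?_))
      show ZMod.castHom (dvd_refl p) k ((sU (1 : ZMod p)).1 i j) = (sU (1 : k)).1 i j
      fin_cases i <;> fin_cases j <;> simp [sU]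
    rw [map_mul, map_mul, map_inv, hnD, map_pow, ← hT, ← map_inv, ← map_mul, ← map_mul, ← map_pow]
    congr 1
    rw [sU_pow, ZMod.natCast_zmod_val, mul_one, mul_inv_eq_iff_eq_mul]
    refine Subtype.ext ?_
    show D.1 * (sU (1 : ZMod p)).1 = (sU ((t : ZMod p) ^ 2)).1 * D.1
    have key : ∀ u v : ZMod p, u * v = 1 → (!![u, 0; 0, v] : Matrix (Fin 2) (Fin 2) (ZMod p)) *
        !![1, 1; 0, 1] = !![1, u ^ 2; 0, 1] * !![u, 0; 0, v] := by
      intro u v huv
      ext i j
      fin_cases i <;> fin_cases j <;> simp [Matrix.mul_apply]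
      linear_combination -u * huv
    exact key _ _ (Units.mul_inv t)
  obtain ⟨t, ht⟩ := IsCyclic.exists_generator (α := (ZMod p)ˣ)
  have hto : orderOf t = 2 * d := by
    rw [orderOf_eq_card_of_forall_mem_zpowers ht, Nat.card_eq_fintype_card, ZMod.card_units]; omega
  have hto2 : orderOf ((t : ZMod p) ^ 2) = d := by
    rw [← Units.val_pow_eq_pow_val, orderOf_units, orderOf_pow' t two_ne_zero, hto,
      Nat.gcd_eq_right (dvd_mul_right 2 d), Nat.mul_div_cancel_left _ two_pos]
  obtain ⟨n₂, hn₂, hn₂y⟩ := hn0 t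
  have hyG0 : y ∈ G0 := Subgroup.subset_closure hyp
  -- `K` is scalar, so central
  have hKZ : K ≤ Subgroup.center G := by
    intro z hz
    obtain ⟨μ, v, hv, hvy⟩ : ∃ μ : ℂ, ∃ v ∈ Module.End.eigenspace (ρ z) μ, ρ y v ≠ v := by
      by_contra h
      push Not at h
      have hle' : ⨆ μ : ℂ, Module.End.eigenspace (ρ z) μ ≤ LinearMap.ker (ρ y - 1) :=
        iSup_le fun μ v hv => by
          rw [LinearMap.mem_ker, LinearMap.sub_apply, Module.End.one_apply, h μ v hv, sub_self]
      rw [iSup_eigenspace_rep, top_le_iff, LinearMap.ker_eq_top, sub_eq_zero] at hle'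
      exact hy1 (hρ (by rw [hle', map_one]))
    have hst : ∀ g ∈ G0, ∀ w ∈ Module.End.eigenspace (ρ z) μ,
        ρ g w ∈ Module.End.eigenspace (ρ z) μ := by
      intro g hg w hw
      rw [Module.End.mem_eigenspace_iff] at hw ⊢
      rw [← Module.End.mul_apply, ← map_mul, hKG0 z hz g hg, map_mul, Module.End.mul_apply, hw,
        map_smul]
    have hdim := orderOf_le_finrank ρ hyp _ (hst y hyG0) hv hvy hn₂y (hst n₂ hn₂) (by
      rw [ZMod.natCast_zmod_val]; exact pow_ne_zero 2 t.ne_zero)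
    rw [ZMod.natCast_zmod_val, hto2] at hdim
    have htop : Module.End.eigenspace (ρ z) μ = ⊤ := by
      refine Submodule.eq_top_of_finrank_eq (le_antisymm (Submodule.finrank_le _) ?_)
      rw [Module.finrank_fin_fun]; exact hdim
    rw [Subgroup.mem_center_iff]
    intro g
    refine hρ (LinearMap.ext fun w => ?_)
    have he : ∀ w, ρ z w = μ • w := fun w =>
      Module.End.mem_eigenspace_iff.1 (htop ▸ Submodule.mem_top)
    rw [map_mul, map_mul, Module.End.mul_apply, Module.End.mul_apply, he, he, map_smul]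
  -- the image
  have hrange : φ.range = (iotaSL k p).range := by
    refine le_antisymm ?_ hP
    rintro _ ⟨g, rfl⟩
    -- move `g` into the normaliser of `S`
    obtain ⟨g₀, hg₀, hg₀y⟩ : ∃ g₀ ∈ G0, ∃ a : ℕ, (g * g₀) * y * (g * g₀)⁻¹ = y ^ a := by
      haveI := hG0n
      have hSG0 : S ≤ G0 := Subgroup.zpowers_le.2 hyG0
      have hpg : IsPGroup p S := IsPGroup.of_card (n := 1) (by rw [pow_one, hS])
      have hidx : ¬ p ∣ S.index := fun h => hsq (by
        rw [← Subgroup.card_mul_index S, hS, pow_two]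
        exact mul_dvd_mul_left p h)
      have htop : Subgroup.normalizer (S : Set G) ⊔ G0 = ⊤ :=
        Sylow.normalizer_sup_eq_top' (hpg.toSylow hidx) (N := G0) hSG0
      obtain ⟨n, hn, g₁, hg₁, e⟩ := Subgroup.mem_sup_of_normal_right.1
        (show g ∈ Subgroup.normalizer (S : Set G) ⊔ G0 by rw [htop]; exact Subgroup.mem_top g)
      refine ⟨g₁⁻¹, G0.inv_mem hg₁, ?_⟩
      rw [← e, mul_inv_cancel_right]
      exact exists_pow_eq hS hyS hy1 ((Subgroup.mem_normalizer_iff.1 hn y).1 hyS)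
    obtain ⟨a, ha⟩ := hg₀y
    have hG0P : ∀ x ∈ G0, φ x ∈ (iotaSL k p).range := fun x hx =>
      (Subgroup.closure_le ((iotaSL k p).range.comap φ)).2 (fun w hw => hle w hw) hx
    suffices h : φ (g * g₀) ∈ (iotaSL k p).range by
      have := Subgroup.mul_mem _ h (Subgroup.inv_mem _ (hG0P g₀ hg₀))
      rwa [map_mul, mul_inv_cancel_right] at this
    set n := g * g₀ with hnd
    have ha0 : (a : ZMod p) ≠ 0 := by
      rw [Ne, ZMod.natCast_eq_zero_iff]
      rintro ⟨b, rfl⟩
      rw [pow_mul, hyp, one_pow] at ha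
      exact hy1 (conj_eq_one_iff.1 ha)
    -- `a` is a square
    obtain ⟨j, hj⟩ := (isOfFinOrder_of_finite t).mem_powers_iff_mem_zpowers.2 (ht (Units.mk0 _ ha0))
    have hj' : (t : ZMod p) ^ j = (a : ZMod p) := by
      rw [← Units.val_pow_eq_pow_val]; exact congrArg Units.val hj
    have hjev : 2 ∣ j := by
      by_contra hodd
      obtain ⟨i, hi⟩ : ∃ i, j = 2 * i + 1 := ⟨j / 2, by omega⟩
      obtain ⟨n₃, -, hn₃⟩ := hn0 (t ^ i)⁻¹
      set c := ((((t ^ i)⁻¹ : (ZMod p)ˣ) : ZMod p) ^ 2).val with hc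
      have hprod : (n₃ * n) * y * (n₃ * n)⁻¹ = y ^ (c * a) := by
        calc (n₃ * n) * y * (n₃ * n)⁻¹ = n₃ * (n * y * n⁻¹) * n₃⁻¹ := by group
          _ = (n₃ * y * n₃⁻¹) ^ a := by rw [ha, conj_pow]
          _ = y ^ (c * a) := by rw [hn₃, ← pow_mul]
      have hca : ((c * a : ℕ) : ZMod p) = (t : ZMod p) := by
        have e : ((t ^ i)⁻¹) ^ 2 * t ^ j = t := by rw [hi]; group
        rw [Nat.cast_mul, hc, ZMod.natCast_zmod_val, ← hj', ← Units.val_pow_eq_pow_val,
          ← Units.val_pow_eq_pow_val, ← Units.val_mul, e]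
      obtain ⟨w, hw⟩ : ∃ w, ρ y w ≠ w := by
        by_contra h
        push Not at h
        exact hy1 (hρ (by rw [map_one]; exact LinearMap.ext h))
      have hdim := orderOf_le_finrank ρ hyp ⊤ (fun _ _ => Submodule.mem_top)
        (Submodule.mem_top : w ∈ ⊤) hw hprod (fun _ _ => Submodule.mem_top)
        (by rw [hca]; exact t.ne_zero)
      rw [hca, orderOf_units, hto, finrank_top, Module.finrank_fin_fun] at hdim
      omega
    obtain ⟨i, rfl⟩ := hjev
    obtain ⟨n₃, hn₃, hn₃y⟩ := hn0 (t ^ i)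
    have hsame : n * y * n⁻¹ = n₃ * y * n₃⁻¹ := by
      rw [ha, hn₃y, pow_eq_pow_mod a hyp]
      congr 1
      rw [← ZMod.val_natCast, ← hj', Units.val_pow_eq_pow_val, ← pow_mul, mul_comm]
    suffices h : φ (n₃⁻¹ * n) ∈ (iotaSL k p).range by
      have := Subgroup.mul_mem _ (hG0P n₃ hn₃) h
      rwa [← map_mul, mul_inv_cancel_left] at this
    have hcy : Commute (φ (n₃⁻¹ * n)) (φ y) := by
      refine Commute.map ?_ φ
      show n₃⁻¹ * n * y = y * (n₃⁻¹ * n)
      calc n₃⁻¹ * n * y = n₃⁻¹ * (n * y * n⁻¹) * n := by group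
        _ = y * (n₃⁻¹ * n) := by rw [hsame]; group
    obtain ⟨z, hz⟩ := toPGL_surjective (φ (n₃⁻¹ * n))
    rw [← hz, hφy] at hcy
    obtain ⟨h10, h00⟩ := comm_upper h2k z hcy
    have hzp : φ (n₃⁻¹ * n) ^ p = 1 := by
      rw [← hz, ← map_pow, ← MonoidHom.mem_ker, Matrix.SpecialLinearGroup.toPGL_ker]
      have hdet := z.2
      rw [Matrix.det_fin_two, h10, mul_zero, sub_zero, ← h00] at hdet
      haveI : CharP (Matrix (Fin 2) (Fin 2) k) p :=
        charP_of_injective_algebraMap (FaithfulSMul.algebraMap_injective k (Matrix (Fin 2) (Fin 2) k)) p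
      have ez : z.1 = z 0 0 • (1 : Matrix (Fin 2) (Fin 2) k) + !![0, z 0 1; 0, 0] := by
        ext i j
        fin_cases i <;> fin_cases j <;> simp [h10, h00]
      have en : (!![0, z 0 1; 0, 0] : Matrix (Fin 2) (Fin 2) k) ^ p = 0 := by
        refine pow_eq_zero_of_le (show 2 ≤ p by omega) ?_
        rw [pow_two]
        ext i j
        fin_cases i <;> fin_cases j <;> simp
      refine Matrix.SpecialLinearGroup.mem_center_iff.2 ⟨z 0 0 ^ p, ?_, ?_⟩
      · rw [Fintype.card_fin, ← pow_mul, mul_comm, pow_mul, pow_two, hdet, one_pow]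
      · generalize z 0 0 = r at ez ⊢
        rw [Matrix.SpecialLinearGroup.coe_pow, ez, add_pow_char_of_commute p
          ((Commute.one_left _).smul_left _), en, add_zero, smul_pow, one_pow, Matrix.smul_one_eq_diagonal]
        rfl
    obtain ⟨x, hx, hxe⟩ := hlift _ hzp
    exact hxe ▸ hle x hx
  -- the centre
  have hZ : Subgroup.center G = K := by
    refine le_antisymm (fun z hz => ?_) hKZ
    rw [hK, MonoidHom.mem_ker]
    obtain ⟨m, hm⟩ := toPGL_surjective (φ z)
    have hcen : ∀ X ∈ (iotaSL k p).range, Commute (φ z) X := fun X hX => by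
      obtain ⟨g, rfl⟩ := hP hX
      exact (show Commute z g from (Subgroup.mem_center_iff.1 hz g).symm).map φ
    obtain ⟨h10, h00⟩ := comm_upper h2k m (hm ▸ hφy ▸ hcen (φ y) (hle y hyp))
    have hdet := m.2
    rw [Matrix.det_fin_two, h10, mul_zero, sub_zero, ← h00] at hdet
    -- conjugate by the Weyl element
    let W : Matrix.SpecialLinearGroup (Fin 2) (ZMod p) := ⟨!![0, -1; 1, 0], by simp [Matrix.det_fin_two]⟩
    set w : Matrix.SpecialLinearGroup (Fin 2) k :=
      Matrix.SpecialLinearGroup.map (ZMod.castHom (dvd_refl p) k) W with hw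
    have hw1 : w.1 = !![0, -1; 1, 0] := by
      ext i j
      show ZMod.castHom (dvd_refl p) k (W.1 i j) = _
      fin_cases i <;> fin_cases j <;> simp [W]
    have hw2 : (w⁻¹).1 = !![0, 1; -1, 0] := by
      rw [Matrix.SpecialLinearGroup.coe_inv, hw1, Matrix.adjugate_fin_two_of]
      simp
    have hconj : Matrix.SpecialLinearGroup.toPGL (w * m * w⁻¹) = φ z := by
      rw [map_mul, map_mul, hm, map_inv]
      have := hcen (iotaSL k p W) ⟨W, rfl⟩
      rw [mul_inv_eq_iff_eq_mul]
      exact this.eq.symm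
    obtain ⟨h01, -⟩ := comm_upper h2k (w * m * w⁻¹) (hconj ▸ hφy ▸ hcen (φ y) (hle y hyp))
    have h01' : m 0 1 = 0 := by
      change ((w.1 * m.1 * (w⁻¹).1) 1 0) = 0 at h01
      rw [hw1, hw2] at h01
      simpa [Matrix.mul_apply, Matrix.vecMul, dotProduct, Fin.sum_univ_two] using h01
    rw [← hm, ← MonoidHom.mem_ker, Matrix.SpecialLinearGroup.toPGL_ker,
      Matrix.SpecialLinearGroup.mem_center_iff]
    refine ⟨m 0 0, by rw [Fintype.card_fin, pow_two, hdet], ?_⟩
    ext i j
    fin_cases i <;> fin_cases j <;> simp [h10, h01', h00]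
  exact ⟨((QuotientGroup.quotientMulEquivOfEq hZ).trans (QuotientGroup.quotientKerEquivRange φ)).trans
    ((MulEquiv.subgroupCongr (hrange.trans (iotaPSL_range k p).symm)).trans
      (MonoidHom.ofInjective (iotaPSL_injective k p)).symm)⟩

end Cfsg.Agent.SmallDim
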