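import Cfsg.Agent.Lib.BrauerPairs.FixedVector
import Mathlib.RingTheory.Valuation.ValuationSubring
import Mathlib.FieldTheory.IsAlgClosed.Basic
import Mathlib.LinearAlgebra.Matrix.ToLin
import Mathlib.LinearAlgebra.Trace

/-!
Reduction modulo `p` of a complex representation, through a valuation ring of the complex numbers.
-/

set_option autoImplicit false
set_option linter.unusedSectionVars false
set_option linter.style.haveILetI false

namespace Cfsg.Agent.SmallDim

open IsLocalRing Polynomial
open scoped Classical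

universe u

variable {G : Type u} [Group G] [Fintype G]

/-- An integral form over a valuation ring. -/
theorem exists_integral_form (V : ValuationSubring ℂ) {d : ℕ}
    (ρ : Representation ℂ G (Fin d → ℂ)) :
    ∃ m : G →* Matrix (Fin d) (Fin d) V, (Function.Injective ρ → Function.Injective m) ∧
      ∀ g, (((m g).map (fun x : V => (x : ℂ))).trace) = LinearMap.trace ℂ _ (ρ g) := by
  set S₀ : Finset (Fin d → ℂ) := Finset.univ.image fun z : G × Fin d => ρ z.1 (Pi.single z.2 1)
    with hS₀
  set L := Submodule.span V (S₀ : Set (Fin d → ℂ)) with hL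
  have hne : ((S₀.powerset).filter fun T : Finset (Fin d → ℂ) =>
      Submodule.span V (T : Set (Fin d → ℂ)) = L).Nonempty :=
    ⟨S₀, Finset.mem_filter.2 ⟨Finset.mem_powerset.2 subset_rfl, rfl⟩⟩
  obtain ⟨T, hT, hmin⟩ := Finset.exists_min_image _ Finset.card hne
  obtain ⟨hTsub, hTspan⟩ := Finset.mem_filter.1 hT
  rw [Finset.mem_powerset] at hTsub
  have hli : LinearIndependent ℂ fun t : T => (t : Fin d → ℂ) := by
    rw [Fintype.linearIndependent_iff]
    intro c hc
    by_contra hne0
    push Not at hne0
    obtain ⟨x₀, -, hmax⟩ := Finset.exists_max_image Finset.univ (fun x => V.valuation (c x))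
      ⟨hne0.choose, Finset.mem_univ _⟩
    have hx₀ : c x₀ ≠ 0 := by
      intro h
      obtain ⟨i, hi⟩ := hne0
      have := hmax i (Finset.mem_univ _)
      rw [h, map_zero, le_zero_iff, map_eq_zero] at this
      exact hi this
    have ha : ∀ x, c x * (c x₀)⁻¹ ∈ V := fun x => by
      rw [← ValuationSubring.valuation_le_one_iff, map_mul, map_inv₀]
      refine (mul_inv_le_iff₀ (zero_lt_iff.2 ((_root_.map_ne_zero V.valuation).2 hx₀))).2 ?_
      rw [one_mul]; exact hmax x (Finset.mem_univ _)
    set T' := T.erase (x₀ : Fin d → ℂ) with hT'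
    have hx : (x₀ : Fin d → ℂ) ∈ Submodule.span V (T' : Set (Fin d → ℂ)) := by
      have e : (x₀ : Fin d → ℂ) =
          ∑ x ∈ Finset.univ.erase x₀, (-(⟨_, ha x⟩ : V)) • (x : Fin d → ℂ) := by
        have h1 := congrArg ((c x₀)⁻¹ • ·) hc
        simp only [Finset.smul_sum, smul_smul, smul_zero] at h1
        rw [← Finset.add_sum_erase _ _ (Finset.mem_univ x₀), inv_mul_cancel₀ hx₀, one_smul,
          add_eq_zero_iff_eq_neg, ← Finset.sum_neg_distrib] at h1
        refine h1.trans (Finset.sum_congr rfl fun x _ => ?_)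
        rw [neg_smul, mul_comm]
        rfl
      rw [e]
      refine sum_mem fun x hx => Submodule.smul_mem _ _ (Submodule.subset_span ?_)
      exact Finset.mem_coe.2 (Finset.mem_erase.2
        ⟨fun h => (Finset.mem_erase.1 hx).1 (Subtype.ext h), x.2⟩)
    have hspan' : Submodule.span V (T' : Set (Fin d → ℂ)) = L := by
      rw [← hTspan]
      refine le_antisymm (Submodule.span_mono (Finset.coe_subset.2 (Finset.erase_subset _ _)))
        (Submodule.span_le.2 fun z hz => ?_)
      by_cases h : z = (x₀ : Fin d → ℂ)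
      · rw [h]; exact hx
      · exact Submodule.subset_span (Finset.mem_erase.2 ⟨h, hz⟩)
    have := hmin T' (Finset.mem_filter.2
      ⟨Finset.mem_powerset.2 ((Finset.erase_subset _ _).trans hTsub), hspan'⟩)
    rw [Finset.card_erase_of_mem x₀.2] at this
    have := Finset.card_pos.2 ⟨_, x₀.2⟩
    omega
  have hsub : ∀ z ∈ L, z ∈ Submodule.span ℂ (T : Set (Fin d → ℂ)) := by
    intro z hz
    rw [← hTspan] at hz
    exact Submodule.span_le_restrictScalars V ℂ _ hz
  have hbasis : ∀ g i, ρ g (Pi.single i 1) ∈ L := fun g i =>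
    Submodule.subset_span (Finset.mem_coe.2 (Finset.mem_image.2 ⟨(g, i), Finset.mem_univ _, rfl⟩))
  have htop : ⊤ ≤ Submodule.span ℂ (Set.range fun t : T => (t : Fin d → ℂ)) := by
    rw [← (Pi.basisFun ℂ (Fin d)).span_eq, Submodule.span_le]
    rintro _ ⟨i, rfl⟩
    have := hsub _ (hbasis 1 i)
    rw [map_one, Module.End.one_apply] at this
    simpa [Pi.basisFun_apply] using this
  set b := Module.Basis.mk hli htop with hb
  have hcard : Fintype.card T = d := by
    have := Module.finrank_eq_card_basis b
    simpa using this.symm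
  set e := Fintype.equivFinOfCardEq hcard with he
  set bb := b.reindex e with hbb
  have hcoef : ∀ g i j, LinearMap.toMatrix bb bb (ρ g) i j ∈ V := by
    intro g i j
    have hbj : bb j = ((e.symm j : T) : Fin d → ℂ) := by
      rw [hbb, Module.Basis.reindex_apply, hb, Module.Basis.mk_apply]
    have hmem : ρ g (bb j) ∈ L := by
      rw [hbj]
      obtain ⟨⟨h, l⟩, -, hl⟩ := Finset.mem_image.1 (hTsub (e.symm j).2)
      rw [← hl, ← Module.End.mul_apply, ← map_mul]
      exact hbasis _ _
    rw [← hTspan] at hmem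
    obtain ⟨a, ha⟩ := (Submodule.mem_span_range_iff_exists_fun V).1 (by
      have hr : (Set.range fun t : T => (t : Fin d → ℂ)) = (T : Set (Fin d → ℂ)) := by
        ext z; simp
      rw [hr]; exact hmem :
        ρ g (bb j) ∈ Submodule.span V (Set.range fun t : T => (t : Fin d → ℂ)))
    have e2 : ρ g (bb j) = ∑ t : T, ((a t : V) : ℂ) • bb (e t) := by
      rw [← ha]
      refine Finset.sum_congr rfl fun t _ => ?_
      rw [hbb, Module.Basis.reindex_apply, Equiv.symm_apply_apply, hb, Module.Basis.mk_apply]
      rfl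
    rw [LinearMap.toMatrix_apply, e2, map_sum, Finset.sum_apply']
    refine sum_mem fun t _ => ?_
    rw [map_smul, Module.Basis.repr_self, Finsupp.smul_single, smul_eq_mul, mul_one,
      Finsupp.single_apply]
    split_ifs
    · exact (a t).2
    · exact zero_mem _
  let m₀ : G → Matrix (Fin d) (Fin d) V := fun g => Matrix.of fun i j => ⟨_, hcoef g i j⟩
  have hm₀ : ∀ g, (m₀ g).map (fun x : V => (x : ℂ)) = LinearMap.toMatrix bb bb (ρ g) := fun g => rfl
  have hinj : Function.Injective fun A : Matrix (Fin d) (Fin d) V => A.map (fun x : V => (x : ℂ)) :=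
    fun A B h => Matrix.ext fun i j => Subtype.ext (congrFun (congrFun h i) j)
  let m : G →* Matrix (Fin d) (Fin d) V :=
    { toFun := m₀
      map_one' := hinj (by
        show (m₀ 1).map _ = (1 : Matrix (Fin d) (Fin d) V).map _
        rw [hm₀, map_one, LinearMap.toMatrix_one, Matrix.map_one _ rfl rfl])
      map_mul' := fun x y => hinj (by
        show (m₀ (x * y)).map _ = (m₀ x * m₀ y).map _
        rw [hm₀, map_mul, LinearMap.toMatrix_mul,
          show ((m₀ x * m₀ y).map fun x : V => (x : ℂ)) = (m₀ x).map V.subtype * (m₀ y).map V.subtype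
            from Matrix.map_mul (f := V.subtype)]
        rfl) }
  refine ⟨m, fun hρ x y h => hρ ((LinearMap.toMatrix bb bb).injective ?_), fun g => ?_⟩
  · rw [← hm₀, ← hm₀]
    exact congrArg (fun A : Matrix (Fin d) (Fin d) V => A.map (fun x : V => (x : ℂ))) h
  · show ((m₀ g).map _).trace = _
    rw [hm₀, LinearMap.trace_eq_matrix_trace ℂ bb]

/-- The residue field is algebraically closed. -/
theorem isAlgClosed_residue (V : ValuationSubring ℂ) : IsAlgClosed (ResidueField V) := by
  refine IsAlgClosed.of_exists_root _ fun q hq hirr => ?_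
  have hl : q ∈ lifts (residue V) :=
    (lifts_iff_coeff_lifts _).2 fun i => residue_surjective _
  obtain ⟨P, hP, hPd, hPm⟩ := lifts_and_degree_eq_and_monic hl hq
  have hdeg : (P.map (algebraMap V ℂ)).degree ≠ 0 := by
    rw [hPm.degree_map, hPd]
    exact (degree_pos_of_irreducible hirr).ne'
  obtain ⟨z, hz⟩ := IsAlgClosed.exists_root _ hdeg
  have hz' : P.eval₂ (algebraMap V ℂ) z = 0 := by rw [← eval_map]; exact hz
  obtain ⟨y, hy⟩ := IsIntegrallyClosed.isIntegral_iff.1 (⟨P, hPm, hz'⟩ : IsIntegral V z)
  refine ⟨residue V y, ?_⟩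
  rw [← hP, eval_map, eval₂_hom, ← map_zero (residue V)]
  congr 1
  refine IsFractionRing.injective V ℂ ?_
  rw [map_zero, ← eval₂_hom, hy, hz']

/-- The reduction of an integral representation has a `p`-group as kernel. -/
theorem isPGroup_red_ker {p : ℕ} [hpF : Fact p.Prime] (V : ValuationSubring ℂ)
    (hpV : (p : V) ∈ maximalIdeal V) {d : ℕ} (m : G →* Matrix (Fin d) (Fin d) V)
    (hm : Function.Injective m) :
    IsPGroup p ((((residue V).mapMatrix).toMonoidHom.comp m).ker) := by
  rintro ⟨g, hg⟩
  obtain ⟨a, n, hn, hord⟩ := Nat.exists_eq_pow_mul_and_not_dvd (orderOf_pos g).ne' p hpF.out.ne_one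
  refine ⟨a, Subtype.ext ?_⟩
  rw [SubmonoidClass.coe_pow, OneMemClass.coe_one]
  set h := g ^ p ^ a with hh
  have hhn : h ^ n = 1 := by rw [hh, ← pow_mul, ← hord, pow_orderOf_eq_one]
  have hred : (residue V).mapMatrix (m h) = 1 := by
    have hg' : (residue V).mapMatrix (m g) = 1 := MonoidHom.mem_ker.1 hg
    rw [hh, map_pow, map_pow, hg', one_pow]
  set T := ∑ i ∈ Finset.range n, (m h) ^ i with hT
  have h0 : (m h - 1) * T = 0 := by rw [mul_geom_sum, ← map_pow, hhn, map_one, sub_self]
  haveI : CharP (ResidueField V) p := (CharP.charP_iff_prime_eq_zero hpF.out).2 (by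
    rw [← map_natCast (residue V), residue_eq_zero_iff]; exact hpV)
  have hu : IsUnit T.det := by
    by_contra hnu
    have hr : residue V T.det = 0 := by
      rw [residue_eq_zero_iff, IsLocalRing.mem_maximalIdeal]
      exact hnu
    rw [RingHom.map_det, hT, map_sum] at hr
    simp only [map_pow, hred, one_pow, Finset.sum_const, Finset.card_range] at hr
    rw [← Matrix.diagonal_one, ← Nat.cast_smul_eq_nsmul (ResidueField V), Matrix.det_smul,
      Matrix.det_diagonal] at hr
    simp only [Finset.prod_const_one, mul_one] at hr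
    exact hn ((CharP.cast_eq_zero_iff (ResidueField V) p n).1 (eq_zero_of_pow_eq_zero hr))
  have hu' : IsUnit T := (Matrix.isUnit_iff_isUnit_det _).2 hu
  exact hm (by rw [map_one]; exact sub_eq_zero.1 (hu'.mul_left_eq_zero.1 h0))

/-- Reduction modulo `p` when there is no normal `p`-subgroup. -/
theorem exists_reduction {p : ℕ} [hpF : Fact p.Prime]
    (hnn : ∀ H : Subgroup G, H.Normal → IsPGroup p H → H = ⊥) {d : ℕ}
    (ρ : Representation ℂ G (Fin d → ℂ)) (hρ : Function.Injective ρ) :
    ∃ (V : ValuationSubring ℂ) (_ : (p : V) ∈ maximalIdeal V) (_ : CharP (ResidueField V) p)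
      (m : G →* Matrix (Fin d) (Fin d) V) (σ : Representation (ResidueField V) G
        (Fin d → ResidueField V)),
      (∀ g, σ g = Matrix.toLin' ((residue V).mapMatrix (m g))) ∧ Function.Injective σ ∧
      (∀ g, (((m g).map (fun x : V => (x : ℂ))).trace) = LinearMap.trace ℂ _ (ρ g)) := by
  obtain ⟨V, hpV⟩ := BrauerPairs.exists_valuationSubring_prime hpF.out
  obtain ⟨m, hm, htr⟩ := exists_integral_form V ρ
  let σ : Representation (ResidueField V) G (Fin d → ResidueField V) :=
    (Matrix.toLinAlgEquiv' (R := ResidueField V) (n := Fin d)).toAlgHom.toRingHom.toMonoidHom.comp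
      ((residue V).mapMatrix.toMonoidHom.comp m)
  refine ⟨V, hpV, (CharP.charP_iff_prime_eq_zero hpF.out).2 (by
    rw [← map_natCast (residue V), residue_eq_zero_iff]; exact hpV), m, σ, fun g => rfl, ?_, htr⟩
  have hbot := hnn _ inferInstance (isPGroup_red_ker V hpV m (hm hρ))
  rw [MonoidHom.ker_eq_bot_iff] at hbot
  exact (Matrix.toLinAlgEquiv' (R := ResidueField V) (n := Fin d)).injective.comp hbot

end Cfsg.Agent.SmallDim
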