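import Mathlib.LinearAlgebra.Matrix.GeneralLinearGroup.Projective
import Mathlib.LinearAlgebra.Matrix.GeneralLinearGroup.Defs
import Mathlib.LinearAlgebra.Matrix.Trace
import Mathlib.LinearAlgebra.Matrix.Notation
import Mathlib.Tactic.LinearCombination
import Mathlib.Tactic.FieldSimp
import Mathlib.Tactic.FinCases

/-!
Isometries of the trace form on the trace-zero two by two matrices.
-/

set_option autoImplicit false
set_option linter.unusedSectionVars false

namespace Cfsg.Agent.SmallDim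

open Matrix
open scoped MatrixGroups

variable {k : Type*} [Field k]

local notation "M₂" => Matrix (Fin 2) (Fin 2) k

/-- The standard basis `f, h, e`. -/
def slBas : Fin 3 → Matrix (Fin 2) (Fin 2) k
  | 0 => !![0, 0; 1, 0]
  | 1 => !![1, 0; 0, -1]
  | 2 => !![0, 1; 0, 0]

/-- An isometry of the trace form is a conjugation up to sign. -/
theorem exists_conj (h2 : (2 : k) ≠ 0) (F H E : M₂) (hF : F.trace = 0) (hH : H.trace = 0)
    (hE : E.trace = 0) (hEF : (E * F).trace = 1) (hHH : (H * H).trace = 2)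
    (hFF : (F * F).trace = 0) (hFH : (F * H).trace = 0) (hEH : (H * E).trace = 0)
    (hEE : (E * E).trace = 0) :
    ∃ (m : GL (Fin 2) k) (s : k), F * (m : M₂) = s • ((m : M₂) * slBas 0) ∧
      H * (m : M₂) = s • ((m : M₂) * slBas 1) ∧ E * (m : M₂) = s • ((m : M₂) * slBas 2) := by
  -- move `E` to the standard vector
  obtain ⟨n, hn⟩ : ∃ n : GL (Fin 2) k, E * (n : M₂) = (n : M₂) * slBas 2 := by
    rw [Matrix.trace_fin_two] at hE
    simp only [Matrix.trace_fin_two, Matrix.mul_apply, Fin.sum_univ_two] at hEE hEF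
    have hd : E 1 1 = -E 0 0 := by linear_combination hE
    have hsq : E 0 0 ^ 2 + E 0 1 * E 1 0 = 0 := by
      have : (2 : k) * (E 0 0 ^ 2 + E 0 1 * E 1 0) = 0 := by rw [hd] at hEE; linear_combination hEE
      exact (mul_eq_zero.1 this).resolve_left h2
    by_cases hb : E 0 1 = 0
    · rw [hb, zero_mul, add_zero] at hsq
      have ha : E 0 0 = 0 := pow_eq_zero_iff two_ne_zero |>.1 hsq
      have hc : E 1 0 ≠ 0 := by
        intro hc
        simp [ha, hb, hc, hd] at hEF
      refine ⟨GeneralLinearGroup.mkOfDetNeZero !![0, 1; E 1 0, 0] (by simp [Matrix.det_fin_two, hc]),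
        ?_⟩
      ext i j
      fin_cases i <;> fin_cases j <;> simp [slBas, Matrix.mul_apply, ha, hb, hd,
        GeneralLinearGroup.mkOfDetNeZero]
    · refine ⟨GeneralLinearGroup.mkOfDetNeZero !![E 0 1, 0; -E 0 0, 1]
        (by simp [Matrix.det_fin_two, hb]), ?_⟩
      ext i j
      fin_cases i <;> fin_cases j <;> simp [slBas, Matrix.mul_apply, hd,
        GeneralLinearGroup.mkOfDetNeZero] <;> first | linear_combination hsq | ring
  -- pull back
  set N : M₂ := (n : M₂) with hN
  set N' : M₂ := ((n⁻¹ : GL (Fin 2) k) : M₂) with hN'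
  have h1 : N * N' = 1 := Units.mul_inv n
  have h2' : N' * N = 1 := Units.inv_mul n
  have htr : ∀ X Y : M₂, (N' * X * N * (N' * Y * N)).trace = (X * Y).trace := fun X Y => by
    rw [show N' * X * N * (N' * Y * N) = N' * (X * ((N * N') * (Y * N))) by simp only [mul_assoc],
      h1, one_mul, Matrix.trace_mul_comm, mul_assoc, mul_assoc, h1, mul_one]
  have htr1 : ∀ X : M₂, (N' * X * N).trace = X.trace := fun X => by
    rw [Matrix.trace_mul_comm, ← mul_assoc, h1, one_mul]
  have he : N' * E * N = slBas 2 := by rw [mul_assoc, hn, ← mul_assoc, h2', one_mul]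
  set H₁ := N' * H * N with hH₁
  set F₁ := N' * F * N with hF₁
  have eH : H₁.trace = 0 := by rw [hH₁, htr1, hH]
  have eF : F₁.trace = 0 := by rw [hF₁, htr1, hF]
  have eHE : (H₁ * slBas 2).trace = 0 := by rw [← he, hH₁, htr, hEH]
  have eEF : (slBas 2 * F₁).trace = 1 := by rw [← he, hF₁, htr, hEF]
  have eHH : (H₁ * H₁).trace = 2 := by rw [hH₁, htr, hHH]
  have eFF : (F₁ * F₁).trace = 0 := by rw [hF₁, htr, hFF]
  have eFH : (F₁ * H₁).trace = 0 := by rw [hF₁, hH₁, htr, hFH]
  simp only [Matrix.trace_fin_two, Matrix.mul_apply, Fin.sum_univ_two] at eH eF eHE eEF eHH eFF eFH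
  simp only [slBas, Matrix.of_apply, Matrix.cons_val', Matrix.cons_val_zero, Matrix.cons_val_one,
    Matrix.empty_val', Matrix.cons_val_fin_one, mul_zero, zero_mul, add_zero, zero_add,
    mul_one, one_mul] at eHE eEF
  have hd : H₁ 1 1 = -H₁ 0 0 := by linear_combination eH
  have hd' : F₁ 1 1 = -F₁ 0 0 := by linear_combination eF
  rw [eHE, hd] at eHH
  rw [hd'] at eFF
  rw [eHE, hd, hd', eEF] at eFH
  rw [eEF] at eFF
  set a := H₁ 0 0 with ha
  set b := H₁ 0 1 with hb
  have ha2 : a * a = 1 := by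
    refine mul_left_cancel₀ h2 ?_
    linear_combination eHH
  have hx : 2 * F₁ 0 0 = -(a * b) := by linear_combination a * eFH - 2 * F₁ 0 0 * ha2
  have hy : F₁ 0 1 = -(F₁ 0 0 * F₁ 0 0) := by
    refine mul_left_cancel₀ h2 ?_
    linear_combination eFF
  obtain ⟨t, ht⟩ : ∃ t, 2 * t = -b := ⟨-b / 2, mul_div_cancel₀ _ h2⟩
  have hxt : F₁ 0 0 = a * t := mul_left_cancel₀ h2 (by linear_combination hx - a * ht)
  have ha0 : a ≠ 0 := fun h => by simp [h] at ha2
  refine ⟨n * GeneralLinearGroup.mkOfDetNeZero !![1, t; 0, a] (by simp [Matrix.det_fin_two, ha0]),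
    a, ?_⟩
  have key : ∀ (X X₁ : M₂) (i : Fin 3), N' * X * N = X₁ →
      X₁ * !![1, t; 0, a] = a • (!![1, t; 0, a] * slBas i) →
      X * (N * !![1, t; 0, a]) = a • (N * !![1, t; 0, a] * slBas i) := by
    intro X X₁ i hX h
    rw [← hX] at h
    calc X * (N * !![1, t; 0, a]) = N * (N' * X * N * !![1, t; 0, a]) := by
          simp only [← mul_assoc, h1, one_mul]
      _ = _ := by rw [h, mul_smul_comm, mul_assoc]
  have hF₁e : F₁ = !![a * t, -(t * t); 1, -(a * t)] := by
    ext i j
    fin_cases i <;> fin_cases j <;> simp [hxt, hd', eEF, hy]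
    linear_combination (t * t) * ha2
  have hH₁e : H₁ = !![a, -(2 * t); 0, -a] := by
    ext i j
    fin_cases i <;> fin_cases j <;> simp [hd, eHE, ← ha]
    linear_combination ht
  refine ⟨key F F₁ 0 rfl ?_, key H H₁ 1 rfl ?_, key E (slBas 2) 2 he ?_⟩
  · rw [hF₁e]
    ext i j
    fin_cases i <;> fin_cases j <;> simp [slBas, Matrix.mul_apply]
    all_goals first
      | ring1 | linear_combination ha2 | linear_combination -ha2
      | linear_combination t * ha2 | linear_combination -t * ha2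
  · rw [hH₁e]
    ext i j
    fin_cases i <;> fin_cases j <;> simp [slBas, Matrix.mul_apply]
    all_goals ring
  · ext i j
    fin_cases i <;> fin_cases j <;> simp [slBas, Matrix.mul_apply]

/-- The conjugation is unique. -/
theorem conj_unique {m m' : GL (Fin 2) k} {s s' : k} (h2 : (2 : k) ≠ 0) (Z : Fin 3 → M₂)
    (hs : s ≠ 0)
    (h : ∀ i, Z i * (m : M₂) = s • ((m : M₂) * slBas i))
    (h' : ∀ i, Z i * (m' : M₂) = s' • ((m' : M₂) * slBas i)) :
    ProjGenLinGroup.mk m = ProjGenLinGroup.mk m' := by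
  set q : GL (Fin 2) k := m⁻¹ * m' with hq
  set Q : M₂ := (q : M₂) with hQ
  have key : ∀ i, s • (slBas i * Q) = s' • (Q * slBas i) := fun i => by
    calc s • (slBas i * Q) = ((m⁻¹ : GL (Fin 2) k) : M₂) * ((s • ((m : M₂) * slBas i)) * Q) := by
          rw [smul_mul_assoc, mul_smul_comm, ← mul_assoc, ← mul_assoc, Units.inv_mul, one_mul]
      _ = s' • (Q * slBas i) := by
          rw [← h i, hQ, hq, Units.val_mul, mul_assoc (Z i), ← mul_assoc (m : M₂), Units.mul_inv,
            one_mul, h' i, mul_smul_comm, mul_assoc]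
  have hdet : Q.det ≠ 0 := (Matrix.GeneralLinearGroup.det q).ne_zero
  have kH := key 1
  have kE := key 2
  have a1 := congrFun (congrFun kE 0) 0
  have a2 := congrFun (congrFun kE 0) 1
  have a3 := congrFun (congrFun kH 0) 0
  have a4 := congrFun (congrFun kH 0) 1
  simp [slBas, Matrix.mul_apply, Matrix.vecMul, dotProduct, Fin.sum_univ_two] at a1 a2 a3 a4
  have hc : Q 1 0 = 0 := a1.resolve_left hs
  rw [Matrix.det_fin_two, hc, mul_zero, sub_zero] at hdet
  obtain ⟨ha, hd⟩ := mul_ne_zero_iff.1 hdet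
  have hss : s = s' := by
    rcases a3 with h | h
    · exact h
    · exact absurd h ha
  subst hss
  have had : Q 0 0 = Q 1 1 := (mul_left_cancel₀ hs a2).symm
  have hb : Q 0 1 = 0 := by
    have : s * (2 * Q 0 1) = 0 := by linear_combination a4
    exact (mul_eq_zero.1 ((mul_eq_zero.1 this).resolve_left hs)).resolve_left h2
  refine ProjGenLinGroup.mk_eq_mk_iff.2 ⟨Units.mk0 (Q 0 0) ha, ?_⟩
  rw [show m' = m * q by rw [hq, mul_inv_cancel_left]]
  congr 1
  refine Units.ext ?_
  rw [GeneralLinearGroup.coe_scalar]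
  ext i j
  fin_cases i <;> fin_cases j <;> simp [← hQ, hb, hc, had]

end Cfsg.Agent.SmallDim
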