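import Cfsg.Agent.Lib.SmallDim.Lift
import Cfsg.Agent.Lib.SmallDim.SLTwo
import Mathlib.Tactic.Module

/-!
A three-dimensional summand with the shape of the adjoint module gives a map to `PGL₂`.
-/

set_option autoImplicit false
set_option linter.unusedSectionVars false
set_option linter.style.haveILetI false

namespace Cfsg.Agent.SmallDim

open Matrix
open scoped MatrixGroups Classical

variable {k : Type*} [Field k] {M : Type*} [AddCommGroup M] [Module k M] [FiniteDimensional k M]
variable {G : Type*} [Group G] [Finite G]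

/-- The action of a regular unipotent element on the adjoint module. -/
structure YRel (y : Module.End k M) (v : Fin 3 → M) : Prop where
  two : y (v 2) = v 2
  one : y (v 1) = v 1 - (2 : k) • v 2
  zero : y (v 0) = v 0 + v 1 - v 2

/-- The Gram matrix of the trace form on the standard basis. -/
structure Gram (B : M →ₗ[k] M →ₗ[k] k) (v : Fin 3 → M) : Prop where
  symm : ∀ x z, B x z = B z x
  h00 : B (v 0) (v 0) = 0
  h01 : B (v 0) (v 1) = 0
  h02 : B (v 0) (v 2) = 1
  h11 : B (v 1) (v 1) = 2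
  h12 : B (v 1) (v 2) = 0
  h22 : B (v 2) (v 2) = 0

theorem rels_of_inv {B : M →ₗ[k] M →ₗ[k] k} (hs : ∀ x z, B x z = B z x) (h2 : (2 : k) ≠ 0)
    {y : Module.End k M} (hy : ∀ x z, B (y x) (y z) = B x z) {v : Fin 3 → M} (h : YRel y v) :
    B (v 2) (v 2) = 0 ∧ B (v 1) (v 2) = 0 ∧ B (v 1) (v 1) = 2 * B (v 0) (v 2) ∧
      B (v 0) (v 1) = 0 := by
  have e12 := hy (v 1) (v 2)
  have e02 := hy (v 0) (v 2)
  have e01 := hy (v 0) (v 1)
  have e00 := hy (v 0) (v 0)
  simp only [h.two, h.one, h.zero, map_add, map_sub, map_smul, LinearMap.add_apply,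
    LinearMap.sub_apply, LinearMap.smul_apply, smul_eq_mul] at e12 e02 e01 e00
  rw [hs (v 1) (v 0), hs (v 2) (v 0), hs (v 2) (v 1)] at e00
  rw [hs (v 2) (v 1)] at e01
  have a22 : B (v 2) (v 2) = 0 := (mul_eq_zero.1 (by linear_combination -e12 :
    (2 : k) * B (v 2) (v 2) = 0)).resolve_left h2
  have a12 : B (v 1) (v 2) = 0 := by linear_combination e02 + a22
  have a11 : B (v 1) (v 1) = 2 * B (v 0) (v 2) := by
    linear_combination e01 + 3 * a12 - 2 * a22
  refine ⟨a22, a12, a11, (mul_eq_zero.1 (?_ : (2 : k) * B (v 0) (v 1) = 0)).resolve_left h2⟩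
  linear_combination e00 - a22 + 2 * a12 - a11

/-- Rescale to the standard Gram matrix. -/
theorem exists_gram {B : M →ₗ[k] M →ₗ[k] k} (hs : ∀ x z, B x z = B z x) (h2 : (2 : k) ≠ 0)
    {y : Module.End k M} (hy : ∀ x z, B (y x) (y z) = B x z) {v : Fin 3 → M} (h : YRel y v)
    (h02 : B (v 0) (v 2) ≠ 0) :
    ∃ (c t : k), c ≠ 0 ∧ Gram (c • B) ![v 0 + t • v 2, v 1, v 2] ∧
      YRel y ![v 0 + t • v 2, v 1, v 2] := by
  obtain ⟨a22, a12, a11, a01⟩ := rels_of_inv hs h2 hy h
  refine ⟨(B (v 0) (v 2))⁻¹, -(B (v 0) (v 0) / (2 * B (v 0) (v 2))), inv_ne_zero h02,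
    ⟨fun x z => by simp [hs x z], ?_, ?_, ?_, ?_, ?_, ?_⟩, ⟨h.two, h.one, ?_⟩⟩
  · simp [a22, hs (v 2) (v 0)]
    field_simp
    ring
  · simp [a01, hs (v 2) (v 1), a12]
  · simp [a22, h02]
  · simp [a11]
    field_simp
  · simp [a12]
  · simp [a22]
  · simp [h.zero, h.two]
    abel

namespace Gram

variable {B : M →ₗ[k] M →ₗ[k] k} {v : Fin 3 → M}

/-- The orthogonal projection onto the span. -/
def proj (_g : Gram B v) : Module.End k M :=
  (B.flip (v 2)).smulRight (v 0) + ((2 : k)⁻¹ • B.flip (v 1)).smulRight (v 1) +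
    (B.flip (v 0)).smulRight (v 2)

theorem proj_apply (g : Gram B v) (z : M) :
    g.proj z = B z (v 2) • v 0 + ((2 : k)⁻¹ * B z (v 1)) • v 1 + B z (v 0) • v 2 := by
  simp [proj]

theorem proj_mem (g : Gram B v) (z : M) : g.proj z ∈ Submodule.span k (Set.range v) := by
  rw [proj_apply]
  exact add_mem (add_mem (Submodule.smul_mem _ _ (Submodule.subset_span (Set.mem_range_self 0)))
    (Submodule.smul_mem _ _ (Submodule.subset_span (Set.mem_range_self 1))))
    (Submodule.smul_mem _ _ (Submodule.subset_span (Set.mem_range_self 2)))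

theorem proj_basis (g : Gram B v) (h2 : (2 : k) ≠ 0) (i : Fin 3) : g.proj (v i) = v i := by
  rw [proj_apply]
  fin_cases i <;>
    simp [g.h00, g.h01, g.h02, g.h11, g.h12, g.h22, g.symm (v 1) (v 0), g.symm (v 2) (v 0),
      g.symm (v 2) (v 1), inv_mul_cancel₀ h2]

theorem proj_fix (g : Gram B v) (h2 : (2 : k) ≠ 0) {z : M}
    (hz : z ∈ Submodule.span k (Set.range v)) : g.proj z = z := by
  refine LinearMap.eqOn_span (f := g.proj) (g := LinearMap.id) ?_ hz
  rintro _ ⟨i, rfl⟩
  exact g.proj_basis h2 i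

theorem isSA_proj (g : Gram B v) : IsSA B g.proj := by
  intro x z
  simp only [proj_apply, map_add, map_smul, LinearMap.add_apply, LinearMap.smul_apply, smul_eq_mul]
  rw [g.symm (v 0) z, g.symm (v 1) z, g.symm (v 2) z]
  ring

theorem proj_idem (g : Gram B v) (h2 : (2 : k) ≠ 0) : g.proj * g.proj = g.proj :=
  LinearMap.ext fun z => g.proj_fix h2 (g.proj_mem z)

/-- The projection commutes with isometries preserving the span in both directions. -/
theorem proj_commute (g : Gram B v) (h2 : (2 : k) ≠ 0) {a a' : Module.End k M}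
    (haa : a * a' = 1) (hB : ∀ x z, B (a x) (a z) = B x z)
    (ha : ∀ i, a (v i) ∈ Submodule.span k (Set.range v))
    (ha' : ∀ i, a' (v i) ∈ Submodule.span k (Set.range v)) : Commute g.proj a := by
  have hmap : ∀ {f : Module.End k M}, (∀ i, f (v i) ∈ Submodule.span k (Set.range v)) →
      ∀ z ∈ Submodule.span k (Set.range v), f z ∈ Submodule.span k (Set.range v) :=
    fun {f} hf z hz => by
      have : Submodule.span k (Set.range v) ≤ (Submodule.span k (Set.range v)).comap f :=
        Submodule.span_le.2 (by rintro _ ⟨i, rfl⟩; exact hf i)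
      exact this hz
  refine LinearMap.ext fun z => ?_
  rw [Module.End.mul_apply, Module.End.mul_apply]
  set d := g.proj (a z) - a (g.proj z) with hd
  have hdm : d ∈ Submodule.span k (Set.range v) :=
    sub_mem (g.proj_mem _) (hmap ha _ (g.proj_mem z))
  have hd0 : ∀ i, B d (v i) = 0 := by
    intro i
    have e : a (a' (v i)) = v i := LinearMap.congr_fun haa (v i)
    rw [hd, map_sub, LinearMap.sub_apply, g.isSA_proj, g.proj_basis h2]
    conv_lhs => arg 2; rw [← e, hB, g.isSA_proj, g.proj_fix h2 (ha' i), ← hB, e]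
    exact sub_self _
  have : g.proj d = 0 := by rw [proj_apply, hd0, hd0, hd0]; simp
  rw [g.proj_fix h2 hdm, hd, sub_eq_zero] at this
  exact this

/-- The coordinates in the trace-zero matrices. -/
def coord (_g : Gram B v) : M →ₗ[k] Matrix (Fin 2) (Fin 2) k :=
  (B.flip (v 2)).smulRight (slBas 0) + ((2 : k)⁻¹ • B.flip (v 1)).smulRight (slBas 1) +
    (B.flip (v 0)).smulRight (slBas 2)

theorem coord_basis (g : Gram B v) (h2 : (2 : k) ≠ 0) (i : Fin 3) : g.coord (v i) = slBas i := by
  fin_cases i <;>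
    simp [coord, g.h00, g.h01, g.h02, g.h11, g.h12, g.h22, g.symm (v 1) (v 0), g.symm (v 2) (v 0),
      g.symm (v 2) (v 1), inv_mul_cancel₀ h2]

theorem coord_trace (g : Gram B v) (h2 : (2 : k) ≠ 0) (x z : M)
    (hz : z ∈ Submodule.span k (Set.range v)) :
    (g.coord x * g.coord z).trace = B x z := by
  conv_rhs => rw [← g.proj_fix h2 hz]
  simp only [coord, proj_apply, LinearMap.add_apply, LinearMap.smulRight_apply, LinearMap.flip_apply,
    LinearMap.smul_apply, smul_eq_mul, map_add, map_smul]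
  simp [slBas, Matrix.trace_fin_two, Matrix.mul_apply]
  field_simp
  ring

theorem coord_traceless (g : Gram B v) (x : M) : (g.coord x).trace = 0 := by
  simp [coord, slBas, Matrix.trace_fin_two]

end Gram

/-- A stable triple gives a map to `PGL₂`. -/
theorem hom_of_triple (ρ : Representation k G M) (h2 : (2 : k) ≠ 0) {B : M →ₗ[k] M →ₗ[k] k}
    (hB : ∀ g x z, B (ρ g x) (ρ g z) = B x z) {v : Fin 3 → M} (gr : Gram B v) (y : G)
    (hy : YRel (ρ y) v) (hst : ∀ g i, ρ g (v i) ∈ Submodule.span k (Set.range v)) :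
    ∃ φ : G →* PGL(2, k), φ y =
      ProjGenLinGroup.mk (GeneralLinearGroup.mkOfDetNeZero !![1, 1; 0, 1] (by simp [det_fin_two])) := by
  have hex : ∀ g, ∃ (m : GL (Fin 2) k) (s : k), ∀ i, gr.coord (ρ g (v i)) * (m : Matrix _ _ k) =
      s • ((m : Matrix _ _ k) * slBas i) := by
    intro g
    have ht : ∀ i j, (gr.coord (ρ g (v i)) * gr.coord (ρ g (v j))).trace = B (v i) (v j) :=
      fun i j => by rw [gr.coord_trace h2 _ _ (hst g j), hB]
    obtain ⟨m, s, h0, h1, h2'⟩ := exists_conj h2 _ _ _ (gr.coord_traceless (ρ g (v 0)))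
      (gr.coord_traceless (ρ g (v 1))) (gr.coord_traceless (ρ g (v 2)))
      (by rw [ht, gr.symm, gr.h02]) (by rw [ht, gr.h11]) (by rw [ht, gr.h00])
      (by rw [ht, gr.h01]) (by rw [ht, gr.h12]) (by rw [ht, gr.h22])
    refine ⟨m, s, fun i => ?_⟩
    fin_cases i
    · exact h0
    · exact h1
    · exact h2'
  choose m s hms using hex
  have hs0 : ∀ g, s g ≠ 0 := by
    intro g hg
    have h := hms g 1
    rw [hg, zero_smul] at h
    have h' : gr.coord (ρ g (v 1)) = 0 := by
      have := congrArg (· * (((m g)⁻¹ : GL (Fin 2) k) : Matrix (Fin 2) (Fin 2) k)) h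
      simpa [mul_assoc] using this
    have := gr.coord_trace h2 (ρ g (v 1)) (ρ g (v 1)) (hst g 1)
    rw [h', hB, gr.h11, zero_mul, Matrix.trace_zero] at this
    exact h2 this.symm
  have hlin : ∀ g, ∀ z ∈ Submodule.span k (Set.range v),
      gr.coord (ρ g z) * (m g : Matrix _ _ k) = s g • ((m g : Matrix _ _ k) * gr.coord z) := by
    intro g z hz
    refine Submodule.span_induction (fun x hx => ?_) ?_ (fun a b _ _ ha hb => ?_)
      (fun c a _ ha => ?_) hz
    · obtain ⟨i, rfl⟩ := hx
      rw [hms g i, gr.coord_basis h2]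
    · simp
    · simp [map_add, add_mul, mul_add, ha, hb, smul_add]
    · simp [map_smul, smul_mul_assoc, mul_smul_comm, ha, smul_comm c (s g)]
  have hmul : ∀ a b, ProjGenLinGroup.mk (m (a * b)) =
      ProjGenLinGroup.mk (m a) * ProjGenLinGroup.mk (m b) := by
    intro a b
    rw [← map_mul]
    refine conj_unique h2 (fun i => gr.coord (ρ (a * b) (v i))) (hs0 _) (s' := s a * s b)
      (hms (a * b)) fun i => ?_
    simp only [map_mul, Module.End.mul_apply, Units.val_mul]
    rw [← mul_assoc, hlin a _ (hst b i), smul_mul_assoc, mul_assoc, hms b i, mul_smul_comm,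
      smul_smul, mul_assoc]
  refine ⟨MonoidHom.mk' (fun g => ProjGenLinGroup.mk (m g)) hmul, ?_⟩
  show ProjGenLinGroup.mk (m y) = _
  refine conj_unique h2 (fun i => gr.coord (ρ y (v i))) (hs0 y) (s' := 1) (hms y) fun i => ?_
  fin_cases i <;>
    simp [hy.zero, hy.one, hy.two, map_add, map_sub, map_smul, gr.coord_basis h2,
      GeneralLinearGroup.mkOfDetNeZero] <;>
    (ext a b; fin_cases a <;> fin_cases b <;> simp [slBas, Matrix.mul_apply] <;> ring)

/-- The summand theorem. -/
theorem exists_hom_pgl {p : ℕ} [Fact p.Prime] [CharP k p] (hp2 : (2 : k) ≠ 0)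
    (ρ : Representation k G M) (S : Subgroup G) [Fintype S] (hS : Nat.card S = p)
    (hTI : ∀ g : G, g ∉ Subgroup.normalizer (S : Set G) → ∀ s ∈ S,
      g⁻¹ * s * g ∈ Subgroup.normalizer (S : Set G) → s = 1)
    (B : M →ₗ[k] M →ₗ[k] k) (hs : ∀ x z, B x z = B z x)
    (hnd : ∀ x, (∀ z, B x z = 0) → x = 0) (hB : ∀ g x z, B (ρ g x) (ρ g z) = B x z)
    {o : Module.End k M} (hog : ∀ g, Commute o (ρ g)) (hoo : o * o = o) (hosa : IsSA B o)
    (hkill : (∑ s : S, ρ (s : G)) * o = 0) {y : G} (hyS : y ∈ S)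
    {v : Fin 3 → M} (hy : YRel (ρ y) v) (h02 : B (v 0) (v 2) ≠ 0)
    (hov : ∀ i, o (v i) = v i)
    (hst : ∀ g ∈ Subgroup.normalizer (S : Set G), ∀ i,
      ρ g (v i) ∈ Submodule.span k (Set.range v)) :
    ∃ φ : G →* PGL(2, k), φ y =
      ProjGenLinGroup.mk (GeneralLinearGroup.mkOfDetNeZero !![1, 1; 0, 1] (by simp [det_fin_two])) := by
  obtain ⟨c, t, hc, gr, hy'⟩ := exists_gram hs hp2 (hB y) hy h02
  set v' := ![v 0 + t • v 2, v 1, v 2] with hv'
  have hspan : Submodule.span k (Set.range v') = Submodule.span k (Set.range v) := by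
    have mv : ∀ i, v i ∈ Submodule.span k (Set.range v) := fun i =>
      Submodule.subset_span (Set.mem_range_self i)
    have mv' : ∀ i, v' i ∈ Submodule.span k (Set.range v') := fun i =>
      Submodule.subset_span (Set.mem_range_self i)
    refine le_antisymm (Submodule.span_le.2 ?_) (Submodule.span_le.2 ?_) <;> rintro _ ⟨i, rfl⟩ <;>
      fin_cases i
    · exact add_mem (mv 0) (Submodule.smul_mem _ t (mv 2))
    · exact mv 1
    · exact mv 2
    · have h : v 0 = v' 0 - t • v' 2 := by simp [hv']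
      show v 0 ∈ _
      rw [h]
      exact sub_mem (mv' 0) (Submodule.smul_mem _ t (mv' 2))
    · exact mv' 1
    · exact mv' 2
  have hB' : ∀ g x z, (c • B) (ρ g x) (ρ g z) = (c • B) x z := fun g x z => by simp [hB]
  have hoz : ∀ z ∈ Submodule.span k (Set.range v), o z = z := fun z hz =>
    LinearMap.eqOn_span (f := o) (g := LinearMap.id) (by rintro _ ⟨i, rfl⟩; exact hov i) hz
  have hsp : ∀ g ∈ Subgroup.normalizer (S : Set G), ∀ i,
      ρ g (v' i) ∈ Submodule.span k (Set.range v') := by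
    intro g hg i
    rw [hspan]
    have hle : Submodule.span k (Set.range v) ≤ (Submodule.span k (Set.range v)).comap (ρ g) :=
      Submodule.span_le.2 (by rintro _ ⟨j, rfl⟩; exact hst g hg j)
    exact hle (hspan ▸ Submodule.subset_span (Set.mem_range_self i))
  have hosa' : IsSA (c • B) o := fun x z => by simp [hosa x z]
  have hπo : o * gr.proj = gr.proj := LinearMap.ext fun z => hoz _ (hspan ▸ gr.proj_mem z)
  have hπo' : gr.proj * o = gr.proj := LinearMap.ext fun z => by
    have hfix : ∀ i, o (v' i) = v' i := fun i =>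
      hoz _ (hspan ▸ Submodule.subset_span (Set.mem_range_self i))
    rw [Module.End.mul_apply, gr.proj_apply, gr.proj_apply, hosa', hosa', hosa', hfix, hfix, hfix]
  obtain ⟨ε, u, hεε, hεg, hεsa, hu, hus, hεu⟩ := exists_lift_idem (ρ := ρ) (S := S) hS hTI (c • B) hB' hog
    hoo hosa' hkill (gr.proj_idem hp2) hπo hπo' gr.isSA_proj fun g hg =>
      gr.proj_commute hp2 (rho_mul_inv ρ g) (hB' g) (hsp g hg) (hsp g⁻¹ (inv_mem hg))
  set w : Fin 3 → M := fun i => u (v' i) with hw
  have hεw : ∀ i, ε (w i) = w i := fun i => by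
    show (ε * u) (v' i) = _
    rw [hεu, Module.End.mul_apply, gr.proj_basis hp2]
  obtain ⟨u', hu'⟩ := hu.exists_right_inv
  have hrange : ∀ z, ε z ∈ Submodule.span k (Set.range w) := by
    intro z
    have e : ε z = u (gr.proj (u' z)) := by
      calc ε z = (ε * (u * u')) z := by rw [hu', mul_one]
        _ = _ := by rw [← mul_assoc, hεu]; rfl
    rw [e]
    have hle : Submodule.span k (Set.range v') ≤ (Submodule.span k (Set.range w)).comap u :=
      Submodule.span_le.2 (by rintro _ ⟨i, rfl⟩; exact Submodule.subset_span (Set.mem_range_self i))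
    exact hle (gr.proj_mem _)
  have hyw : YRel (ρ y) w := by
    have hcomm : ∀ z, ρ y (u z) = u (ρ y z) := fun z => by
      rw [← Module.End.mul_apply, ← (hus ⟨y, hyS⟩).eq, Module.End.mul_apply]
    exact ⟨by simp [hw, hcomm, hy'.two], by simp [hw, hcomm, hy'.one, map_sub, map_smul],
      by simp [hw, hcomm, hy'.zero, map_sub, map_add]⟩
  have hsc : ∀ x z, (c • B) x z = (c • B) z x := fun x z => gr.symm x z
  have hw02 : (c • B) (w 0) (w 2) ≠ 0 := by
    intro h
    obtain ⟨a22, a12, -, -⟩ := rels_of_inv hsc hp2 (hB' y) hyw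
    have hker : ∀ z ∈ Submodule.span k (Set.range w), (c • B) (w 2) z = 0 := by
      intro z hz
      refine LinearMap.eqOn_span (f := (c • B) (w 2)) (g := 0) ?_ hz
      rintro _ ⟨i, rfl⟩
      fin_cases i <;> simp only [LinearMap.zero_apply]
      · rw [hsc]; exact h
      · rw [hsc]; exact a12
      · exact a22
    have hz : w 2 = 0 := hnd _ fun z => by
      have h1 := hεsa (w 2) z
      rw [hεw, hker _ (hrange z), LinearMap.smul_apply, LinearMap.smul_apply, smul_eq_mul,
        mul_eq_zero] at h1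
      exact h1.resolve_left hc
    have hv2 : v' 2 = 0 := by
      obtain ⟨u'', hu''⟩ := hu.exists_left_inv
      have := congrArg u'' hz
      rwa [map_zero, hw, ← Module.End.mul_apply, hu'', Module.End.one_apply] at this
    have := gr.h02
    rw [hv2, map_zero] at this
    exact zero_ne_one this
  obtain ⟨c', t', hc', gr', hy''⟩ := exists_gram hsc hp2 (hB' y) hyw hw02
  refine hom_of_triple ρ hp2 (fun g x z => by simp [hB]) gr' y hy'' fun g i => ?_
  have hmem : ∀ z ∈ Submodule.span k (Set.range w),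
      z ∈ Submodule.span k (Set.range ![w 0 + t' • w 2, w 1, w 2]) := by
    intro z hz
    refine (Submodule.span_le.2 ?_) hz
    rintro _ ⟨j, rfl⟩
    set W := Submodule.span k (Set.range ![w 0 + t' • w 2, w 1, w 2])
    have m0 : w 0 + t' • w 2 ∈ W := Submodule.subset_span ⟨0, rfl⟩
    have m1 : w 1 ∈ W := Submodule.subset_span ⟨1, rfl⟩
    have m2 : w 2 ∈ W := Submodule.subset_span ⟨2, rfl⟩
    fin_cases j
    · simpa using sub_mem m0 (W.smul_mem t' m2)
    · exact m1
    · exact m2
  refine hmem _ ?_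
  have e : ![w 0 + t' • w 2, w 1, w 2] i = ε (![w 0 + t' • w 2, w 1, w 2] i) := by
    fin_cases i <;> simp [hεw]
  rw [e, ← Module.End.mul_apply, ← (hεg g).eq, Module.End.mul_apply]
  exact hrange _

end Cfsg.Agent.SmallDim
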