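import Cfsg.Agent.Lib.SmallDim.Block
import Cfsg.Agent.Lib.SmallDim.Triple
import Mathlib.LinearAlgebra.Eigenspace.Zero
import Mathlib.LinearAlgebra.Charpoly.Basic
import Mathlib.GroupTheory.SchurZassenhaus

/-!
A faithful representation in characteristic `p` of degree at most `(p - 1) / 2` gives a map to
`PGL₂`, through the adjoint action on the endomorphisms.
-/

set_option autoImplicit false
set_option linter.unusedSectionVars false
set_option linter.style.haveILetI false

namespace Cfsg.Agent.SmallDim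

open Finset Module
open scoped Classical MatrixGroups Polynomial

variable {k : Type*} [Field k] {U : Type*} [AddCommGroup U] [Module k U] [FiniteDimensional k U]
variable {G : Type*} [Group G] [Finite G] (ρ : Representation k G U)

/-- The adjoint representation. -/
def adRep : Representation k G (Module.End k U) := Representation.linHom ρ ρ

theorem adRep_apply (g : G) (f : Module.End k U) : adRep ρ g f = ρ g * f * ρ g⁻¹ := rfl

/-- The conjugation by a group element as an algebra map. -/
def adAlg (g : G) : Module.End k U →ₐ[k] Module.End k U :=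
  AlgHom.ofLinearMap (adRep ρ g) (by rw [adRep_apply, mul_one, rho_mul_inv]) fun a b => by
    simp only [adRep_apply]
    rw [show ρ g * a * ρ g⁻¹ * (ρ g * b * ρ g⁻¹) = ρ g * a * (ρ g⁻¹ * ρ g) * b * ρ g⁻¹ by
      simp only [mul_assoc], rho_inv_mul, mul_one]
    simp only [mul_assoc]

theorem adAlg_apply (g : G) (f : Module.End k U) : adAlg ρ g f = adRep ρ g f := rfl

/-- The trace form. -/
noncomputable def trForm : Module.End k U →ₗ[k] Module.End k U →ₗ[k] k :=
  (LinearMap.mul k (Module.End k U)).compr₂ (LinearMap.trace k U)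

theorem trForm_apply (a b : Module.End k U) : trForm a b = LinearMap.trace k U (a * b) := rfl

theorem trForm_symm (a b : Module.End k U) : trForm a b = trForm b a :=
  LinearMap.trace_mul_comm k a b

theorem trForm_nondeg (a : Module.End k U) (h : ∀ b, trForm a b = 0) : a = 0 := by
  refine LinearMap.ext fun x => ?_
  rw [LinearMap.zero_apply]
  refine (Module.forall_dual_apply_eq_zero_iff k (a x)).1 fun φ => ?_
  have h1 := h (φ.smulRight x)
  rw [trForm_apply, show a * φ.smulRight x = φ.smulRight (a x) from LinearMap.ext fun z => by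
    simp [Module.End.mul_apply]] at h1
  rwa [LinearMap.trace_smulRight] at h1

theorem trForm_inv (g : G) (a b : Module.End k U) :
    trForm (adRep ρ g a) (adRep ρ g b) = trForm a b := by
  rw [trForm_apply, trForm_apply, ← adAlg_apply, ← adAlg_apply, ← map_mul, adAlg_apply, adRep_apply,
    LinearMap.trace_mul_comm, ← mul_assoc, rho_inv_mul, one_mul]

variable {p : ℕ} [hpF : Fact p.Prime] [CharP k p]

omit hpF in
theorem charP_end [Nontrivial U] : CharP (Module.End k U) p :=
  charP_of_injective_algebraMap (FaithfulSMul.algebraMap_injective k (Module.End k U)) p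

theorem geom_sum_charP {R : Type*} [Ring R] [Algebra k R] (z : R) :
    ∑ i ∈ range p, z ^ i = (z - 1) ^ (p - 1) := by
  have h : ((Polynomial.X : k[X]) - 1) * ∑ i ∈ range p, Polynomial.X ^ i =
      (Polynomial.X - 1) * (Polynomial.X - 1) ^ (p - 1) := by
    rw [mul_geom_sum, ← pow_succ', Nat.sub_add_cancel (hpF.out.one_le),
      sub_pow_char_of_commute p (Commute.one_right _), one_pow]
  have hne : (Polynomial.X : k[X]) - 1 ≠ 0 := Polynomial.X_sub_C_ne_zero (1 : k)
  have := congrArg (Polynomial.aeval z) (mul_left_cancel₀ hne h)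
  simpa using this

variable (S : Subgroup G)

/-- The elements of order `p` of the normaliser lie in `S`. -/
theorem mem_of_pow_eq_one (hS : Nat.card S = p) (hsq : ¬ p ^ 2 ∣ Nat.card G) {x : G}
    (hx : x ∈ Subgroup.normalizer (S : Set G)) (hxp : x ^ p = 1) : x ∈ S := by
  set N := Subgroup.normalizer (S : Set G) with hN
  haveI : (S.subgroupOf N).Normal := Subgroup.normal_subgroupOf_of_le_normalizer le_rfl
  set q : N ⧸ S.subgroupOf N := QuotientGroup.mk ⟨x, hx⟩ with hq
  have h1 : orderOf q ∣ p := orderOf_dvd_of_pow_eq_one (by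
    rw [hq, ← QuotientGroup.mk_pow, show (⟨x, hx⟩ : N) ^ p = 1 from Subtype.ext hxp]; rfl)
  have h2 : orderOf q ∣ (S.subgroupOf N).index := orderOf_dvd_natCard q
  have h3 : ¬ p ∣ (S.subgroupOf N).index := fun h => hsq (by
    have e := Subgroup.card_mul_index (S.subgroupOf N)
    rw [Nat.card_congr (Subgroup.subgroupOfEquivOfLe Subgroup.le_normalizer).toEquiv, hS] at e
    exact (pow_two p ▸ mul_dvd_mul_left p h).trans (e ▸ Subgroup.card_subgroup_dvd_card N))
  rcases (Nat.dvd_prime hpF.out).1 h1 with h | h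
  · have := (QuotientGroup.eq_one_iff _).1 (orderOf_eq_one_iff.1 h)
    exact this
  · exact absurd (h ▸ h2) h3

/-- Trivial intersection for a Sylow subgroup of prime order. -/
theorem ti_of_prime (hS : Nat.card S = p) (hsq : ¬ p ^ 2 ∣ Nat.card G) (g : G)
    (hg : g ∉ Subgroup.normalizer (S : Set G)) (s : G) (hs : s ∈ S)
    (hc : g⁻¹ * s * g ∈ Subgroup.normalizer (S : Set G)) : s = 1 := by
  by_contra hne
  have hsp : s ^ p = 1 := by
    have h : (⟨s, hs⟩ : S) ^ p = 1 := by rw [← hS]; exact pow_card_eq_one'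
    exact congrArg Subtype.val h
  have hm : g⁻¹ * s * g ∈ S := mem_of_pow_eq_one S hS hsq hc (by
    have := conj_pow (a := g⁻¹) (b := s) (i := p)
    rw [inv_inv] at this
    rw [this, hsp]; group)
  have hgen : S ≤ Subgroup.zpowers s := fun z hz => by
    obtain ⟨j, hj⟩ := Subgroup.mem_zpowers_iff.1
      (show (⟨z, hz⟩ : S) ∈ Subgroup.zpowers (⟨s, hs⟩ : S) from by
        rw [zpowers_eq_top_of_prime_card hS (g := ⟨s, hs⟩) (fun h => hne (congrArg Subtype.val h))]
        exact Subgroup.mem_top _)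
    exact Subgroup.mem_zpowers_iff.2 ⟨j, congrArg Subtype.val hj⟩
  refine hg (inv_inv g ▸ Subgroup.inv_mem _ (Subgroup.mem_normalizer_fintype (fun z hz => ?_)))
  obtain ⟨j, rfl⟩ := Subgroup.mem_zpowers_iff.1 (hgen hz)
  have e : g⁻¹ * s ^ j * g⁻¹⁻¹ = (g⁻¹ * s * g⁻¹⁻¹) ^ j := conj_zpow.symm
  show g⁻¹ * s ^ j * g⁻¹⁻¹ ∈ S
  rw [e, inv_inv]
  exact zpow_mem hm j

variable {S} {y : G}

theorem exists_pow_eq (hS : Nat.card S = p) (hy : y ∈ S) (hy1 : y ≠ 1) {z : G} (hz : z ∈ S) :
    ∃ a : ℕ, z = y ^ a := by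
  have h : (⟨z, hz⟩ : S) ∈ Subgroup.zpowers (⟨y, hy⟩ : S) := by
    rw [zpowers_eq_top_of_prime_card hS (g := ⟨y, hy⟩) (fun h => hy1 (congrArg Subtype.val h))]
    exact Subgroup.mem_top _
  obtain ⟨a, ha⟩ := (isOfFinOrder_of_finite _).mem_powers_iff_mem_zpowers.2 h
  exact ⟨a, (congrArg Subtype.val ha).symm⟩

theorem pow_p_eq_one (hS : Nat.card S = p) (hy : y ∈ S) : y ^ p = 1 := by
  have h : (⟨y, hy⟩ : S) ^ p = 1 := by rw [← hS]; exact pow_card_eq_one'
  exact congrArg Subtype.val h

/-- The sum over `S` as a power of a nilpotent map. -/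
theorem sum_rep_eq {M : Type*} [AddCommGroup M] [Module k M] [Fintype S]
    (σ : Representation k G M) (hS : Nat.card S = p) (hy : y ∈ S) (hy1 : y ≠ 1) :
    ∑ s : S, σ (s : G) = (σ y - 1) ^ (p - 1) := by
  rw [← geom_sum_charP (k := k)]
  have ho : orderOf (⟨y, hy⟩ : S) = p := by
    rw [← hS]
    refine orderOf_eq_card_of_forall_mem_zpowers fun z => ?_
    rw [zpowers_eq_top_of_prime_card hS (g := ⟨y, hy⟩) (fun h => hy1 (congrArg Subtype.val h))]
    exact Subgroup.mem_top _
  refine (Finset.sum_bij (fun i _ => (⟨y, hy⟩ : S) ^ i) (fun i _ => Finset.mem_univ _)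
    (fun i hi j hj h => pow_injOn_Iio_orderOf (by simpa [ho] using hi) (by simpa [ho] using hj) h)
    (fun z _ => ?_) (fun i _ => ?_)).symm
  · obtain ⟨a, ha⟩ := exists_pow_eq hS hy hy1 z.2
    refine ⟨a % p, mem_range.2 (Nat.mod_lt _ hpF.out.pos), Subtype.ext ?_⟩
    rw [SubmonoidClass.coe_pow]
    show y ^ (a % p) = _
    rw [ha, ← pow_eq_pow_mod a (pow_p_eq_one hS hy)]
  · rw [SubmonoidClass.coe_pow, map_pow]

end Cfsg.Agent.SmallDim
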