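import Cfsg.Agent.Lib.SmallDim.Core

/-!
The standard triple inside the endomorphisms of a representation of small degree.
-/

set_option autoImplicit false
set_option linter.unusedSectionVars false
set_option linter.style.haveILetI false

namespace Cfsg.Agent.SmallDim

open Finset Module
open scoped Classical MatrixGroups

variable {k : Type*} [Field k] {U : Type*} [AddCommGroup U] [Module k U] [FiniteDimensional k U]
variable {G : Type*} [Group G] [Finite G] (ρ : Representation k G U)
variable {p : ℕ} [hpF : Fact p.Prime] [CharP k p] {S : Subgroup G} [Fintype S] {y : G}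

local notation "𝕄" => Module.End k U

theorem adRep_sub_one (g : G) :
    adRep ρ g - 1 = (LinearMap.mulLeft k (ρ g - 1) - LinearMap.mulRight k (ρ g - 1)) *
      LinearMap.mulRight k (ρ g⁻¹) := by
  refine LinearMap.ext fun f => ?_
  simp [adRep_apply, sub_mul, mul_sub, mul_assoc, rho_inv_mul]

theorem A_pow_eq_zero (hS : Nat.card S = p) (hy : y ∈ S) :
    (ρ y - 1) ^ Module.finrank k U = 0 := by
  rcases subsingleton_or_nontrivial U with h | h
  · exact Subsingleton.elim _ _
  haveI := charP_end (k := k) (U := U) (p := p)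
  have hn : IsNilpotent (ρ y - 1) := ⟨p, by
    rw [sub_pow_char_of_commute p (Commute.one_right _), one_pow, ← map_pow, pow_p_eq_one hS hy,
      map_one, sub_self]⟩
  have h := LinearMap.aeval_self_charpoly (ρ y - 1)
  rwa [IsNilpotent.charpoly_eq_X_pow_finrank hn, map_pow, Polynomial.aeval_X] at h

/-- Powers of `L_A - R_A` beyond twice the nilpotency index vanish. -/
theorem ad_pow_eq_zero {A : 𝕄} {d m : ℕ} (hA : A ^ d = 0) (hm : 2 * d ≤ m + 1) :
    (LinearMap.mulLeft k A - LinearMap.mulRight k A) ^ m = 0 := by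
  rw [sub_eq_add_neg, ((LinearMap.commute_mulLeft_right A A).neg_right).add_pow]
  refine Finset.sum_eq_zero fun i hi => ?_
  have hi' := Finset.mem_range.1 hi
  rw [neg_pow, LinearMap.pow_mulLeft, LinearMap.pow_mulRight]
  rcases Nat.lt_or_ge i d with h | h
  · rw [pow_eq_zero_of_le (show d ≤ m - i by omega) hA, LinearMap.mulRight_zero_eq_zero]
    simp
  · rw [pow_eq_zero_of_le h hA, LinearMap.mulLeft_zero_eq_zero]
    simp

/-- In small degree the sum over `S` kills everything. -/
theorem kill_of_small (hS : Nat.card S = p) (hy : y ∈ S) (hy1 : y ≠ 1)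
    (hd : 2 * Module.finrank k U ≤ p) : ∑ s : S, adRep ρ (s : G) = 0 := by
  rw [sum_rep_eq (adRep ρ) hS hy hy1, adRep_sub_one]
  have hc : Commute (LinearMap.mulLeft k (ρ y - 1) - LinearMap.mulRight k (ρ y - 1))
      (LinearMap.mulRight k (ρ y⁻¹)) := by
    refine (LinearMap.commute_mulLeft_right _ _).sub_left ?_
    refine LinearMap.ext fun f => ?_
    simp [mul_assoc, sub_mul, mul_sub, rho_inv_mul, rho_mul_inv]
  rw [hc.mul_pow, ad_pow_eq_zero (A_pow_eq_zero ρ hS hy) (by have := hpF.out.one_le; omega), zero_mul]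

/-- In the boundary degree the sum over `S` lands on one line. -/
theorem kill_range (hS : Nat.card S = p) (hy : y ∈ S) (hy1 : y ≠ 1)
    (hd : 2 * Module.finrank k U = p + 1) (f : 𝕄) :
    ∃ c : k, (∑ s : S, adRep ρ (s : G)) f = c • (ρ y - 1) ^ (Module.finrank k U - 1) := by
  set A := ρ y - 1 with hA
  set d := Module.finrank k U with hdd
  have hAd : A ^ d = 0 := A_pow_eq_zero ρ hS hy
  -- the sandwich
  have hone : ∀ g : 𝕄, ∃ c : k, A ^ (d - 1) * g * A ^ (d - 1) = c • A ^ (d - 1) := by
    intro g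
    by_cases h0 : A ^ (d - 1) = 0
    · exact ⟨0, by rw [h0]; simp⟩
    obtain ⟨v, hv⟩ : ∃ v, (A ^ (d - 1)) v ≠ 0 := by
      by_contra h
      push Not at h
      exact h0 (LinearMap.ext fun v => by simpa using h v)
    have hli : LinearIndependent k fun i : Fin d => (A ^ (i : ℕ)) v := by
      rw [Fintype.linearIndependent_iff]
      intro c hc
      by_contra hne
      push Not at hne
      obtain ⟨i, hi, hmin⟩ := WellFounded.has_min (wellFounded_lt (α := Fin d)) {i | c i ≠ 0} hne
      refine hi ?_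
      have h1 := congrArg (A ^ (d - 1 - (i : ℕ))) hc
      rw [map_sum, map_zero, Finset.sum_eq_single i] at h1
      · rw [map_smul, ← Module.End.mul_apply, ← pow_add,
          show d - 1 - (i : ℕ) + i = d - 1 by have := i.2; omega, smul_eq_zero] at h1
        exact h1.resolve_right hv
      · intro j _ hj
        rcases lt_or_gt_of_ne hj with h | h
        · rw [show c j = 0 from not_not.1 fun hne => hmin j hne h, zero_smul, map_zero]
        · rw [map_smul, ← Module.End.mul_apply, ← pow_add,
            pow_eq_zero_of_le (show d ≤ d - 1 - (i : ℕ) + j by have := i.2; omega) hAd,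
            LinearMap.zero_apply, smul_zero]
      · exact fun h => absurd (Finset.mem_univ _) h
    have hspan := hli.span_eq_top_of_card_eq_finrank' (by simp [hdd])
    have hd1 : 0 < d := by
      rcases Nat.eq_zero_or_pos d with h | h
      · exact absurd (by rw [show d - 1 = d by omega, hAd]) h0
      · exact h
    have himg : ∀ u, ∃ c : k, (A ^ (d - 1)) u = c • (A ^ (d - 1)) v := by
      intro u
      have hu : u ∈ Submodule.span k (Set.range fun i : Fin d => (A ^ (i : ℕ)) v) := by
        rw [hspan]; exact Submodule.mem_top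
      refine Submodule.span_induction (fun x hx => ?_) ⟨0, by simp⟩ (fun a b _ _ ha hb => ?_)
        (fun t a _ ha => ?_) hu
      · obtain ⟨i, rfl⟩ := hx
        show ∃ c : k, (A ^ (d - 1)) ((A ^ (i : ℕ)) v) = _
        rcases Nat.eq_zero_or_pos (i : ℕ) with h | h
        · exact ⟨1, by rw [h, pow_zero, Module.End.one_apply, one_smul]⟩
        · exact ⟨0, by rw [← Module.End.mul_apply, ← pow_add,
            pow_eq_zero_of_le (show d ≤ d - 1 + i by omega) hAd]; simp⟩
      · obtain ⟨c, hc⟩ := ha; obtain ⟨c', hc'⟩ := hb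
        exact ⟨c + c', by rw [map_add, hc, hc', add_smul]⟩
      · obtain ⟨c, hc⟩ := ha
        exact ⟨t * c, by rw [map_smul, hc, smul_smul]⟩
    obtain ⟨c, hc⟩ := himg (g ((A ^ (d - 1)) v))
    refine ⟨c, LinearMap.ext fun u => ?_⟩
    obtain ⟨a, ha⟩ := himg u
    simp only [Module.End.mul_apply, LinearMap.smul_apply, ha, map_smul, hc, smul_smul, mul_comm a]
  rw [sum_rep_eq (adRep ρ) hS hy hy1, adRep_sub_one, Commute.mul_pow, Module.End.mul_apply]
  · rw [sub_eq_add_neg, ((LinearMap.commute_mulLeft_right (R := k) A A).neg_right).add_pow, LinearMap.sum_apply,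
      Finset.sum_eq_single (d - 1)]
    · rw [neg_pow, ← neg_one_smul k (1 : Module.End k 𝕄), smul_pow, one_pow, LinearMap.pow_mulLeft,
        LinearMap.pow_mulRight]
      obtain ⟨c, hc⟩ := hone ((LinearMap.mulRight k (ρ y⁻¹) ^ (p - 1)) f)
      refine ⟨(((p - 1).choose (d - 1) : ℕ) : k) * (-1 : k) ^ (p - 1 - (d - 1)) * c, ?_⟩
      rw [show p - 1 - (d - 1) = d - 1 by omega, ← nsmul_eq_mul', LinearMap.smul_apply,
        ← Nat.cast_smul_eq_nsmul k, ← smul_smul, ← smul_smul, ← hc]
      simp [Module.End.mul_apply, mul_assoc, mul_comm, smul_smul]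
    · intro i hi hne
      have hi' := Finset.mem_range.1 hi
      rw [neg_pow, LinearMap.pow_mulLeft, LinearMap.pow_mulRight]
      rcases Nat.lt_or_ge i d with h | h
      · rw [pow_eq_zero_of_le (show d ≤ p - 1 - i by omega) hAd, LinearMap.mulRight_zero_eq_zero]
        simp
      · rw [pow_eq_zero_of_le h hAd, LinearMap.mulLeft_zero_eq_zero]
        simp
    · intro h
      exact absurd (Finset.mem_range.2 (by omega)) h
  · refine (LinearMap.commute_mulLeft_right _ _).sub_left ?_
    refine LinearMap.ext fun f => ?_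
    simp [mul_assoc, sub_mul, mul_sub, rho_inv_mul, rho_mul_inv]

/-- The standard triple. -/
theorem exists_triple (hS : Nat.card S = p) (hsq : ¬ p ^ 2 ∣ Nat.card G) (hy : y ∈ S)
    (hA : ρ y ≠ 1) (hd : 2 * Module.finrank k U ≤ p + 1) (hp5 : 5 ≤ p) :
    ∃ v : Fin 3 → 𝕄, YRel (adRep ρ y) v ∧ trForm (v 0) (v 2) ≠ 0 ∧
      (∀ n ∈ Subgroup.normalizer (S : Set G), ∀ i,
        adRep ρ n (v i) ∈ Submodule.span k (Set.range v)) ∧
      ∀ n ∈ Subgroup.normalizer (S : Set G), ∀ a : ℕ, n * y * n⁻¹ = y ^ a →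
        adRep ρ n (v 2) = (a : k) • v 2 := by
  have hy1 : y ≠ 1 := fun h => hA (by rw [h, map_one])
  have h2 : (2 : k) ≠ 0 := by
    rw [show (2 : k) = ((2 : ℕ) : k) by norm_num, Ne, CharP.cast_eq_zero_iff k p]
    intro h; have := Nat.le_of_dvd (by norm_num) h; omega
  set A := ρ y - 1 with hAdef
  set d := Module.finrank k U with hdd
  have hAd : A ^ d = 0 := A_pow_eq_zero ρ hS hy
  obtain ⟨X, hX, hXe⟩ := exists_log (k := k) (p := p) hAd (by omega)
  have hu : texp k p X = ρ y := by rw [hXe, hAdef, add_sub_cancel]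
  have hu' : texp k p (-X) = ρ y⁻¹ := by
    have h := congrArg (ρ y⁻¹ * ·) (texp_mul_neg (p := p) hAd (by omega) hX)
    simp only [hu, ← mul_assoc, rho_inv_mul, one_mul, mul_one] at h
    exact h
  -- the nilpotency index
  have hXd : X ^ d = 0 := by
    have := hX.pow_mul_pow hAd hX d 0 (by omega)
    rwa [pow_zero, mul_one] at this
  have hX0 : X ≠ 0 := fun h => hA (by rw [← hu, h, texp_zero hpF.out.pos])
  have hex : ∃ r, X ^ r = 0 := ⟨d, hXd⟩
  have hrd : Nat.find hex ≤ d := Nat.find_le hXd
  have hr2 : 2 ≤ Nat.find hex := by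
    by_contra h
    have h1 := Nat.find_spec hex
    rcases (show Nat.find hex = 0 ∨ Nat.find hex = 1 by omega) with e | e <;> rw [e] at h1
    · rw [pow_zero] at h1
      exact hX0 (by rw [← mul_one X, h1, mul_zero])
    · exact hX0 (by rwa [pow_one] at h1)
  obtain ⟨n, hn⟩ : ∃ n, Nat.find hex = n + 2 := ⟨Nat.find hex - 2, by omega⟩
  have hXn : X ^ (n + 2) = 0 := hn ▸ Nat.find_spec hex
  have hXn' : X ^ (n + 1) ≠ 0 := Nat.find_min hex (by omega)
  -- the complement of `S` in the normaliser
  set N := Subgroup.normalizer (S : Set G) with hN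
  have hSN : S ≤ N := Subgroup.le_normalizer
  haveI : (S.subgroupOf N).Normal := Subgroup.normal_subgroupOf_of_le_normalizer le_rfl
  have hcS : Nat.card (S.subgroupOf N) = p := by
    rw [Nat.card_congr (Subgroup.subgroupOfEquivOfLe hSN).toEquiv, hS]
  have hindex : ¬ p ∣ (S.subgroupOf N).index := fun h => hsq (by
    have e := Subgroup.card_mul_index (S.subgroupOf N)
    rw [hcS] at e
    exact (pow_two p ▸ mul_dvd_mul_left p h).trans (e ▸ Subgroup.card_subgroup_dvd_card N))
  obtain ⟨L, hL⟩ := Subgroup.exists_right_complement'_of_coprime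
    (N := S.subgroupOf N) (by rw [hcS]; exact hpF.out.coprime_iff_not_dvd.2 hindex)
  haveI : Fintype L := Fintype.ofFinite _
  have hLc : (Nat.card L : k) ≠ 0 := by
    rw [Ne, CharP.cast_eq_zero_iff k p, ← (Subgroup.IsComplement'.symm hL).index_eq_card]
    exact hindex
  have hcong : ∀ n ∈ N, ∃ a : ℕ, n * y * n⁻¹ = y ^ a := fun n hn =>
    exists_pow_eq hS hy hy1 ((Subgroup.mem_normalizer_iff.1 hn y).1 hy)
  choose! a ha using hcong
  -- the action on the logarithm
  have hscale : ∀ g : G, ∀ b : ℕ, g * y * g⁻¹ = y ^ b → adAlg ρ g X = (b : k) • X := by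
    intro g b hb
    have hσA : adAlg ρ g A = (1 + A) ^ b - 1 := by
      rw [hAdef, map_sub, map_one, adAlg_apply, adRep_apply, ← map_mul, ← map_mul, hb,
        add_sub_cancel, map_pow]
    have hσAm : InN (k := k) A (adAlg ρ g A) := by
      rw [hσA]
      refine ⟨∑ i ∈ range b, (1 + A) ^ i, Subalgebra.sum_mem _ fun i _ =>
        Subalgebra.pow_mem _ (add_mem (one_mem _) (Algebra.self_mem_adjoin_singleton k A)) i, ?_⟩
      rw [← mul_geom_sum, add_sub_cancel_left]
    have hσX : InN (k := k) A (adAlg ρ g X) := by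
      obtain ⟨r, hr, e⟩ := hX
      rw [e, map_mul]
      refine hσAm.mul ?_
      have hle : Algebra.adjoin k {A} ≤ (Algebra.adjoin k {A}).comap (adAlg ρ g) :=
        Algebra.adjoin_le (Set.singleton_subset_iff.2 hσAm.mem)
      exact hle hr
    refine texp_injective (p := p) hAd (by omega) hσX (hX.smul _) ?_
    rw [← texp_map, ← texp_pow hAd (by omega) hX, hu, adAlg_apply, adRep_apply, ← map_mul, ← map_mul,
      hb, map_pow]
  have ha0 : ∀ n ∈ N, ((a n : ℕ) : k) ≠ 0 := by
    intro n hn h
    rw [CharP.cast_eq_zero_iff k p] at h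
    obtain ⟨t, ht⟩ := h
    have := ha n hn
    rw [ht, pow_mul, pow_p_eq_one hS hy, one_pow] at this
    exact hy1 (conj_eq_one_iff.1 this)
  let g : L → G := fun l => ((l : N) : G)
  obtain ⟨Q, F, htr, hQ⟩ := exists_frame (p := p) (hdp := by omega) (L := L) hLc
    (fun l => adAlg ρ (g l)) (fun l m x => by
      show adAlg ρ (g (l * m)) x = adAlg ρ (g l) (adAlg ρ (g m) x)
      simp only [adAlg_apply]
      rw [show g (l * m) = g l * g m from rfl, map_mul]
      rfl)
    (fun l => ((a (g l) : ℕ) : k)) (fun l => ha0 _ (l : N).2) X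
    (fun l => hscale _ _ (ha _ (l : N).2)) hXn hXn'
  set v : Fin 3 → 𝕄 := ![bY X Q n, bH X Q n, bX X Q n] with hv
  -- the action of `y`
  have hAdy : ∀ z : 𝕄,
      (LinearMap.mulLeft k X - LinearMap.mulRight k X)
        ((LinearMap.mulLeft k X - LinearMap.mulRight k X)
          ((LinearMap.mulLeft k X - LinearMap.mulRight k X) z)) = 0 →
      adRep ρ y z = z + (X * z - z * X) +
        (2 : k)⁻¹ • (X * (X * z - z * X) - (X * z - z * X) * X) := by
    intro z hz
    set D := LinearMap.mulLeft k X - LinearMap.mulRight k X with hD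
    have he : adRep ρ y = texp k p D := by
      have eL : texp k p (LinearMap.mulLeft k X) = LinearMap.mulLeft k (texp k p X) :=
        (texp_map (Algebra.lmul k 𝕄) p X).symm
      have eR : texp k p (-LinearMap.mulRight k X) = LinearMap.mulRight k (texp k p (-X)) := by
        have e : -LinearMap.mulRight k X = LinearMap.mulRight k (-X) :=
          LinearMap.ext fun f => by simp
        rw [e]
        refine LinearMap.ext fun f => ?_
        simp only [texp, LinearMap.sum_apply, LinearMap.smul_apply, LinearMap.pow_mulRight,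
          LinearMap.mulRight_apply, Finset.mul_sum, mul_smul_comm]
      rw [hD, sub_eq_add_neg, ← texp_add (p := p) ((LinearMap.commute_mulLeft_right X X).neg_right)]
      · rw [eL, eR, hu, hu']
        refine LinearMap.ext fun f => ?_
        rw [adRep_apply, Module.End.mul_apply, LinearMap.mulLeft_apply, LinearMap.mulRight_apply,
          mul_assoc]
      · intro i j hij
        rw [neg_pow, LinearMap.pow_mulLeft, LinearMap.pow_mulRight]
        rcases Nat.lt_or_ge i d with h | h
        · rw [pow_eq_zero_of_le (show d ≤ j by omega) hXd, LinearMap.mulRight_zero_eq_zero]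
          simp
        · rw [pow_eq_zero_of_le h hXd, LinearMap.mulLeft_zero_eq_zero]
          simp
    have hD3 : ∀ i, (D ^ (i + 1 + 1 + 1)) z = 0 := fun i => by
      rw [show i + 1 + 1 + 1 = i + 3 by omega, pow_add, Module.End.mul_apply, pow_succ, pow_two,
        Module.End.mul_apply, Module.End.mul_apply, hz, map_zero]
    obtain ⟨m, hm⟩ : ∃ m, p = m + 1 + 1 + 1 := ⟨p - 3, by omega⟩
    rw [he, texp, hm, Finset.sum_range_succ', Finset.sum_range_succ', Finset.sum_range_succ']
    simp only [LinearMap.add_apply, LinearMap.sum_apply, LinearMap.smul_apply, hD3, smul_zero,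
      Finset.sum_const_zero, zero_add]
    simp [pow_two, hD, Module.End.mul_apply]
    abel
  have c2 : X * bX X Q n - bX X Q n * X = 0 := F.bX_comm
  have c1 : X * bH X Q n - bH X Q n * X = (-2 : k) • bX X Q n := F.bH_comm
  have c0 : X * bY X Q n - bY X Q n * X = bH X Q n := F.bY_comm
  have c2' : X * bX X Q n = bX X Q n * X := sub_eq_zero.1 c2
  have hrel : YRel (adRep ρ y) v := by
    refine ⟨?_, ?_, ?_⟩
    · show adRep ρ y (bX X Q n) = bX X Q n
      rw [hAdy _ (by simp [c2]), c2]
      simp
    · show adRep ρ y (bH X Q n) = bH X Q n - (2 : k) • bX X Q n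
      rw [hAdy _ (by simp [c1, c2']), c1]
      simp [c2', sub_eq_add_neg]
    · show adRep ρ y (bY X Q n) = bY X Q n + bH X Q n - bX X Q n
      rw [hAdy _ (by simp [c0, c1, c2']), c0, c1, smul_smul]
      rw [show (2 : k)⁻¹ * -2 = -1 by field_simp, neg_one_smul, sub_eq_add_neg (bY X Q n + _)]
  -- stability
  have hfix2 : ∀ s ∈ S, adRep ρ s (v 2) = v 2 := by
    intro s hs
    obtain ⟨b, rfl⟩ := exists_pow_eq hS hy hy1 hs
    rw [map_pow]
    clear hs
    induction b with
    | zero => rfl
    | succ b ih => rw [pow_succ, Module.End.mul_apply, hrel.two, ih]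
  have hspS : ∀ s ∈ S, ∀ z ∈ Submodule.span k (Set.range v),
      adRep ρ s z ∈ Submodule.span k (Set.range v) := by
    have m : ∀ i, v i ∈ Submodule.span k (Set.range v) := fun i =>
      Submodule.subset_span (Set.mem_range_self i)
    have h1 : Submodule.span k (Set.range v) ≤ (Submodule.span k (Set.range v)).comap (adRep ρ y) :=
      Submodule.span_le.2 (by
        rintro _ ⟨i, rfl⟩
        fin_cases i
        · exact Submodule.mem_comap.2 (hrel.zero ▸ sub_mem (add_mem (m 0) (m 1)) (m 2))
        · exact Submodule.mem_comap.2 (hrel.one ▸ sub_mem (m 1) (Submodule.smul_mem _ _ (m 2)))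
        · exact Submodule.mem_comap.2 (hrel.two.symm ▸ m 2))
    intro s hs z hz
    obtain ⟨b, rfl⟩ := exists_pow_eq hS hy hy1 hs
    rw [map_pow]
    clear hs
    induction b with
    | zero => exact hz
    | succ b ih => rw [pow_succ', Module.End.mul_apply]; exact h1 ih
  have hsplit : ∀ n ∈ N, ∃ s ∈ S, ∃ l : L, n = s * g l := by
    intro n hn
    obtain ⟨⟨⟨⟨s, hsN⟩, hs⟩, l⟩, hsl⟩ := hL.2 ⟨n, hn⟩
    exact ⟨s, hs, l, (congrArg Subtype.val hsl).symm⟩
  refine ⟨v, hrel, F.trace_bY_bX (p := p) (by omega) htr, fun nn hn i => ?_, fun nn hn b hb => ?_⟩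
  · obtain ⟨s, hs, l, rfl⟩ := hsplit nn hn
    rw [map_mul, Module.End.mul_apply]
    refine hspS s hs _ ?_
    have hXl := hscale _ _ (ha _ (l : N).2)
    have m : ∀ (c : k) i, c • v i ∈ Submodule.span k (Set.range v) := fun c i =>
      Submodule.smul_mem _ c (Submodule.subset_span (Set.mem_range_self i))
    fin_cases i
    · show adAlg ρ (g l) (bY X Q n) ∈ _
      rw [F.map_bY _ (ha0 _ (l : N).2) hXl (hQ l)]
      exact m _ 0
    · show adAlg ρ (g l) (bH X Q n) ∈ _
      rw [F.map_bH _ (ha0 _ (l : N).2) hXl (hQ l)]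
      exact Submodule.subset_span (Set.mem_range_self (1 : Fin 3))
    · show adAlg ρ (g l) (bX X Q n) ∈ _
      rw [F.map_bX _ (ha0 _ (l : N).2) hXl (hQ l)]
      exact m _ 2
  · obtain ⟨s, hs, l, rfl⟩ := hsplit nn hn
    have hal : g l * y * (g l)⁻¹ = y ^ b := by
      have hc : s⁻¹ * y ^ b * s = y ^ b := by
        obtain ⟨i, rfl⟩ := exists_pow_eq hS hy hy1 hs
        rw [mul_assoc, ((Commute.refl y).pow_pow b i).eq, ← mul_assoc, inv_mul_cancel, one_mul]
      rw [← hc, ← hb]
      group
    rw [map_mul, Module.End.mul_apply]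
    show adRep ρ s (adAlg ρ (g l) (bX X Q n)) = _
    rw [F.map_bX _ (ha0 _ (l : N).2) (hscale _ _ (ha _ (l : N).2)) (hQ l), map_smul]
    have e : ((a (g l) : ℕ) : k) = (b : k) := by
      have h1 := (hscale _ _ (ha _ (l : N).2)).symm.trans (hscale _ _ hal)
      exact smul_left_injective k hX0 h1
    rw [e]
    exact congrArg _ (hfix2 s hs)

/-- A faithful representation of small degree gives a map to `PGL₂`. -/
theorem exists_hom_small (hS : Nat.card S = p) (hsq : ¬ p ^ 2 ∣ Nat.card G) (hy : y ∈ S)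
    (hA : ρ y ≠ 1) (hd : 2 * Module.finrank k U ≤ p) (hp5 : 5 ≤ p) :
    ∃ φ : G →* PGL(2, k), φ y = Matrix.ProjGenLinGroup.mk
      (Matrix.GeneralLinearGroup.mkOfDetNeZero !![1, 1; 0, 1] (by simp [Matrix.det_fin_two])) := by
  obtain ⟨v, hrel, h02, hst, -⟩ := exists_triple ρ hS hsq hy hA (by omega) hp5
  have h2 : (2 : k) ≠ 0 := by
    rw [show (2 : k) = ((2 : ℕ) : k) by norm_num, Ne, CharP.cast_eq_zero_iff k p]
    intro h; have := Nat.le_of_dvd (by norm_num) h; omega
  exact exists_hom_pgl (p := p) h2 (adRep ρ) S hS (fun g hg s hs h => ti_of_prime S hS hsq g hg s hs h)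
    trForm trForm_symm trForm_nondeg (trForm_inv ρ) (o := 1) (fun g => Commute.one_left _)
    (mul_one 1) IsSA.one (by rw [kill_of_small ρ hS hy (fun h => hA (by rw [h, map_one])) hd, zero_mul])
    hy hrel h02 (fun i => rfl) hst

end Cfsg.Agent.SmallDim
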