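import Cfsg.Agent.Lib.SmallDim.TExp
import Mathlib.LinearAlgebra.Trace
import Mathlib.LinearAlgebra.Projection
import Mathlib.LinearAlgebra.FiniteDimensional.Basic
import Mathlib.LinearAlgebra.Basis.VectorSpace
import Mathlib.Tactic.Ring

/-!
The blocks of largest size of a nilpotent endomorphism, with a stable complement, and the
three-dimensional space of endomorphisms they give.
-/

set_option autoImplicit false
set_option linter.unusedSectionVars false

namespace Cfsg.Agent.SmallDim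

open Finset Module
open scoped Classical

variable {k : Type*} [Field k] {U : Type*} [AddCommGroup U] [Module k U] [FiniteDimensional k U]

local notation "𝕄" => Module.End k U

/-- `Q` splits off the blocks of size `n + 2` of `X`. -/
structure Frame (X Q : Module.End k U) (n : ℕ) : Prop where
  pow_zero' : X ^ (n + 2) = 0
  rel : ∀ m, Q * X ^ m * Q = if m = n + 1 then Q else 0

/-- The matrix units of a frame. -/
def eU (X Q : 𝕄) (n i j : ℕ) : 𝕄 := X ^ i * Q * X ^ (n + 1 - j)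

/-- The raising vector. -/
def bX (X Q : 𝕄) (n : ℕ) : 𝕄 := ∑ i ∈ range (n + 1), eU X Q n (i + 1) i

/-- The middle vector. -/
def bH (X Q : 𝕄) (n : ℕ) : 𝕄 :=
  ∑ i ∈ range (n + 2), (2 * (i : k) - (n + 1)) • eU X Q n i i

/-- The lowering vector. -/
def bY (X Q : 𝕄) (n : ℕ) : 𝕄 :=
  ∑ i ∈ range (n + 1), (((i : k) + 1) * (n + 1 - i)) • eU X Q n i (i + 1)

namespace Frame

variable {X Q : Module.End k U} {n : ℕ}

theorem X_mul (i j : ℕ) : X * eU X Q n i j = eU X Q n (i + 1) j := by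
  rw [eU, eU, ← mul_assoc, ← mul_assoc, ← pow_succ']

theorem eU_top (F : Frame X Q n) (j : ℕ) : eU X Q n (n + 2) j = 0 := by
  rw [eU, F.pow_zero', zero_mul, zero_mul]

theorem mul_X {i j : ℕ} (hj : j ≤ n) : eU X Q n i (j + 1) * X = eU X Q n i j := by
  rw [eU, eU, mul_assoc _ _ X, ← pow_succ]
  congr 2
  omega

theorem mul_X_zero (F : Frame X Q n) (i : ℕ) : eU X Q n i 0 * X = 0 := by
  rw [eU, mul_assoc _ _ X, ← pow_succ, Nat.sub_zero, F.pow_zero', mul_zero]

theorem eU_mul (F : Frame X Q n) {i j a b : ℕ} (hj : j ≤ n + 1) :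
    eU X Q n i j * eU X Q n a b = if j = a then eU X Q n i b else 0 := by
  have e : eU X Q n i j * eU X Q n a b = X ^ i * (Q * X ^ (n + 1 - j + a) * Q) * X ^ (n + 1 - b) := by
    rw [eU, eU, pow_add]; simp only [mul_assoc]
  rw [e, F.rel]
  by_cases h : j = a
  · subst h; rw [if_pos (by omega), if_pos rfl]; rfl
  · rw [if_neg (by omega), if_neg h, mul_zero, zero_mul]

theorem bX_comm (F : Frame X Q n) : X * bX X Q n - bX X Q n * X = 0 := by
  rw [bX, mul_sum, sum_mul, sum_range_succ, sum_range_succ', X_mul, F.eU_top, F.mul_X_zero, add_zero,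
    add_zero, ← sum_sub_distrib]
  exact sum_eq_zero fun i hi => by
    rw [X_mul, mul_X (by have := mem_range.1 hi; omega), sub_self]

theorem bH_comm (F : Frame X Q n) : X * bH X Q n - bH X Q n * X = (-2 : k) • bX X Q n := by
  rw [bH, mul_sum, sum_mul, sum_range_succ, sum_range_succ' (fun i => (_ • eU X Q n i i) * X)]
  simp only [mul_smul_comm, smul_mul_assoc, X_mul, F.mul_X_zero, F.eU_top, smul_zero, add_zero]
  rw [← sum_sub_distrib, bX, smul_sum]
  refine sum_congr rfl fun i hi => ?_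
  rw [mul_X (by have := mem_range.1 hi; omega), ← sub_smul]
  congr 1
  push_cast
  ring

theorem bY_comm (F : Frame X Q n) : X * bY X Q n - bY X Q n * X = bH X Q n := by
  rw [bY, bH, mul_sum, sum_mul]
  have e1 : ∑ i ∈ range (n + 1), X * ((((i : k) + 1) * (n + 1 - i)) • eU X Q n i (i + 1)) =
      ∑ i ∈ range (n + 2), ((i : k) * (n + 2 - i)) • eU X Q n i i := by
    rw [sum_range_succ' (fun i => ((i : k) * (n + 2 - i)) • eU X Q n i i), Nat.cast_zero, zero_mul,
      zero_smul, add_zero]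
    refine sum_congr rfl fun i _ => ?_
    rw [mul_smul_comm, X_mul]
    congr 1
    push_cast
    ring
  have e2 : ∑ i ∈ range (n + 1), ((((i : k) + 1) * (n + 1 - i)) • eU X Q n i (i + 1)) * X =
      ∑ i ∈ range (n + 2), (((i : k) + 1) * (n + 1 - i)) • eU X Q n i i := by
    rw [sum_range_succ (fun i => (((i : k) + 1) * (n + 1 - i)) • eU X Q n i i)]
    push_cast
    rw [sub_self, mul_zero, zero_smul, add_zero]
    refine sum_congr rfl fun i hi => ?_
    rw [smul_mul_assoc, mul_X (by have := mem_range.1 hi; omega)]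
  rw [e1, e2, ← sum_sub_distrib]
  refine sum_congr rfl fun i _ => ?_
  rw [← sub_smul]
  congr 1
  ring

theorem trace_eU (i : ℕ) (hi : i ≤ n + 1) :
    LinearMap.trace k U (eU X Q n i i) = LinearMap.trace k U (Q * X ^ (n + 1)) := by
  rw [eU, mul_assoc, LinearMap.trace_mul_comm, mul_assoc, ← pow_add]
  congr 3
  omega

theorem six_sum (m : ℕ) :
    6 * ∑ i ∈ range m, (i + 1) * (m - i) = m * (m + 1) * (m + 2) := by
  induction m with
  | zero => simp
  | succ m ih =>
    have h2 : ∀ m : ℕ, 2 * ∑ i ∈ range m, (i + 1) = m * (m + 1) := by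
      intro m
      induction m with
      | zero => simp
      | succ m ih => rw [sum_range_succ, mul_add, ih]; ring
    have e : ∑ i ∈ range (m + 1), (i + 1) * (m + 1 - i) =
        ∑ i ∈ range m, (i + 1) * (m - i) + ∑ i ∈ range (m + 1), (i + 1) := by
      rw [sum_range_succ, sum_range_succ (fun i => i + 1), Nat.add_sub_cancel_left, mul_one,
        ← add_assoc (∑ i ∈ range m, (i + 1) * (m - i)), ← sum_add_distrib]
      congr 1
      refine sum_congr rfl fun i hi => ?_
      have := mem_range.1 hi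
      rw [show m + 1 - i = (m - i) + 1 by omega]
      ring
    rw [e, mul_add, ih]
    calc m * (m + 1) * (m + 2) + 6 * ∑ i ∈ range (m + 1), (i + 1)
        = m * (m + 1) * (m + 2) + 3 * (2 * ∑ i ∈ range (m + 1), (i + 1)) := by ring
      _ = (m + 1) * (m + 1 + 1) * (m + 1 + 2) := by rw [h2]; ring

theorem trace_bY_bX (F : Frame X Q n) {p : ℕ} [hp : Fact p.Prime] [CharP k p] (hn : n + 3 < p)
    (ht : LinearMap.trace k U (Q * X ^ (n + 1)) ≠ 0) :
    LinearMap.trace k U (bY X Q n * bX X Q n) ≠ 0 := by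
  have e : bY X Q n * bX X Q n =
      ∑ i ∈ range (n + 1), (((i : k) + 1) * (n + 1 - i)) • eU X Q n i i := by
    rw [bY, bX, sum_mul_sum]
    refine sum_congr rfl fun i hi => ?_
    rw [sum_eq_single i (fun j _ hj => by
      rw [smul_mul_assoc, F.eU_mul (by have := mem_range.1 hi; omega), if_neg (by omega), smul_zero])
      (fun h => absurd hi h), smul_mul_assoc, F.eU_mul (by have := mem_range.1 hi; omega), if_pos rfl]
  rw [e, map_sum, sum_congr rfl fun i hi => by
    rw [map_smul, trace_eU i (by have := mem_range.1 hi; omega), smul_eq_mul], ← sum_mul]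
  refine mul_ne_zero (fun h => ?_) ht
  have hc : (∑ i ∈ range (n + 1), (((i : k) + 1) * (n + 1 - i))) =
      ((∑ i ∈ range (n + 1), (i + 1) * (n + 1 - i) : ℕ) : k) := by
    push_cast
    refine sum_congr rfl fun i hi => ?_
    rw [Nat.cast_sub (by have := mem_range.1 hi; omega)]
    push_cast
    ring
  rw [hc] at h
  have h6 := congrArg (Nat.cast (R := k)) (six_sum (n + 1))
  rw [Nat.cast_mul, h, mul_zero, eq_comm, Nat.cast_mul, Nat.cast_mul, mul_eq_zero, mul_eq_zero,
    CharP.cast_eq_zero_iff k p, CharP.cast_eq_zero_iff k p, CharP.cast_eq_zero_iff k p] at h6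
  rcases h6 with (h6 | h6) | h6 <;> (have := Nat.le_of_dvd (by omega) h6; omega)

theorem map_eU (F : Frame X Q n) (σ : 𝕄 →ₐ[k] 𝕄) {c : k} (hc : c ≠ 0) (hX : σ X = c • X)
    (hQ : σ Q = (c ^ (n + 1))⁻¹ • Q) {i j : ℕ} (hj : j ≤ n + 1) :
    σ (eU X Q n i j) = (c ^ i / c ^ j) • eU X Q n i j := by
  rw [eU, map_mul, map_mul, map_pow, map_pow, hX, hQ, smul_pow, smul_pow, smul_mul_smul_comm,
    smul_mul_smul_comm]
  congr 1
  rw [pow_sub₀ c hc hj]
  field_simp

theorem map_bX (F : Frame X Q n) (σ : 𝕄 →ₐ[k] 𝕄) {c : k} (hc : c ≠ 0) (hX : σ X = c • X)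
    (hQ : σ Q = (c ^ (n + 1))⁻¹ • Q) : σ (bX X Q n) = c • bX X Q n := by
  rw [bX, map_sum, smul_sum]
  refine sum_congr rfl fun i hi => ?_
  rw [F.map_eU σ hc hX hQ (by have := mem_range.1 hi; omega), pow_succ',
    mul_div_cancel_right₀ _ (pow_ne_zero _ hc)]

theorem map_bH (F : Frame X Q n) (σ : 𝕄 →ₐ[k] 𝕄) {c : k} (hc : c ≠ 0) (hX : σ X = c • X)
    (hQ : σ Q = (c ^ (n + 1))⁻¹ • Q) : σ (bH X Q n) = bH X Q n := by
  rw [bH, map_sum]
  refine sum_congr rfl fun i hi => ?_
  rw [map_smul, F.map_eU σ hc hX hQ (by have := mem_range.1 hi; omega),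
    div_self (pow_ne_zero _ hc), one_smul]

theorem map_bY (F : Frame X Q n) (σ : 𝕄 →ₐ[k] 𝕄) {c : k} (hc : c ≠ 0) (hX : σ X = c • X)
    (hQ : σ Q = (c ^ (n + 1))⁻¹ • Q) : σ (bY X Q n) = c⁻¹ • bY X Q n := by
  rw [bY, map_sum, smul_sum]
  refine sum_congr rfl fun i hi => ?_
  rw [map_smul, F.map_eU σ hc hX hQ (by have := mem_range.1 hi; omega), smul_comm, pow_succ,
    ← div_div, div_self (pow_ne_zero _ hc), one_div]

end Frame

/-- A generalised inverse. -/
theorem exists_regular (f : 𝕄) : ∃ g : 𝕄, f * g * f = f := by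
  obtain ⟨g, hg⟩ := LinearMap.exists_rightInverse_of_surjective f.rangeRestrict f.range_rangeRestrict
  obtain ⟨g', hg'⟩ := LinearMap.exists_extend g
  refine ⟨g', LinearMap.ext fun x => ?_⟩
  have h1 : g' (f x) = g ⟨f x, LinearMap.mem_range_self f x⟩ :=
    LinearMap.congr_fun hg' ⟨f x, LinearMap.mem_range_self f x⟩
  have h2 := congrArg Subtype.val (LinearMap.congr_fun hg ⟨f x, LinearMap.mem_range_self f x⟩)
  rw [Module.End.mul_apply, Module.End.mul_apply, h1]
  exact h2

/-- A frame compatible with a group of order prime to the characteristic scaling `X`. -/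
theorem exists_frame {p : ℕ} [Fact p.Prime] [CharP k p] (hdp : Module.finrank k U < p)
    {L : Type*} [Group L] [Fintype L] (hL : (Nat.card L : k) ≠ 0)
    (σ : L → (𝕄 →ₐ[k] 𝕄)) (hσ : ∀ l m x, σ (l * m) x = σ l (σ m x))
    (c : L → k) (hc0 : ∀ l, c l ≠ 0) (X : 𝕄) (hcX : ∀ l, σ l X = c l • X)
    {n : ℕ} (hX : X ^ (n + 2) = 0) (hX' : X ^ (n + 1) ≠ 0) :
    ∃ Q, Frame X Q n ∧ LinearMap.trace k U (Q * X ^ (n + 1)) ≠ 0 ∧
      ∀ l, σ l Q = (c l ^ (n + 1))⁻¹ • Q := by
  have hX0 : X ≠ 0 := fun h => hX' (by rw [h, zero_pow (Nat.succ_ne_zero n)])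
  have hcm : ∀ l m, c (l * m) = c l * c m := fun l m => by
    have h := hσ l m X
    rw [hcX, hcX, map_smul, hcX, smul_smul, mul_comm (c m)] at h
    exact smul_left_injective k hX0 h
  obtain ⟨Q₀, hQ₀⟩ := exists_regular (X ^ (n + 1))
  -- average
  set Q₁ : 𝕄 := (Nat.card L : k)⁻¹ • ∑ l, c l ^ (n + 1) • σ l Q₀ with hQ₁
  have h1 : X ^ (n + 1) * Q₁ * X ^ (n + 1) = X ^ (n + 1) := by
    have key : ∀ l, X ^ (n + 1) * (c l ^ (n + 1) • σ l Q₀) * X ^ (n + 1) = X ^ (n + 1) := by
      intro l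
      have h := congrArg (σ l) hQ₀
      rw [map_mul, map_mul, map_pow, hcX, smul_pow, smul_mul_assoc, smul_mul_smul_comm,
        ← smul_smul] at h
      rw [mul_smul_comm, smul_mul_assoc]
      exact smul_right_injective 𝕄 (pow_ne_zero (n + 1) (hc0 l)) h
    rw [hQ₁, mul_smul_comm, smul_mul_assoc, mul_sum, sum_mul, sum_congr rfl fun l _ => key l,
      sum_const, card_univ, ← Nat.card_eq_fintype_card, ← Nat.cast_smul_eq_nsmul k, smul_smul,
      inv_mul_cancel₀ hL, one_smul]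
  have h1σ : ∀ m, σ m Q₁ = (c m ^ (n + 1))⁻¹ • Q₁ := by
    intro m
    rw [hQ₁, map_smul, map_sum, smul_comm (_ : k)⁻¹ ((_ : k)⁻¹ : k)]
    congr 1
    rw [eq_inv_smul_iff₀ (pow_ne_zero (n + 1) (hc0 m)), smul_sum]
    refine Fintype.sum_equiv (Equiv.mulLeft m) _ _ fun l => ?_
    rw [map_smul, smul_smul, Equiv.coe_mulLeft, hσ, ← mul_pow, ← hcm]
  -- normalise
  set Q₂ := Q₁ * X ^ (n + 1) * Q₁ with hQ₂
  have h2 : Q₂ * X ^ (n + 1) * Q₂ = Q₂ := by
    calc Q₂ * X ^ (n + 1) * Q₂ =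
        Q₁ * ((X ^ (n + 1) * Q₁ * X ^ (n + 1)) * Q₁ * X ^ (n + 1)) * Q₁ := by
          rw [hQ₂]; simp only [mul_assoc]
      _ = Q₂ := by rw [h1, h1]
  have h2X : X ^ (n + 1) * Q₂ * X ^ (n + 1) = X ^ (n + 1) := by
    calc X ^ (n + 1) * Q₂ * X ^ (n + 1) =
        (X ^ (n + 1) * Q₁ * X ^ (n + 1)) * Q₁ * X ^ (n + 1) := by rw [hQ₂]; simp only [mul_assoc]
      _ = X ^ (n + 1) := by rw [h1, h1]
  have h2σ : ∀ m, σ m Q₂ = (c m ^ (n + 1))⁻¹ • Q₂ := fun m => by
    rw [hQ₂, map_mul, map_mul, map_pow, hcX, h1σ, smul_pow, smul_mul_smul_comm, smul_mul_smul_comm]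
    congr 1
    field_simp [hc0 m]
  -- improve
  have step : ∀ t, t ≤ n + 1 → ∃ Q, (∀ s, s ≤ t →
      Q * X ^ (n + 1 - s) * Q = if s = 0 then Q else 0) ∧ Q * X ^ (n + 1) = Q₂ * X ^ (n + 1) ∧
      ∀ m, σ m Q = (c m ^ (n + 1))⁻¹ • Q := by
    intro t
    induction t with
    | zero =>
      exact fun _ => ⟨Q₂, fun s hs => by
        rw [Nat.le_zero.1 hs, if_pos rfl, Nat.sub_zero]; exact h2, rfl, h2σ⟩
    | succ t ih =>
      intro ht
      obtain ⟨Q, hQ, hQX, hQσ⟩ := ih (by omega)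
      set a := Q * X ^ (n + 1 - (t + 1)) * Q with ha
      have hQQ : Q * X ^ (n + 1) * Q = Q := by simpa using hQ 0 (Nat.zero_le _)
      refine ⟨Q - a * X ^ (t + 1), fun s hs => ?_, ?_, fun m => ?_⟩
      · have e : (Q - a * X ^ (t + 1)) * X ^ (n + 1 - s) * Q = if s = 0 then Q else 0 := by
          rw [sub_mul, sub_mul, mul_assoc a, ← pow_add]
          rcases Nat.lt_or_ge s (t + 1) with h | h
          · rw [pow_eq_zero_of_le (show n + 2 ≤ t + 1 + (n + 1 - s) by omega) hX, mul_zero, zero_mul,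
              sub_zero]
            exact hQ s (by omega)
          · obtain rfl : s = t + 1 := le_antisymm hs h
            rw [show t + 1 + (n + 1 - (t + 1)) = n + 1 by omega, if_neg (Nat.succ_ne_zero t), ha,
              mul_assoc (Q * X ^ (n + 1 - (t + 1)) * Q), mul_assoc (Q * X ^ (n + 1 - (t + 1))), ← mul_assoc Q (X ^ (n + 1)) Q, hQQ,
              sub_self]
        rw [show (Q - a * X ^ (t + 1)) * X ^ (n + 1 - s) * (Q - a * X ^ (t + 1)) =
            (Q - a * X ^ (t + 1)) * X ^ (n + 1 - s) * Q *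
              (1 - X ^ (n + 1 - (t + 1)) * Q * X ^ (t + 1)) by
          rw [ha]; simp only [mul_sub, mul_one, mul_assoc], e]
        split_ifs
        · rw [ha]; simp only [mul_sub, mul_one, mul_assoc]
        · rw [zero_mul]
      · rw [sub_mul, mul_assoc a, ← pow_add,
          pow_eq_zero_of_le (show n + 2 ≤ t + 1 + (n + 1) by omega) hX, mul_zero, sub_zero,
          hQX]
      · rw [map_sub, smul_sub, hQσ, ha, map_mul, map_mul, map_mul, map_pow, map_pow, hQσ, hcX,
          smul_pow, smul_pow, smul_mul_smul_comm, smul_mul_smul_comm, smul_mul_smul_comm]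
        congr 2
        rw [pow_sub₀ (c m) (hc0 m) ht]
        field_simp [hc0 m]
  obtain ⟨Q, hQ, hQX, hQσ⟩ := step (n + 1) le_rfl
  refine ⟨Q, ⟨hX, fun m => ?_⟩, ?_, hQσ⟩
  · rcases Nat.lt_or_ge (n + 1) m with h | h
    · rw [pow_eq_zero_of_le (show n + 2 ≤ m by omega) hX, mul_zero, zero_mul, if_neg (by omega)]
    · have := hQ (n + 1 - m) (by omega)
      rw [show n + 1 - (n + 1 - m) = m by omega] at this
      rw [this]
      by_cases h' : m = n + 1
      · rw [if_pos (by omega), if_pos h']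
      · rw [if_neg (by omega), if_neg h']
  · set E := Q * X ^ (n + 1) with hE
    have hEp : LinearMap.IsProj (LinearMap.range E) E :=
      ⟨fun x => LinearMap.mem_range_self E x, fun x ⟨y, hy⟩ => by
        have : E * E = E := by rw [hQX, ← mul_assoc, h2]
        rw [← hy, ← Module.End.mul_apply, this]⟩
    rw [hEp.trace]
    intro h
    rw [CharP.cast_eq_zero_iff k p] at h
    rcases Nat.eq_zero_or_pos (Module.finrank k (LinearMap.range E)) with h0 | h0
    · rw [Submodule.finrank_eq_zero, LinearMap.range_eq_bot] at h0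
      refine hX' ?_
      rw [← h2X, mul_assoc, ← hQX, h0, mul_zero]
    · have := Nat.le_of_dvd h0 h
      have := (LinearMap.range E).finrank_le
      omega

end Cfsg.Agent.SmallDim
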