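import Cfsg.Agent.Lib.SmallDim.Adj
import Cfsg.Agent.Lib.SmallDim.Reduce
import Cfsg.Agent.Lib.Blocks.Center
import Cfsg.Agent.Lib.Blocks.Real

/-!
The boundary degree `(p + 1) / 2`: an idempotent from the characters of degree divisible by `p`
absorbs the projective summand of the endomorphisms.
-/

set_option autoImplicit false
set_option linter.unusedSectionVars false
set_option linter.style.haveILetI false

namespace Cfsg.Agent.SmallDim

open Finset Module
open scoped Classical MatrixGroups ComplexConjugate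

section Field

variable {k : Type*} [Field k] {U : Type*} [AddCommGroup U] [Module k U] [FiniteDimensional k U]
variable {G : Type*} [Group G] [Fintype G] (ρ : Representation k G U)
variable {p : ℕ} [hpF : Fact p.Prime] [CharP k p] {S : Subgroup G} [Fintype S] {y : G}

local notation "𝕄" => Module.End k U

/-- The operator of an element of the group algebra on the endomorphisms. -/
def adSum (c : G → k) : Module.End k (Module.End k U) := ∑ g, c g • adRep ρ g

theorem adSum_commute {c : G → k} (hc : ∀ g x, c (g * x * g⁻¹) = c x) (g : G) :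
    Commute (adSum ρ c) (adRep ρ g) := by
  show adSum ρ c * adRep ρ g = adRep ρ g * adSum ρ c
  rw [adSum, Finset.sum_mul, Finset.mul_sum]
  refine (Fintype.sum_equiv (MulAut.conj g).toEquiv _ _ fun x => ?_).symm
  simp only [MulEquiv.toEquiv_eq_coe, EquivLike.coe_coe, MulAut.conj_apply, smul_mul_assoc,
    mul_smul_comm, hc, ← map_mul]
  congr 2
  group

theorem adSum_idem {c : G → k} (hc : ∀ x, ∑ g, c g * c (g⁻¹ * x) = c x) :
    adSum ρ c * adSum ρ c = adSum ρ c := by
  rw [adSum, Finset.sum_mul]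
  simp only [Finset.mul_sum, smul_mul_smul_comm, ← map_mul]
  calc ∑ g, ∑ h, (c g * c h) • adRep ρ (g * h)
      = ∑ g, ∑ x, (c g * c (g⁻¹ * x)) • adRep ρ x := by
        refine Finset.sum_congr rfl fun g _ => Fintype.sum_equiv (Equiv.mulLeft g) _ _ fun h => ?_
        rw [Equiv.coe_mulLeft, inv_mul_cancel_left]
    _ = ∑ x, c x • adRep ρ x := by
        rw [Finset.sum_comm]
        exact Finset.sum_congr rfl fun x _ => by rw [← Finset.sum_smul, hc]

theorem adSum_isSA {c : G → k} (hc : ∀ g, c g⁻¹ = c g) : IsSA trForm (adSum ρ c) := by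
  intro x z
  have h : ∀ g, trForm (adRep ρ g x) z = trForm x (adRep ρ g⁻¹ z) := fun g => by
    conv_lhs => rw [← trForm_inv ρ g⁻¹]
    rw [← Module.End.mul_apply (adRep ρ g⁻¹), rho_inv_mul, Module.End.one_apply]
  simp only [adSum, LinearMap.sum_apply, LinearMap.smul_apply, map_sum, map_smul,
    smul_eq_mul, h]
  exact Fintype.sum_equiv (Equiv.inv G) _ _ fun g => by simp [hc]

/-- A class function vanishing off the regular orbits of `S` gives a relative trace. -/
theorem exists_trS {c : G → k} (hc : ∀ g x, c (g * x * g⁻¹) = c x)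
    (hfree : ∀ x, c x ≠ 0 → ∀ s ∈ S, s * x * s⁻¹ = x → s = 1) :
    ∃ h, adSum ρ c = trS (adRep ρ) S h := by
  let r : Setoid G :=
    { r := fun x z => ∃ s : S, (s : G) * x * (s : G)⁻¹ = z
      iseqv :=
        { refl := fun x => ⟨1, by simp⟩
          symm := fun {x z} ⟨s, hs⟩ => ⟨s⁻¹, by rw [← hs]; simp [mul_assoc]⟩
          trans := fun {x z w} ⟨s, hs⟩ ⟨t, ht⟩ => ⟨t * s, by rw [← ht, ← hs]; simp [mul_assoc]⟩ } }
  set R := Finset.univ.filter fun x : G => c x ≠ 0 ∧ (Quotient.mk r x).out = x with hR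
  refine ⟨∑ x ∈ R, c x • adRep ρ x, ?_⟩
  have e : trS (adRep ρ) S (∑ x ∈ R, c x • adRep ρ x) =
      ∑ z ∈ (Finset.univ : Finset S) ×ˢ R,
        c z.2 • adRep ρ ((z.1 : G) * z.2 * (z.1 : G)⁻¹) := by
    rw [trS, Finset.sum_product]
    refine Finset.sum_congr rfl fun s _ => ?_
    rw [Finset.mul_sum, Finset.sum_mul]
    refine Finset.sum_congr rfl fun x _ => ?_
    rw [mul_smul_comm, smul_mul_assoc, ← map_mul, ← map_mul]
  rw [e, adSum, ← Finset.sum_filter_of_ne (p := fun x => c x ≠ 0) (fun x _ hx h => hx (by rw [h, zero_smul]))]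
  refine (Finset.sum_bij (fun z _ => (z.1 : G) * z.2 * (z.1 : G)⁻¹) (fun z hz => ?_)
    (fun z hz z' hz' e => ?_) (fun x hx => ?_) (fun z _ => by rw [hc])).symm
  · exact Finset.mem_filter.2 ⟨Finset.mem_univ _,
      by rw [hc]; exact (Finset.mem_filter.1 (Finset.mem_product.1 hz).2).2.1⟩
  · obtain ⟨s, x⟩ := z
    obtain ⟨s', x'⟩ := z'
    simp only at e
    obtain ⟨-, hx0, hxo⟩ := Finset.mem_filter.1 (Finset.mem_product.1 hz).2
    obtain ⟨-, -, hxo'⟩ := Finset.mem_filter.1 (Finset.mem_product.1 hz').2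
    simp only at hx0 hxo hxo'
    have h1 : Quotient.mk r x = Quotient.mk r x' := Quotient.sound
      ⟨s'⁻¹ * s, by
        calc ((s'⁻¹ * s : S) : G) * x * ((s'⁻¹ * s : S) : G)⁻¹
            = (s' : G)⁻¹ * ((s : G) * x * (s : G)⁻¹) * s' := by push_cast; group
          _ = x' := by rw [e]; group⟩
    obtain rfl : x = x' := by rw [← hxo, h1, hxo']
    have h2 := hfree x hx0 ((s'⁻¹ * s : S) : G) (s'⁻¹ * s).2 (by
      calc ((s'⁻¹ * s : S) : G) * x * ((s'⁻¹ * s : S) : G)⁻¹
          = (s' : G)⁻¹ * ((s : G) * x * (s : G)⁻¹) * s' := by push_cast; group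
        _ = x := by rw [e]; group)
    exact Prod.ext (inv_mul_eq_one.1 (Subtype.ext h2)).symm rfl
  · have hx' := (Finset.mem_filter.1 hx).2
    obtain ⟨s, hs⟩ := Quotient.exact (Quotient.out_eq (Quotient.mk r x))
    refine ⟨(s, (Quotient.mk r x).out), Finset.mem_product.2 ⟨Finset.mem_univ _,
      Finset.mem_filter.2 ⟨Finset.mem_univ _, ?_, by rw [Quotient.out_eq]⟩⟩, hs⟩
    rw [← hs, hc] at hx'
    exact hx'

theorem pow_conj_eq (hS : Nat.card S = p) (hy : y ∈ S) {n : G} {a : ℕ} (hn : n * y * n⁻¹ = y ^ a)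
    {d : ℕ} (hAd : (ρ y - 1) ^ (d + 1) = 0) :
    adRep ρ n ((ρ y - 1) ^ d) = ((a : k) ^ d) • (ρ y - 1) ^ d := by
  set A := ρ y - 1 with hA
  set C := ∑ i ∈ Finset.range a, (1 + A) ^ i with hC
  have hσA : adAlg ρ n A = A * C := by
    rw [hC, show adAlg ρ n A = (1 + A) ^ a - 1 by
      rw [hA, map_sub, map_one, adAlg_apply, adRep_apply, ← map_mul, ← map_mul, hn,
        add_sub_cancel, map_pow], ← mul_geom_sum, add_sub_cancel_left]
  have hAC : Commute A C :=
    Commute.sum_right _ _ _ fun i _ => ((Commute.one_right A).add_right (Commute.refl A)).pow_right i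
  have h1 : ∀ i, A ^ d * (1 + A) ^ i = A ^ d := by
    intro i
    induction i with
    | zero => rw [pow_zero, mul_one]
    | succ i ih => rw [pow_succ, ← mul_assoc, ih, mul_add, mul_one, ← pow_succ, hAd, add_zero]
  have h2 : A ^ d * C = (a : k) • A ^ d := by
    rw [hC, Finset.mul_sum, Finset.sum_congr rfl fun i _ => h1 i, Finset.sum_const, Finset.card_range,
      Nat.cast_smul_eq_nsmul]
  have h3 : ∀ j, A ^ d * C ^ j = (a : k) ^ j • A ^ d := by
    intro j
    induction j with
    | zero => rw [pow_zero, mul_one, pow_zero, one_smul]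
    | succ j ih => rw [pow_succ, ← mul_assoc, ih, smul_mul_assoc, h2, smul_smul, pow_succ]
  rw [← adAlg_apply, map_pow, hσA, hAC.mul_pow, h3]

/-- The map to `PGL₂` in the boundary degree. -/
theorem exists_hom_edge (hS : Nat.card S = p) (hsq : ¬ p ^ 2 ∣ Nat.card G) (hy : y ∈ S)
    (hA : ρ y ≠ 1) (hd : 2 * Module.finrank k U = p + 1) (hp5 : 5 ≤ p) (c : G → k)
    (hcl : ∀ g x, c (g * x * g⁻¹) = c x) (hinv : ∀ g, c g⁻¹ = c g)
    (hconv : ∀ x, ∑ g, c g * c (g⁻¹ * x) = c x)
    (hfree : ∀ x, c x ≠ 0 → ∀ s ∈ S, s * x * s⁻¹ = x → s = 1) (hne : adSum ρ c ≠ 0)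
    (htw : ∃ n ∈ Subgroup.normalizer (S : Set G), ∃ a : ℕ, n * y * n⁻¹ = y ^ a ∧
      (a : k) ^ (Module.finrank k U - 2) ≠ 1) :
    ∃ φ : G →* PGL(2, k), φ y = Matrix.ProjGenLinGroup.mk
      (Matrix.GeneralLinearGroup.mkOfDetNeZero !![1, 1; 0, 1] (by simp [Matrix.det_fin_two])) := by
  have hy1 : y ≠ 1 := fun h => hA (by rw [h, map_one])
  obtain ⟨d, hdd⟩ : ∃ d, Module.finrank k U = d + 1 := ⟨Module.finrank k U - 1, by omega⟩
  set L := (ρ y - 1) ^ d with hL
  set e := adSum ρ c with he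
  have hee : e * e = e := adSum_idem ρ hconv
  have hec : ∀ g, Commute e (adRep ρ g) := adSum_commute ρ hcl
  obtain ⟨h, hh⟩ := exists_trS ρ hcl hfree
  set σS := ∑ s : S, adRep ρ (s : G) with hσS
  have hkill : ∀ f, ∃ t : k, σS f = t • L := fun f => by
    obtain ⟨t, ht⟩ := kill_range ρ hS hy hy1 hd f
    exact ⟨t, by rw [ht, hdd, Nat.add_sub_cancel]⟩
  -- fixed vectors in the range of `e`
  have hfixed : ∀ z, e z = z → (∀ s : S, adRep ρ (s : G) z = z) → ∃ t : k, z = t • L := by
    intro z hz hzs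
    have h1 : trS (adRep ρ) S h z = σS (h z) := by
      have hinv : ∀ s : S, adRep ρ (s : G)⁻¹ z = z := fun s => by
        conv_lhs => rw [← hzs s]
        rw [← Module.End.mul_apply, rho_inv_mul, Module.End.one_apply]
      simp [trS, hσS, LinearMap.sum_apply, Module.End.mul_apply, hinv]
    obtain ⟨t, ht⟩ := hkill (h z)
    exact ⟨t, by rw [← hz, he, hh, h1, ht]⟩
  have hrange : LinearMap.range e ≠ ⊥ := fun hb => hne (LinearMap.range_eq_bot.1 hb)
  obtain ⟨z, ⟨w, rfl⟩, hz0, hzs⟩ := exists_fixed (ρ := adRep ρ) (S := S) (p := p) hS hrange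
    fun s x ⟨w, hw⟩ => ⟨adRep ρ (s : G) w, by
      rw [← hw, ← Module.End.mul_apply, (hec _).eq, Module.End.mul_apply]⟩
  obtain ⟨t, ht⟩ := hfixed (e w) (by rw [← Module.End.mul_apply, hee]) hzs
  have ht0 : t ≠ 0 := fun h => hz0 (by rw [ht, h, zero_smul])
  have hL0 : L ≠ 0 := fun h => hz0 (by rw [ht, h, smul_zero])
  have heL : e L = L := by
    have h1 := congrArg e ht
    rw [← Module.End.mul_apply, hee, map_smul, ht] at h1
    exact (smul_right_injective _ ht0 h1).symm
  set o := 1 - e with ho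
  have hoo : o * o = o := by rw [ho, mul_sub, mul_one, sub_mul, one_mul, hee, sub_self, sub_zero]
  have hog : ∀ g, Commute o (adRep ρ g) := fun g => (Commute.one_left _).sub_left (hec g)
  have hoL : o L = 0 := by rw [ho, LinearMap.sub_apply, Module.End.one_apply, heL, sub_self]
  have hkillo : σS * o = 0 := LinearMap.ext fun f => by
    have hc : σS * o = o * σS := (Commute.sum_left (Finset.univ : Finset S) (fun s : S => adRep ρ (s : G)) o fun s _ => (hog (s : G)).symm).eq
    rw [hc, Module.End.mul_apply, LinearMap.zero_apply]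
    obtain ⟨t, ht⟩ := hkill f
    rw [ht, map_smul, hoL, smul_zero]
  have hosa : IsSA trForm o := IsSA.one.sub (adSum_isSA ρ hinv)
  obtain ⟨v, hrel, h02, hst, htwist⟩ := exists_triple ρ hS hsq hy hA (by omega) hp5
  -- `o` fixes the fixed vector
  have hv2 : o (v 2) = v 2 := by
    have hfix : ∀ s : S, adRep ρ (s : G) (e (v 2)) = e (v 2) := by
      intro s
      rw [← Module.End.mul_apply, ← (hec _).eq, Module.End.mul_apply]
      congr 1
      obtain ⟨b, hb⟩ := exists_pow_eq hS hy hy1 s.2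
      rw [hb, map_pow]
      clear hb
      induction b with
      | zero => rfl
      | succ b ih => rw [pow_succ, Module.End.mul_apply, hrel.two, ih]
    obtain ⟨u, hu⟩ := hfixed (e (v 2)) (by rw [← Module.End.mul_apply, hee]) hfix
    obtain ⟨n, hn, a, hna, ha⟩ := htw
    have h1 := congrArg (adRep ρ n) hu
    rw [← Module.End.mul_apply, ← (hec n).eq, Module.End.mul_apply, htwist n hn a hna, map_smul,
      map_smul, hu, hL, pow_conj_eq ρ hS hy hna (by rw [← hdd]; exact A_pow_eq_zero ρ hS hy),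
      smul_smul, smul_smul] at h1
    have h2 : (a : k) * u = u * (a : k) ^ d := smul_left_injective k hL0 h1
    have hu0 : u = 0 := by
      by_contra hu0
      refine ha ?_
      have ha0 : (a : k) ≠ 0 := by
        rw [Ne, CharP.cast_eq_zero_iff k p]
        rintro ⟨b, rfl⟩
        rw [pow_mul, pow_p_eq_one hS hy, one_pow] at hna
        exact hy1 (conj_eq_one_iff.1 hna)
      rw [hdd, show d + 1 - 2 = d - 1 by omega]
      refine mul_left_cancel₀ (mul_ne_zero hu0 ha0) ?_
      rw [mul_one, mul_assoc, ← pow_succ', Nat.sub_add_cancel (by omega), ← h2, mul_comm]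
    rw [ho, LinearMap.sub_apply, Module.End.one_apply, hu, hu0, zero_smul, sub_zero]
  set v' : Fin 3 → 𝕄 := fun i => o (v i) with hv'
  have hcy : ∀ x, adRep ρ y (o x) = o (adRep ρ y x) := fun x => by
    rw [← Module.End.mul_apply, ← (hog y).eq, Module.End.mul_apply]
  have hrel' : YRel (adRep ρ y) v' :=
    ⟨by simp only [hv', hcy, hrel.two], by simp only [hv', hcy, hrel.one, map_sub, map_smul],
      by simp only [hv', hcy, hrel.zero, map_sub, map_add]⟩
  have hst' : ∀ n ∈ Subgroup.normalizer (S : Set G), ∀ i,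
      adRep ρ n (v' i) ∈ Submodule.span k (Set.range v') := by
    intro n hn i
    rw [hv', ← Module.End.mul_apply, ← (hog n).eq, Module.End.mul_apply,
      show Submodule.span k (Set.range fun i => o (v i)) = (Submodule.span k (Set.range v)).map o by
        rw [Submodule.map_span, ← Set.range_comp]; rfl]
    exact Submodule.mem_map_of_mem (hst n hn i)
  have h2 : (2 : k) ≠ 0 := by
    rw [show (2 : k) = ((2 : ℕ) : k) by norm_num, Ne, CharP.cast_eq_zero_iff k p]
    intro h; have := Nat.le_of_dvd (by norm_num) h; omega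
  refine exists_hom_pgl (p := p) h2 (adRep ρ) S hS
    (fun g hg s hs h => ti_of_prime S hS hsq g hg s hs h) trForm trForm_symm trForm_nondeg
    (trForm_inv ρ) (o := o) hog hoo hosa hkillo hy hrel' ?_ (fun i => ?_) hst'
  · rw [hv']
    show trForm (o (v 0)) (o (v 2)) ≠ 0
    rwa [hv2, hosa, hv2]
  · show o (o (v i)) = o (v i)
    rw [← Module.End.mul_apply, hoo]

end Field

end Cfsg.Agent.SmallDim
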