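import Cfsg.Agent.Lib.SmallDim.PSLp
import Mathlib.LinearAlgebra.Matrix.Charpoly.Coeff
import Mathlib.GroupTheory.PGroup

/-!
The image in `PGL₂` of a group whose order contains `p` only once lies around `PSL₂(p)`.
-/

set_option autoImplicit false
set_option linter.unusedSectionVars false
set_option linter.style.haveILetI false

namespace Cfsg.Agent.SmallDim

open Matrix
open scoped MatrixGroups Classical

variable (k : Type*) [Field k] (p : ℕ) [hpF : Fact p.Prime] [CharP k p]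

/-- The map from `SL₂(p)`. -/
noncomputable def iotaSL : Matrix.SpecialLinearGroup (Fin 2) (ZMod p) →* PGL(2, k) :=
  (Matrix.SpecialLinearGroup.toPGL).comp (Matrix.SpecialLinearGroup.map (ZMod.castHom dvd_rfl k))

theorem iotaSL_ker : (iotaSL k p).ker = Subgroup.center _ := by
  ext x
  rw [MonoidHom.mem_ker, iotaSL, MonoidHom.comp_apply, ← MonoidHom.mem_ker,
    Matrix.SpecialLinearGroup.toPGL_ker, Matrix.SpecialLinearGroup.mem_center_iff,
    Matrix.SpecialLinearGroup.mem_center_iff]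
  have hinj : Function.Injective (ZMod.castHom (dvd_refl p) k) := RingHom.injective _
  constructor
  · rintro ⟨r, hr, hx⟩
    refine ⟨x 0 0, hinj ?_, Matrix.ext fun i j => hinj ?_⟩
    · have := congrFun (congrFun hx 0) 0
      simp at this
      rw [map_pow, map_one]
      simpa [← this] using hr
    · have h00 := congrFun (congrFun hx 0) 0
      have hij := congrFun (congrFun hx i) j
      simp at h00
      fin_cases i <;> fin_cases j <;> simp at hij ⊢ <;> simp [← hij, h00]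
  · rintro ⟨r, hr, hx⟩
    refine ⟨ZMod.castHom dvd_rfl k r, by rw [← map_pow, hr, map_one], Matrix.ext fun i j => ?_⟩
    have hij := congrFun (congrFun hx i) j
    fin_cases i <;> fin_cases j <;> simp at hij ⊢ <;> simp [← hij]

/-- The map from `PSL₂(p)`. -/
noncomputable def iotaPSL : Matrix.ProjectiveSpecialLinearGroup (Fin 2) (ZMod p) →* PGL(2, k) :=
  QuotientGroup.lift _ (iotaSL k p) (iotaSL_ker k p).ge

theorem iotaPSL_injective : Function.Injective (iotaPSL k p) :=
  QuotientGroup.injective_lift_iff _ _ _ |>.2 (iotaSL_ker k p).symm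

theorem iotaPSL_range : (iotaPSL k p).range = (iotaSL k p).range := by
  ext x
  constructor
  · rintro ⟨y, rfl⟩
    obtain ⟨z, rfl⟩ := QuotientGroup.mk_surjective y
    exact ⟨z, rfl⟩
  · rintro ⟨z, rfl⟩
    exact ⟨QuotientGroup.mk z, rfl⟩

variable {k} {p}

/-- Conjugation by an element of `GL₂`. -/
def cjSL (g : GL (Fin 2) k) :
    Matrix.SpecialLinearGroup (Fin 2) k →* Matrix.SpecialLinearGroup (Fin 2) k where
  toFun x := ⟨(g : Matrix (Fin 2) (Fin 2) k) * x.1 * ((g⁻¹ : GL (Fin 2) k) : Matrix (Fin 2) (Fin 2) k),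
    by rw [Matrix.det_units_conj, x.2]⟩
  map_one' := Subtype.ext (by simp)
  map_mul' x y := Subtype.ext (by
    show (g : Matrix (Fin 2) (Fin 2) k) * (x.1 * y.1) * _ = _
    show _ = ((g : Matrix (Fin 2) (Fin 2) k) * x.1 * ((g⁻¹ : GL (Fin 2) k) : Matrix (Fin 2) (Fin 2) k)) *
      ((g : Matrix (Fin 2) (Fin 2) k) * y.1 * ((g⁻¹ : GL (Fin 2) k) : Matrix (Fin 2) (Fin 2) k))
    simp only [mul_assoc]
    rw [Units.inv_mul_cancel_left])

theorem cjSL_injective (g : GL (Fin 2) k) : Function.Injective (cjSL g) := fun x y h => by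
  have h1 : (g : Matrix (Fin 2) (Fin 2) k) * x.1 * ((g⁻¹ : GL (Fin 2) k) : Matrix (Fin 2) (Fin 2) k) =
      (g : Matrix (Fin 2) (Fin 2) k) * y.1 * ((g⁻¹ : GL (Fin 2) k) : Matrix (Fin 2) (Fin 2) k) :=
    congrArg Subtype.val h
  exact Subtype.ext ((Units.mul_right_inj g).1 ((Units.mul_left_inj g⁻¹).1 h1))

section

variable {H : Subgroup (Matrix.SpecialLinearGroup (Fin 2) k)} [Finite H]

theorem upper_mem (hsq : ¬ p ^ 2 ∣ Nat.card H) (hT : sU 1 ∈ H) {b : k} (hb : sU b ∈ H) :
    ∃ c : ZMod p, ZMod.castHom dvd_rfl k c = b := by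
  let E : Subgroup H :=
    { carrier := {z | ∃ t : k, (z : Matrix.SpecialLinearGroup (Fin 2) k) = sU t}
      one_mem' := ⟨0, Subtype.ext (by simp [sU, Matrix.one_fin_two])⟩
      mul_mem' := by
        rintro x z ⟨t, ht⟩ ⟨u, hu⟩
        refine ⟨t + u, Subtype.ext ?_⟩
        show (x : Matrix.SpecialLinearGroup (Fin 2) k).1 * (z : Matrix.SpecialLinearGroup (Fin 2) k).1 = _
        rw [ht, hu]
        ext i j
        fin_cases i <;> fin_cases j <;> simp [sU, Matrix.mul_apply, Matrix.vecMul, dotProduct, Fin.sum_univ_two, add_comm]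
      inv_mem' := by
        rintro x ⟨t, ht⟩
        refine ⟨-t, ?_⟩
        rw [Subgroup.coe_inv, ht, inv_eq_of_mul_eq_one_right]
        refine Subtype.ext ?_
        show (sU t).1 * (sU (-t)).1 = 1
        ext i j
        fin_cases i <;> fin_cases j <;> simp [sU, Matrix.mul_apply, Matrix.vecMul, dotProduct, Fin.sum_univ_two] }
  have hpg : IsPGroup p E := fun ⟨z, t, ht⟩ => ⟨1, Subtype.ext (Subtype.ext (by
    rw [SubmonoidClass.coe_pow, SubmonoidClass.coe_pow, pow_one]
    show (z : Matrix.SpecialLinearGroup (Fin 2) k) ^ p = 1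
    rw [ht, sU_pow, CharP.cast_eq_zero, zero_mul]
    exact Subtype.ext (by simp [sU, Matrix.one_fin_two])))⟩
  obtain ⟨n, hn⟩ := hpg.exists_card_eq
  have hn1 : n ≤ 1 := by
    by_contra h
    exact hsq ((pow_dvd_pow p (by omega : 2 ≤ n)).trans (hn ▸ Subgroup.card_subgroup_dvd_card E))
  set T : E := ⟨⟨sU 1, hT⟩, 1, rfl⟩ with hTdef
  have hT1 : T ≠ 1 := fun h => by
    have h2 := congrArg (fun z : E => ((z : H) : Matrix.SpecialLinearGroup (Fin 2) k).1 0 1) h
    simp [hTdef, sU] at h2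
  have hcard : Nat.card E = p := by
    rw [hn]
    rcases (show n = 0 ∨ n = 1 by omega) with h | h
    · exfalso
      rw [h, pow_zero] at hn
      haveI := (Nat.card_eq_one_iff_unique.1 hn).1
      exact hT1 (Subsingleton.elim _ _)
    · rw [h, pow_one]
  obtain ⟨j, hj⟩ := (isOfFinOrder_of_finite T).mem_powers_iff_mem_zpowers.2
    (show (⟨⟨sU b, hb⟩, b, rfl⟩ : E) ∈ Subgroup.zpowers T by
      rw [zpowers_eq_top_of_prime_card hcard hT1]; exact Subgroup.mem_top _)
  refine ⟨(j : ZMod p), ?_⟩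
  have h1 := congrArg (fun z : E => ((z : H) : Matrix.SpecialLinearGroup (Fin 2) k)) hj
  simp only [SubmonoidClass.coe_pow, hTdef, sU_pow, mul_one] at h1
  rw [map_natCast]
  simpa [sU] using congrArg (fun z : Matrix.SpecialLinearGroup (Fin 2) k => z.1 0 1) h1

/-- The lower-left entry of a unipotent element. -/
theorem lower_entry_mem [IsAlgClosed k] (hp : 5 ≤ p) (hsq : ¬ p ^ 2 ∣ Nat.card H) (hT : sU 1 ∈ H)
    {z : Matrix.SpecialLinearGroup (Fin 2) k} (hz : z ∈ H) (htr : z 0 0 + z 1 1 = 2) :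
    ∃ c : ZMod p, ZMod.castHom dvd_rfl k c = z 1 0 := by
  rcases eq_or_ne (z 1 0) 0 with hc | hc
  · exact ⟨0, by rw [map_zero, hc]⟩
  set c := z 1 0 with hcdef
  set α := (z 0 0 - 1) / c with hα
  -- move the fixed point to `0` and rescale
  set g : GL (Fin 2) k := GeneralLinearGroup.mkOfDetNeZero !![c, -(c * α); 0, 1]
    (by simp [det_fin_two, hc]) with hg
  haveI : Finite (H.map (cjSL g)) :=
    Finite.of_equiv H (H.equivMapOfInjective _ (cjSL_injective g)).toEquiv
  have hgi : ((g⁻¹ : GL (Fin 2) k) : Matrix (Fin 2) (Fin 2) k) = !![1 / c, α; 0, 1] := by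
    rw [← mul_one ((g⁻¹ : GL (Fin 2) k) : Matrix (Fin 2) (Fin 2) k),
      show (1 : Matrix (Fin 2) (Fin 2) k) = (g : Matrix (Fin 2) (Fin 2) k) * !![1 / c, α; 0, 1] by
        ext i j
        fin_cases i <;> fin_cases j <;>
          simp [hg, GeneralLinearGroup.mkOfDetNeZero, Matrix.mul_apply, Matrix.vecMul, dotProduct, Fin.sum_univ_two, hc],
      ← mul_assoc, Units.inv_mul, one_mul]
  have hdet := z.2
  rw [det_fin_two] at hdet
  have h11 : z 1 1 = 2 - z 0 0 := by linear_combination htr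
  have hb : z 0 1 = -((z 0 0 - 1) * α) := by
    refine mul_right_cancel₀ hc ?_
    rw [h11, ← hcdef] at hdet
    rw [hα]
    field_simp
    linear_combination -hdet
  have hl : cjSL g z = sL 1 := by
    refine Subtype.ext ?_
    show (g : Matrix (Fin 2) (Fin 2) k) * z.1 * ((g⁻¹ : GL (Fin 2) k) : Matrix (Fin 2) (Fin 2) k) = _
    rw [hgi]
    ext i j
    fin_cases i <;> fin_cases j <;>
      simp [hg, GeneralLinearGroup.mkOfDetNeZero, sL, Matrix.mul_apply, Matrix.vecMul, dotProduct, Fin.sum_univ_two, h11, hb, ← hcdef, hα] <;>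
      field_simp <;> ring
  have hu : cjSL g (sU 1) = sU c := by
    refine Subtype.ext ?_
    show (g : Matrix (Fin 2) (Fin 2) k) * (sU (1 : k)).1 *
      ((g⁻¹ : GL (Fin 2) k) : Matrix (Fin 2) (Fin 2) k) = _
    rw [hgi]
    ext i j
    fin_cases i <;> fin_cases j <;>
      simp [hg, GeneralLinearGroup.mkOfDetNeZero, sU, Matrix.mul_apply, Matrix.vecMul, dotProduct, Fin.sum_univ_two, hc]
  refine pair_mem hp (H.map (cjSL g)) ?_ (hu ▸ Subgroup.mem_map_of_mem _ hT)
    (hl ▸ Subgroup.mem_map_of_mem _ hz)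
  rwa [← Nat.card_congr (H.equivMapOfInjective _ (cjSL_injective g)).toEquiv]

end

theorem toPGL_surjective [IsAlgClosed k] :
    Function.Surjective (Matrix.SpecialLinearGroup.toPGL (n := Fin 2) (R := k)) := fun X => by
  obtain ⟨x, hx⟩ := Matrix.ProjectiveSpecialLinearGroup.toPGL_surj_of_roots (n := Fin 2) (R := k)
    (fun r => by
      obtain ⟨s, hs⟩ := IsAlgClosed.exists_pow_nat_eq (r : k) (n := 2) (by norm_num)
      refine ⟨Units.mk0 s (fun h => r.ne_zero ?_), Units.ext (by simpa using hs)⟩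
      rw [← hs, h, zero_pow two_ne_zero]) X
  obtain ⟨z, rfl⟩ := QuotientGroup.mk_surjective x
  exact ⟨z, hx⟩

theorem center_sl_eq {z : Matrix.SpecialLinearGroup (Fin 2) k}
    (h : z ∈ Subgroup.center (Matrix.SpecialLinearGroup (Fin 2) k)) :
    z.1 = 1 ∨ z.1 = -1 := by
  obtain ⟨r, hr, e⟩ := Matrix.SpecialLinearGroup.mem_center_iff.1 h
  rw [Fintype.card_fin, sq_eq_one_iff] at hr
  rcases hr with rfl | rfl
  · left; rw [← e, map_one]
  · right; rw [← e, map_neg, map_one]

theorem exists_lift_pow [IsAlgClosed k] (hp : 5 ≤ p) {X : PGL(2, k)} (hX : X ^ p = 1) :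
    ∃ z : Matrix.SpecialLinearGroup (Fin 2) k, Matrix.SpecialLinearGroup.toPGL z = X ∧ z ^ p = 1 ∧
      z 0 0 + z 1 1 = 2 := by
  have hodd : Odd p := hpF.out.odd_of_ne_two (by omega)
  obtain ⟨z, hz⟩ := toPGL_surjective X
  have hker : z ^ p ∈ Subgroup.center (Matrix.SpecialLinearGroup (Fin 2) k) := by
    rw [← Matrix.SpecialLinearGroup.toPGL_ker, MonoidHom.mem_ker, map_pow, hz, hX]
  obtain ⟨w, hw, hwp⟩ : ∃ w : Matrix.SpecialLinearGroup (Fin 2) k,
      Matrix.SpecialLinearGroup.toPGL w = X ∧ w ^ p = 1 := by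
    rcases center_sl_eq hker with h | h
    · exact ⟨z, hz, Subtype.ext h⟩
    · set w : Matrix.SpecialLinearGroup (Fin 2) k := ⟨-z.1, by rw [det_neg, z.2]; simp⟩ with hwd
      refine ⟨w, ?_, Subtype.ext ?_⟩
      · rw [← hz]
        refine (MonoidHom.eq_iff _).2 ?_
        rw [Matrix.SpecialLinearGroup.toPGL_ker, Matrix.SpecialLinearGroup.mem_center_iff]
        refine ⟨-1, by simp, ?_⟩
        show _ = (z⁻¹).1 * w.1
        rw [hwd, Matrix.mul_neg, ← Matrix.SpecialLinearGroup.coe_mul, inv_mul_cancel, map_neg,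
          map_one]
        rfl
      · rw [Matrix.SpecialLinearGroup.coe_pow, hwd, hodd.neg_pow, ← Matrix.SpecialLinearGroup.coe_pow,
          h, neg_neg]
        rfl
  refine ⟨w, hw, hwp, ?_⟩
  haveI : CharP (Matrix (Fin 2) (Fin 2) k) p :=
    charP_of_injective_algebraMap (FaithfulSMul.algebraMap_injective k (Matrix (Fin 2) (Fin 2) k)) p
  have hn : IsNilpotent (w.1 - 1) := ⟨p, by
    rw [sub_pow_char_of_commute p (Commute.one_right _), one_pow, ← Matrix.SpecialLinearGroup.coe_pow,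
      hwp]
    exact sub_self _⟩
  have := (Matrix.isNilpotent_trace_of_isNilpotent hn).eq_zero
  rw [Matrix.trace_sub, Matrix.trace_one, Matrix.trace_fin_two, sub_eq_zero] at this
  simpa using this

/-- Up to conjugacy, the elements of order `p` land in `PSL₂(p)`. -/
theorem exists_conj_hom [IsAlgClosed k] (hp : 5 ≤ p) {G : Type*} [Group G] [Finite G]
    (hsq : ¬ p ^ 2 ∣ Nat.card G) (φ : G →* PGL(2, k)) {y : G}
    (hy : φ y = Matrix.SpecialLinearGroup.toPGL (sU 1)) :
    ∃ φ' : G →* PGL(2, k), φ'.ker = φ.ker ∧ φ' y = Matrix.SpecialLinearGroup.toPGL (sU 1) ∧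
      (∀ x, x ^ p = 1 → φ' x ∈ (iotaSL k p).range) ∧
      ((iotaSL k p).range ≤ φ'.range ∨
        ∀ x, x ^ p = 1 → φ' x ∈ Subgroup.zpowers (φ' y)) := by
  set π : Matrix.SpecialLinearGroup (Fin 2) k →* PGL(2, k) := Matrix.SpecialLinearGroup.toPGL with hπ
  set H := φ.range.comap π with hH
  have hkle : π.ker ≤ H := fun z hz => by
    show π z ∈ φ.range
    rw [MonoidHom.mem_ker.1 hz]; exact one_mem _
  haveI : Finite φ.range := Finite.of_surjective _ φ.rangeRestrict_surjective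
  have hcen : ∀ z : π.ker, z.1.1 = 1 ∨ z.1.1 = -1 := fun z =>
    center_sl_eq ((Matrix.SpecialLinearGroup.toPGL_ker (n := Fin 2) (R := k)) ▸ z.2)
  haveI : Finite π.ker := by
    let f0 : π.ker → Bool := fun z => decide (z.1.1 = (1 : Matrix (Fin 2) (Fin 2) k))
    refine Finite.of_injective f0 fun a b h => ?_
    have ha := hcen a
    have hb := hcen b
    simp only [f0, decide_eq_decide] at h
    refine Subtype.ext (Subtype.ext ?_)
    rcases ha with ha | ha <;> rcases hb with hb | hb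
    · rw [ha, hb]
    · rw [ha, h.1 ha]
    · rw [h.2 hb, hb]
    · rw [ha, hb]
  set r : H →* φ.range := (π.comp H.subtype).codRestrict φ.range fun z => z.2 with hr
  have hrs : Function.Surjective r := fun ⟨X, hX⟩ => by
    obtain ⟨z, hz⟩ := toPGL_surjective X
    exact ⟨⟨z, show π z ∈ φ.range by rw [hπ, hz]; exact hX⟩, Subtype.ext hz⟩
  have hkc : Nat.card r.ker ≤ 2 := by
    let f : r.ker → Bool := fun z => decide (z.1.1.1 = 1)
    refine (Nat.card_le_card_of_injective f fun a b h => ?_).trans (by simp)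
    have mk : ∀ z : r.ker, z.1.1 ∈ Subgroup.center (Matrix.SpecialLinearGroup (Fin 2) k) := fun z => by
      rw [← Matrix.SpecialLinearGroup.toPGL_ker, MonoidHom.mem_ker]
      exact congrArg Subtype.val (MonoidHom.mem_ker.1 z.2)
    simp only [f, decide_eq_decide] at h
    refine Subtype.ext (Subtype.ext (Subtype.ext ?_))
    rcases center_sl_eq (mk a) with ha | ha <;> rcases center_sl_eq (mk b) with hb | hb
    · rw [ha, hb]
    · rw [ha, h.1 ha]
    · rw [h.2 hb, hb]
    · rw [ha, hb]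
  haveI : Finite H := by
    haveI : Finite (H ⧸ r.ker) :=
      Finite.of_equiv φ.range (QuotientGroup.quotientKerEquivOfSurjective r hrs).symm.toEquiv
    haveI : Finite r.ker := by
      refine Finite.of_injective (fun z : r.ker => (⟨z.1.1, ?_⟩ : π.ker)) fun a b h => ?_
      · exact MonoidHom.mem_ker.2 (congrArg Subtype.val (MonoidHom.mem_ker.1 z.2))
      · exact Subtype.ext (Subtype.ext (congrArg (fun q : π.ker => q.1) h))
    exact Finite.of_subgroup_quotient r.ker
  have hsqH : ¬ p ^ 2 ∣ Nat.card H := by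
    intro h
    rw [Subgroup.card_eq_card_quotient_mul_card_subgroup r.ker,
      Nat.card_congr (QuotientGroup.quotientKerEquivOfSurjective r hrs).toEquiv] at h
    have hco : Nat.Coprime (p ^ 2) (Nat.card r.ker) := by
      refine Nat.Coprime.pow_left 2 (hpF.out.coprime_iff_not_dvd.2 fun h => ?_)
      have := Nat.le_of_dvd Nat.card_pos h
      omega
    exact hsq ((hco.dvd_of_dvd_mul_right h).trans (Subgroup.card_range_dvd φ))
  have hTH : sU 1 ∈ H := show π _ ∈ φ.range from ⟨y, hy⟩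
  have hlift : ∀ x, x ^ p = 1 → ∃ z ∈ H, π z = φ x ∧ z ^ p = 1 ∧ z 0 0 + z 1 1 = 2 := by
    intro x hx
    obtain ⟨z, hz, hzp, htr⟩ := exists_lift_pow hp (X := φ x) (by rw [← map_pow, hx, map_one])
    exact ⟨z, show π z ∈ φ.range from ⟨x, hz.symm⟩, hz, hzp, htr⟩
  -- upper triangular unipotent elements
  have hupper : ∀ z ∈ H, z 0 0 + z 1 1 = 2 → z 1 0 = 0 →
      ∃ n : ℕ, z = sU 1 ^ n := by
    intro z hz htr h10
    have hdet := z.2
    rw [det_fin_two, h10, mul_zero, sub_zero] at hdet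
    have h11 : z 1 1 = 2 - z 0 0 := by linear_combination htr
    rw [h11] at hdet
    have h00 : z 0 0 = 1 := by
      have : (z 0 0 - 1) ^ 2 = 0 := by linear_combination -hdet
      exact sub_eq_zero.1 (pow_eq_zero_iff two_ne_zero |>.1 this)
    have e : z = sU (z 0 1) := by
      refine Subtype.ext (Matrix.ext fun i j => ?_)
      fin_cases i <;> fin_cases j <;> simp [sU, h00, h10, h11]
      norm_num
    obtain ⟨c, hc⟩ := upper_mem hsqH hTH (e ▸ hz)
    refine ⟨c.val, ?_⟩
    rw [sU_pow, mul_one]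
    conv_lhs => rw [e]
    rw [← hc, ← map_natCast (ZMod.castHom (dvd_refl p) k), ZMod.natCast_zmod_val]
  have hUmem : ∀ n : ℕ, π (sU 1 ^ n) ∈ (iotaSL k p).range := fun n => by
    refine ⟨⟨!![1, (n : ZMod p); 0, 1], by simp [det_fin_two]⟩, ?_⟩
    rw [iotaSL, MonoidHom.comp_apply]
    have hs : (sU (1 : k)) ^ n = sU (n : k) := by rw [sU_pow, mul_one]
    refine congrArg π ((Subtype.ext (Matrix.ext fun i j => ?_)).trans hs.symm)
    show ZMod.castHom (dvd_refl p) k (!![1, (n : ZMod p); 0, 1] i j) = !![1, (n : k); 0, 1] i j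
    fin_cases i <;> fin_cases j <;> simp
  by_cases hall : ∀ z ∈ H, z 0 0 + z 1 1 = 2 → z 1 0 = 0
  · refine ⟨φ, rfl, hy, fun x hx => ?_, Or.inr fun x hx => ?_⟩
    all_goals
      obtain ⟨z, hzH, hzx, -, htr⟩ := hlift x hx
      obtain ⟨n, hn⟩ := hupper z hzH htr (hall z hzH htr)
      rw [← hzx, hn]
    · exact hUmem n
    · rw [map_pow, hy]
      exact Subgroup.npow_mem_zpowers _ n
  push Not at hall
  obtain ⟨z₀, hz₀, htr₀, hc₀⟩ := hall
  obtain ⟨c₀, hc₀'⟩ := lower_entry_mem hp hsqH hTH hz₀ htr₀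
  set α := (z₀ 0 0 - 1) / z₀ 1 0 with hα
  set g : GL (Fin 2) k := (sU (-α) : GL (Fin 2) k) with hg
  set H₁ := H.map (cjSL g) with hH₁
  haveI : Finite H₁ := Finite.of_equiv H (H.equivMapOfInjective _ (cjSL_injective g)).toEquiv
  have hsq₁ : ¬ p ^ 2 ∣ Nat.card H₁ := by
    rwa [← Nat.card_congr (H.equivMapOfInjective _ (cjSL_injective g)).toEquiv]
  have hgv : ∀ z, (cjSL g z) = sU (-α) * z * sU α := by
    intro z
    refine Subtype.ext ?_
    have : ((g⁻¹ : GL (Fin 2) k) : Matrix (Fin 2) (Fin 2) k) = (sU α).1 := by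
      rw [← mul_one ((g⁻¹ : GL (Fin 2) k) : Matrix (Fin 2) (Fin 2) k),
        show (1 : Matrix (Fin 2) (Fin 2) k) = (g : Matrix (Fin 2) (Fin 2) k) * (sU α).1 by
          ext i j; fin_cases i <;> fin_cases j <;> simp [hg, sU, Matrix.mul_apply, Matrix.vecMul, dotProduct, Fin.sum_univ_two, Matrix.SpecialLinearGroup.toGL],
        ← mul_assoc, Units.inv_mul, one_mul]
    show (g : Matrix (Fin 2) (Fin 2) k) * z.1 * _ = (sU (-α)).1 * z.1 * (sU α).1
    rw [this]
    rfl
  have hcT : cjSL g (sU 1) = sU 1 := by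
    rw [hgv]
    refine Subtype.ext ?_
    show (sU (-α)).1 * (sU (1 : k)).1 * (sU α).1 = _
    ext i j
    fin_cases i <;> fin_cases j <;> simp [sU, Matrix.mul_apply, Matrix.vecMul, dotProduct, Fin.sum_univ_two]
  have hT₁ : sU 1 ∈ H₁ := hcT ▸ Subgroup.mem_map_of_mem _ hTH
  have hL₀ : sL (z₀ 1 0) ∈ H₁ := by
    have e : cjSL g z₀ = sL (z₀ 1 0) := by
      rw [hgv]
      have hdet := z₀.2
      rw [det_fin_two] at hdet
      have h11 : z₀ 1 1 = 2 - z₀ 0 0 := by linear_combination htr₀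
      have hb : z₀ 0 1 = -((z₀ 0 0 - 1) * α) := by
        refine mul_right_cancel₀ hc₀ ?_
        rw [h11] at hdet
        rw [hα]
        field_simp
        linear_combination -hdet
      refine Subtype.ext ?_
      show (sU (-α)).1 * z₀.1 * (sU α).1 = _
      ext i j
      fin_cases i <;> fin_cases j <;> simp [sU, sL, Matrix.mul_apply, Matrix.vecMul, dotProduct, Fin.sum_univ_two, h11, hb, hα] <;>
        field_simp <;> ring
    exact e ▸ Subgroup.mem_map_of_mem _ hz₀
  have hc0ne : c₀ ≠ 0 := fun h => hc₀ (by rw [← hc₀', h, map_zero])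
  have hL₁ : sL 1 ∈ H₁ := by
    have := H₁.pow_mem hL₀ (c₀⁻¹).val
    rwa [sL_pow, ← hc₀', ← map_natCast (ZMod.castHom (dvd_refl p) k), ← map_mul,
      ZMod.natCast_zmod_val, inv_mul_cancel₀ hc0ne, map_one] at this
  -- all of `SL₂(p)`
  set f := Matrix.SpecialLinearGroup.map (n := Fin 2) (ZMod.castHom (dvd_refl p) k) with hf
  have hSL : ∀ x, f x ∈ H₁ := by
    have h2 : (2 : ZMod p) ≠ 0 := two_ne_zero_of hp
    have hclo : Subfield.closure ({1} : Set (ZMod p)) = ⊤ := eq_top_iff.2 fun x _ => by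
      rw [← ZMod.natCast_zmod_val x]; exact natCast_mem _ _
    rcases Cfsg.Agent.S0801.result (F := ZMod p) h2 1 one_ne_zero hclo with ⟨h, -⟩ | ⟨h9, -, -⟩
    · intro x
      refine (show (⊤ : Subgroup _) ≤ H₁.comap f from ?_) (Subgroup.mem_top x)
      rw [← h, Subgroup.closure_le]
      intro w hw
      show f w ∈ H₁
      rcases hw with hw | hw
      · rw [show f w = sL 1 from Subtype.ext (by
          ext i j; fin_cases i <;> fin_cases j <;> simp [hf, hw, sL])]
        exact hL₁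
      · rw [show f w = sU 1 from Subtype.ext (by
          ext i j; fin_cases i <;> fin_cases j <;> simp [hf, hw, sU])]
        exact hT₁
    · exfalso
      rw [ZMod.card] at h9
      subst h9
      norm_num at hpF
      exact absurd hpF.out (by norm_num)
  set φ' : G →* PGL(2, k) := (MulAut.conj (π (sU (-α)))).toMonoidHom.comp φ with hφ'
  have hφ'π : ∀ x z, π z = φ x → π (cjSL g z) = φ' x := by
    intro x z h
    rw [hgv, map_mul, map_mul, h, hφ']
    show _ = π (sU (-α)) * φ x * (π (sU (-α)))⁻¹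
    rw [← map_inv]
    refine congrArg (fun w => π (sU (-α)) * φ x * π w) (eq_inv_of_mul_eq_one_right (Subtype.ext ?_))
    show (sU (-α)).1 * (sU α).1 = 1
    ext i j
    fin_cases i <;> fin_cases j <;> simp [sU, Matrix.mul_apply, Matrix.vecMul, dotProduct, Fin.sum_univ_two]
  refine ⟨φ', ?_, (hφ'π y _ hy.symm).symm.trans (by rw [hcT]), fun x hx => ?_, Or.inl ?_⟩
  · ext x
    simp [hφ', MonoidHom.mem_ker]
  · obtain ⟨z, hzH, hzx, -, htr⟩ := hlift x hx
    have hz₁ : cjSL g z ∈ H₁ := Subgroup.mem_map_of_mem _ hzH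
    have htr₁ : (cjSL g z) 0 0 + (cjSL g z) 1 1 = 2 := by
      rw [hgv]
      show ((sU (-α)).1 * z.1 * (sU α).1) 0 0 + ((sU (-α)).1 * z.1 * (sU α).1) 1 1 = 2
      simp [sU, Matrix.mul_apply, Matrix.vecMul, dotProduct, Fin.sum_univ_two]
      linear_combination htr
    obtain ⟨c, hc⟩ := lower_entry_mem hp hsq₁ hT₁ hz₁ htr₁
    set z₁ := cjSL g z with hz₁d
    let W : Matrix.SpecialLinearGroup (Fin 2) (ZMod p) := ⟨!![0, -1; 1, 0], by simp [det_fin_two]⟩
    let L : Matrix.SpecialLinearGroup (Fin 2) (ZMod p) := ⟨!![1, 0; 1, 1], by simp [det_fin_two]⟩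
    let W' : Matrix.SpecialLinearGroup (Fin 2) (ZMod p) := ⟨!![0, 1; -1, 0], by simp [det_fin_two]⟩
    let L' : Matrix.SpecialLinearGroup (Fin 2) (ZMod p) := ⟨!![1, 0; -1, 1], by simp [det_fin_two]⟩
    have fW : (f W).1 = !![0, -1; 1, 0] := by
      ext i j; show ZMod.castHom (dvd_refl p) k (W.1 i j) = _
      fin_cases i <;> fin_cases j <;> simp [W]
    have fW' : (f W').1 = !![0, 1; -1, 0] := by
      ext i j; show ZMod.castHom (dvd_refl p) k (W'.1 i j) = _
      fin_cases i <;> fin_cases j <;> simp [W']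
    have fL : (f L).1 = !![1, 0; 1, 1] := by
      ext i j; show ZMod.castHom (dvd_refl p) k (L.1 i j) = _
      fin_cases i <;> fin_cases j <;> simp [L]
    have fL' : (f L').1 = !![1, 0; -1, 1] := by
      ext i j; show ZMod.castHom (dvd_refl p) k (L'.1 i j) = _
      fin_cases i <;> fin_cases j <;> simp [L']
    have trW : (f W * z₁ * f W') 0 0 + (f W * z₁ * f W') 1 1 = 2 := by
      show ((f W).1 * z₁.1 * (f W').1) 0 0 + ((f W).1 * z₁.1 * (f W').1) 1 1 = 2
      rw [fW, fW']; simp [ Matrix.mul_apply, Matrix.vecMul, dotProduct, Fin.sum_univ_two]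
      linear_combination htr₁
    have trL : (f L * z₁ * f L') 0 0 + (f L * z₁ * f L') 1 1 = 2 := by
      show ((f L).1 * z₁.1 * (f L').1) 0 0 + ((f L).1 * z₁.1 * (f L').1) 1 1 = 2
      rw [fL, fL']; simp [ Matrix.mul_apply, Matrix.vecMul, dotProduct, Fin.sum_univ_two]
      linear_combination htr₁
    obtain ⟨b, hb⟩ := lower_entry_mem hp hsq₁ hT₁ (mul_mem (mul_mem (hSL W) hz₁) (hSL W')) trW
    obtain ⟨a, ha⟩ := lower_entry_mem hp hsq₁ hT₁ (mul_mem (mul_mem (hSL L) hz₁) (hSL L')) trL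
    have eb : ((f W).1 * z₁.1 * (f W').1) 1 0 = -z₁ 0 1 := by rw [fW, fW']; simp [ Matrix.mul_apply, Matrix.vecMul, dotProduct, Fin.sum_univ_two]
    have ea : ((f L).1 * z₁.1 * (f L').1) 1 0 = z₁ 0 0 + z₁ 1 0 - z₁ 0 1 - z₁ 1 1 := by
      rw [fL, fL']; simp [ Matrix.mul_apply, Matrix.vecMul, dotProduct, Fin.sum_univ_two]; ring
    have h01 : z₁ 0 1 = ZMod.castHom (dvd_refl p) k (-b) := by
      rw [map_neg, hb]
      show z₁ 0 1 = -((f W).1 * z₁.1 * (f W').1) 1 0
      rw [eb, neg_neg]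
    have hinv : ZMod.castHom (dvd_refl p) k ((2 : ZMod p)⁻¹) * 2 = 1 := by
      rw [show (2 : k) = ZMod.castHom (dvd_refl p) k 2 from (map_ofNat _ 2).symm, ← map_mul,
        inv_mul_cancel₀ (two_ne_zero_of hp), map_one]
    have h00 : z₁ 0 0 = ZMod.castHom (dvd_refl p) k (1 + 2⁻¹ * (a - c - b)) := by
      have ha' : ZMod.castHom (dvd_refl p) k a = z₁ 0 0 + z₁ 1 0 - z₁ 0 1 - z₁ 1 1 :=
        ha.trans ea
      simp only [map_add, map_one, map_mul, map_sub]
      rw [h01, map_neg, ← hc] at ha'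
      linear_combination (-(ZMod.castHom (dvd_refl p) k ((2 : ZMod p)⁻¹))) * ha' +
        (ZMod.castHom (dvd_refl p) k ((2 : ZMod p)⁻¹)) * htr₁ - (z₁ 0 0 - 1) * hinv
    have h11 : z₁ 1 1 = ZMod.castHom (dvd_refl p) k (1 - 2⁻¹ * (a - c - b)) := by
      rw [map_sub, map_one]
      rw [map_add, map_one] at h00
      linear_combination htr₁ - h00
    set u := 1 + (2 : ZMod p)⁻¹ * (a - c - b)
    set u' := 1 - (2 : ZMod p)⁻¹ * (a - c - b)
    have hdet : u * u' - (-b) * c = 1 := by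
      refine (ZMod.castHom (dvd_refl p) k).injective ?_
      have := z₁.2
      rw [det_fin_two, h00, h11, h01, ← hc] at this
      simpa [map_sub, map_mul] using this
    refine ⟨⟨!![u, -b; c, u'], by rw [det_fin_two]; simpa using hdet⟩, ?_⟩
    rw [← hφ'π x z hzx, ← hz₁d, iotaSL, MonoidHom.comp_apply]
    refine congrArg π (Subtype.ext (Matrix.ext fun i j => ?_))
    show ZMod.castHom (dvd_refl p) k (!![u, -b; c, u'] i j) = _
    fin_cases i <;> fin_cases j <;> simp [h00, h11, h01, ← hc]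
  · rintro _ ⟨x, rfl⟩
    obtain ⟨w, hw, e⟩ := hSL x
    obtain ⟨x', hx'⟩ := (show π w ∈ φ.range from hw)
    refine ⟨x', ?_⟩
    rw [← hφ'π x' w hx'.symm, e]
    rfl

end Cfsg.Agent.SmallDim
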