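import Mathlib.RepresentationTheory.Basic
import Mathlib.LinearAlgebra.BilinearMap
import Mathlib.GroupTheory.GroupAction.Quotient
import Mathlib.GroupTheory.Sylow
import Mathlib.LinearAlgebra.FiniteDimensional.Basic
import Mathlib.RingTheory.Artinian.Module
import Mathlib.Algebra.CharP.Lemmas
import Mathlib.Algebra.CharP.Algebra
import Mathlib.RingTheory.Nilpotent.Basic

/-!
Lifting an idempotent from the normalizer of a trivial intersection subgroup to the group.

If the sum over `S` kills the range of `o`, an idempotent commuting with `N(S)` is congruent,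
modulo a nil ideal of traces, to an idempotent commuting with the whole group.
-/

set_option autoImplicit false
set_option linter.unusedSectionVars false
set_option linter.style.haveILetI false

namespace Cfsg.Agent.SmallDim

open scoped Classical

variable {k : Type*} [Field k] {M : Type*} [AddCommGroup M] [Module k M] [FiniteDimensional k M]
variable {G : Type*} [Group G] [Finite G]

/-- Self-adjoint with respect to a bilinear form. -/
def IsSA (B : M →ₗ[k] M →ₗ[k] k) (f : Module.End k M) : Prop := ∀ x y, B (f x) y = B x (f y)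

namespace IsSA

variable {B : M →ₗ[k] M →ₗ[k] k} {f g : Module.End k M}

theorem one : IsSA B (1 : Module.End k M) := fun _ _ => rfl

theorem zero : IsSA B (0 : Module.End k M) := fun x y => by simp

theorem add (hf : IsSA B f) (hg : IsSA B g) : IsSA B (f + g) := fun x y => by
  simp [hf x y, hg x y]

theorem sub (hf : IsSA B f) (hg : IsSA B g) : IsSA B (f - g) := fun x y => by
  simp [hf x y, hg x y]

theorem mul (hf : IsSA B f) (hg : IsSA B g) (h : Commute f g) : IsSA B (f * g) := fun x y => by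
  rw [Module.End.mul_apply, hf, hg, ← Module.End.mul_apply, ← h.eq]

theorem pow (hf : IsSA B f) : ∀ n : ℕ, IsSA B (f ^ n)
  | 0 => by rw [pow_zero]; exact one
  | n + 1 => by rw [pow_succ]; exact (pow hf n).mul hf ((Commute.refl f).pow_left n)

theorem sum {ι : Type*} (s : Finset ι) (F : ι → Module.End k M) (h : ∀ i ∈ s, IsSA B (F i)) :
    IsSA B (∑ i ∈ s, F i) :=
  Finset.sum_induction F (IsSA B) (fun _ _ => add) zero h

end IsSA

variable (ρ : Representation k G M) (S : Subgroup G) [Fintype S]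

theorem rho_mul_inv (g : G) : ρ g * ρ g⁻¹ = 1 := by rw [← map_mul, mul_inv_cancel, map_one]

theorem rho_inv_mul (g : G) : ρ g⁻¹ * ρ g = 1 := by rw [← map_mul, inv_mul_cancel, map_one]

/-- The trace map from the trivial subgroup to `S`. -/
def trS (h : Module.End k M) : Module.End k M := ∑ s : S, ρ (s : G) * h * ρ (s : G)⁻¹

theorem commute_inv {f : Module.End k M} {g : G} (h : Commute f (ρ g)) : Commute f (ρ g⁻¹) := by
  have e : f * ρ g⁻¹ = ρ g⁻¹ * f := by
    calc f * ρ g⁻¹ = ρ g⁻¹ * ρ g * (f * ρ g⁻¹) := by rw [rho_inv_mul, one_mul]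
      _ = ρ g⁻¹ * (f * ρ g) * ρ g⁻¹ := by rw [h.eq]; simp only [mul_assoc]
      _ = ρ g⁻¹ * f := by
        rw [mul_assoc, mul_assoc f, rho_mul_inv, mul_one]
  exact e

theorem trS_mul_left {a : Module.End k M} (ha : ∀ s : S, Commute a (ρ (s : G)))
    (h : Module.End k M) : a * trS ρ S h = trS ρ S (a * h) := by
  rw [trS, trS, Finset.mul_sum]
  exact Finset.sum_congr rfl fun s _ => by
    rw [← mul_assoc, ← mul_assoc, (ha s).eq, mul_assoc (ρ (s : G)) a]

theorem trS_mul_right {a : Module.End k M} (ha : ∀ s : S, Commute a (ρ (s : G)))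
    (h : Module.End k M) : trS ρ S h * a = trS ρ S (h * a) := by
  rw [trS, trS, Finset.sum_mul]
  exact Finset.sum_congr rfl fun s _ => by
    rw [mul_assoc, (commute_inv ρ (ha s)).symm.eq]
    simp only [mul_assoc]

theorem commute_trS (h : Module.End k M) (t : S) : Commute (trS ρ S h) (ρ (t : G)) := by
  show _ * _ = _ * _
  rw [trS, Finset.sum_mul, Finset.mul_sum]
  refine (Fintype.sum_equiv (Equiv.mulLeft t) _ _ fun s => ?_).symm
  rw [Equiv.coe_mulLeft, Subgroup.coe_mul, map_mul, mul_inv_rev, map_mul]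
  simp only [mul_assoc, rho_inv_mul, mul_one]

/-- The ideal of relative traces inside the range of `o`. -/
def InI (o f : Module.End k M) : Prop := ∃ h, f = o * trS ρ S h

variable {ρ S}

theorem InI.add {o f g : Module.End k M} (hf : InI ρ S o f) (hg : InI ρ S o g) :
    InI ρ S o (f + g) := by
  obtain ⟨h, rfl⟩ := hf; obtain ⟨h', rfl⟩ := hg
  exact ⟨h + h', by simp [trS, mul_add, add_mul, Finset.sum_add_distrib]⟩

theorem InI.neg {o f : Module.End k M} (hf : InI ρ S o f) : InI ρ S o (-f) := by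
  obtain ⟨h, rfl⟩ := hf
  exact ⟨-h, by simp [trS, Finset.sum_neg_distrib]⟩

theorem InI.sub {o f g : Module.End k M} (hf : InI ρ S o f) (hg : InI ρ S o g) :
    InI ρ S o (f - g) := by rw [sub_eq_add_neg]; exact hf.add hg.neg

theorem InI.zero {o : Module.End k M} : InI ρ S o 0 := ⟨0, by simp [trS]⟩

theorem InI.mul_left {o a f : Module.End k M} (ha : ∀ s : S, Commute a (ρ (s : G)))
    (hao : Commute a o) (hf : InI ρ S o f) : InI ρ S o (a * f) := by
  obtain ⟨h, rfl⟩ := hf
  exact ⟨a * h, by rw [← mul_assoc, hao.eq, mul_assoc, trS_mul_left ρ S ha]⟩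

theorem InI.mul_right {o a f : Module.End k M} (ha : ∀ s : S, Commute a (ρ (s : G)))
    (hf : InI ρ S o f) : InI ρ S o (f * a) := by
  obtain ⟨h, rfl⟩ := hf
  exact ⟨h * a, by rw [mul_assoc, trS_mul_right ρ S ha]⟩

theorem InI.commute {o f : Module.End k M} (ho : ∀ s : S, Commute o (ρ (s : G)))
    (hf : InI ρ S o f) (s : S) : Commute f (ρ (s : G)) := by
  obtain ⟨h, rfl⟩ := hf
  exact (ho s).mul_left (commute_trS ρ S h s)

/-- A cyclic group of order `p` has fixed vectors in stable subspaces in characteristic `p`. -/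
theorem exists_fixed {p : ℕ} [Fact p.Prime] [CharP k p] (hS : Nat.card S = p) {W : Submodule k M}
    (hW : W ≠ ⊥) (hst : ∀ s : S, ∀ x ∈ W, ρ (s : G) x ∈ W) :
    ∃ v ∈ W, v ≠ 0 ∧ ∀ s : S, ρ (s : G) v = v := by
  haveI : IsCyclic S := isCyclic_of_prime_card hS
  obtain ⟨y, hy⟩ := IsCyclic.exists_generator (α := S)
  set D : Module.End k M := ρ (y : G) - 1 with hD
  have hDp : D ^ p = 0 := by
    haveI : CharP (Module.End k M) p := by
      obtain ⟨x, -, hx⟩ := (Submodule.ne_bot_iff _).1 hW
      haveI : Nontrivial M := ⟨x, 0, hx⟩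
      exact charP_of_injective_algebraMap (FaithfulSMul.algebraMap_injective k (Module.End k M)) p
    rw [hD, sub_pow_char_of_commute p (Commute.one_right _), one_pow, ← map_pow, ← SubgroupClass.coe_pow,
      ← hS, pow_card_eq_one', OneMemClass.coe_one, map_one, sub_self]
  obtain ⟨x, hx, hx0⟩ := (Submodule.ne_bot_iff _).1 hW
  have hex : ∃ i, (D ^ i) x = 0 := ⟨p, by rw [hDp]; rfl⟩
  have hi := Nat.find_spec hex
  have hi0 : Nat.find hex ≠ 0 := fun h => hx0 (by rwa [h, pow_zero] at hi)
  obtain ⟨i, hii⟩ : ∃ i, Nat.find hex = i + 1 := ⟨Nat.find hex - 1, by omega⟩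
  have hmem : ∀ j, (D ^ j) x ∈ W := by
    intro j
    induction j with
    | zero => simpa using hx
    | succ j ih =>
      rw [pow_succ', Module.End.mul_apply, hD, LinearMap.sub_apply]
      exact W.sub_mem (hst y _ ih) ih
  refine ⟨(D ^ i) x, hmem i, Nat.find_min hex (by omega), fun s => ?_⟩
  have hfix : ρ (y : G) ((D ^ i) x) = (D ^ i) x := by
    rw [hii, pow_succ', Module.End.mul_apply] at hi
    exact sub_eq_zero.1 hi
  obtain ⟨n, rfl⟩ := Subgroup.mem_zpowers_iff.1 (hy s)
  obtain ⟨n', hn⟩ : ∃ n' : ℕ, y ^ n' = y ^ n := by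
    have h : y ^ n ∈ Subgroup.zpowers y := Subgroup.zpow_mem_zpowers y n
    obtain ⟨n', hn'⟩ := (isOfFinOrder_of_finite y).mem_powers_iff_mem_zpowers.2 h
    exact ⟨n', hn'⟩
  rw [← hn, SubgroupClass.coe_pow, map_pow]
  clear hn
  induction n' with
  | zero => rw [pow_zero, Module.End.one_apply]
  | succ j ih => rw [pow_succ', Module.End.mul_apply, ih, hfix]

/-- The ideal is nil. -/
theorem InI.isNilpotent {p : ℕ} [Fact p.Prime] [CharP k p] (hS : Nat.card S = p)
    {o f : Module.End k M} (ho : ∀ s : S, Commute o (ρ (s : G)))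
    (hkill : (∑ s : S, ρ (s : G)) * o = 0) (hf : InI ρ S o f) : IsNilpotent f := by
  have hc := hf.commute ho
  have hann : ∀ v, (∀ s : S, ρ (s : G) v = v) → f v = 0 := by
    intro v hv
    obtain ⟨h, rfl⟩ := hf
    have hinv : ∀ s : S, ρ (s : G)⁻¹ v = v := fun s => by
      conv_lhs => rw [← hv s]
      rw [← Module.End.mul_apply, rho_inv_mul, Module.End.one_apply]
    have e : trS ρ S h v = (∑ s : S, ρ (s : G)) (h v) := by
      simp [trS, LinearMap.sum_apply, Module.End.mul_apply, hinv]
    have e2 : o * (∑ s : S, ρ (s : G)) = (∑ s : S, ρ (s : G)) * o :=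
      Commute.sum_right _ _ _ fun s _ => ho s
    rw [Module.End.mul_apply, e, ← Module.End.mul_apply, e2, hkill, LinearMap.zero_apply]
  obtain ⟨n, hn⟩ := monotone_stabilizes_iff_noetherian.2 (inferInstance : IsNoetherian k M)
    f.iterateKer
  refine ⟨n, ?_⟩
  by_contra hne
  set W := LinearMap.range (f ^ n) with hWd
  have hW : W ≠ ⊥ := fun h => hne (LinearMap.range_eq_bot.1 h)
  obtain ⟨v, ⟨w, hw⟩, hv0, hv⟩ := exists_fixed hS hW fun s x ⟨w, hw⟩ =>
    ⟨ρ (s : G) w, by rw [← Module.End.mul_apply, ((hc s).pow_left n).eq, Module.End.mul_apply, hw]⟩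
  refine hv0 ?_
  have h1 : (f ^ (n + 1)) w = 0 := by
    rw [pow_succ', Module.End.mul_apply, hw]; exact hann v hv
  have h2 : w ∈ LinearMap.ker (f ^ n) := by
    have e : f.iterateKer n = f.iterateKer (n + 1) := hn (n + 1) (Nat.le_succ n)
    have hm : w ∈ f.iterateKer (n + 1) := h1
    rw [← e] at hm
    exact hm
  rw [← hw]; exact h2

/-- The lifting theorem. -/
theorem exists_lift_idem {p : ℕ} [Fact p.Prime] [CharP k p] (hS : Nat.card S = p)
    (hTI : ∀ g : G, g ∉ Subgroup.normalizer (S : Set G) → ∀ s ∈ S, g⁻¹ * s * g ∈ Subgroup.normalizer (S : Set G) → s = 1)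
    (B : M →ₗ[k] M →ₗ[k] k) (hB : ∀ g x y, B (ρ g x) (ρ g y) = B x y)
    {o : Module.End k M} (hog : ∀ g, Commute o (ρ g)) (hoo : o * o = o) (hosa : IsSA B o)
    (hkill : (∑ s : S, ρ (s : G)) * o = 0)
    {π : Module.End k M} (hπ : π * π = π) (hπo : o * π = π) (hπo' : π * o = π) (hπsa : IsSA B π)
    (hπN : ∀ g ∈ Subgroup.normalizer (S : Set G), Commute π (ρ g)) :
    ∃ ε u : Module.End k M, ε * ε = ε ∧ (∀ g, Commute ε (ρ g)) ∧ IsSA B ε ∧ IsUnit u ∧
      (∀ s : S, Commute u (ρ (s : G))) ∧ ε * u = u * π := by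
  set N := Subgroup.normalizer (S : Set G) with hN
  haveI : Fintype (G ⧸ N) := Fintype.ofFinite _
  have hSN : S ≤ N := Subgroup.le_normalizer
  -- the summands of the transfer
  let F : G ⧸ N → Module.End k M := Quotient.lift (fun g => ρ g * π * ρ g⁻¹) fun g g' hgg => by
    have h1 : g⁻¹ * g' ∈ N := QuotientGroup.leftRel_apply.1 hgg
    show ρ g * π * ρ g⁻¹ = ρ g' * π * ρ g'⁻¹
    obtain ⟨m, rfl⟩ : ∃ m, g' = g * m := ⟨g⁻¹ * g', (mul_inv_cancel_left g g').symm⟩
    rw [inv_mul_cancel_left] at h1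
    rw [mul_inv_rev, map_mul, map_mul, mul_assoc (ρ g) (ρ m) π, ← (hπN _ h1).eq]
    simp only [mul_assoc]
    rw [← mul_assoc (ρ m) (ρ m⁻¹), rho_mul_inv, one_mul]
  have hF : ∀ g : G, F (g : G ⧸ N) = ρ g * π * ρ g⁻¹ := fun g => rfl
  have hFact : ∀ (g : G) (q : G ⧸ N), F (g • q) = ρ g * F q * ρ g⁻¹ := by
    intro g q
    obtain ⟨c, rfl⟩ := QuotientGroup.mk_surjective q
    show F ((g * c : G) : G ⧸ N) = _
    rw [hF, hF, map_mul, mul_inv_rev, map_mul]
    simp only [mul_assoc]
  have hFsa : ∀ q, IsSA B (F q) := by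
    intro q
    obtain ⟨c, rfl⟩ := QuotientGroup.mk_surjective q
    intro x y
    rw [hF]
    simp only [Module.End.mul_apply]
    conv_lhs => rw [← hB c⁻¹]
    rw [← Module.End.mul_apply (ρ c⁻¹) (ρ c), rho_inv_mul, Module.End.one_apply, hπsa, ← hB c]
    rw [← Module.End.mul_apply (ρ c) (ρ c⁻¹), rho_mul_inv, Module.End.one_apply]
  set T := ∑ q, F q with hT
  have hTg : ∀ g, Commute T (ρ g) := by
    intro g
    have e : ρ g * T * ρ g⁻¹ = T := by
      rw [hT, Finset.mul_sum, Finset.sum_mul]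
      exact Fintype.sum_equiv (MulAction.toPerm g) _ _ fun q => (hFact g q).symm
    show T * ρ g = ρ g * T
    conv_lhs => rw [← e, mul_assoc, rho_inv_mul, mul_one]
  -- the orbits of `S` away from the base point are regular
  have hbase : ∀ s : S, (s : G) • ((1 : G) : G ⧸ N) = ((1 : G) : G ⧸ N) := fun s => by
    show (((s : G) * 1 : G) : G ⧸ N) = _
    rw [mul_one]
    exact QuotientGroup.eq.2 (by simpa using hSN s.2)
  let orb := MulAction.orbitRel S (G ⧸ N)
  have hout : ∀ q, ∃ s : S, (s : G) • (Quotient.mk orb q).out = q := fun q =>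
    Quotient.exact (Quotient.out_eq (Quotient.mk orb q)).symm
  have hfree : ∀ q : G ⧸ N, q ≠ ((1 : G) : G ⧸ N) → ∀ s : S, (s : G) • q = q → s = 1 := by
    intro q hq s hs
    obtain ⟨c, rfl⟩ := QuotientGroup.mk_surjective q
    have hc : c ∉ N := fun h => hq (QuotientGroup.eq.2 (by simpa using h))
    replace hs : (((s : G) * c : G) : G ⧸ N) = (c : G ⧸ N) := hs
    rw [QuotientGroup.eq] at hs
    exact Subtype.ext (hTI c hc s s.2 (by simpa [mul_assoc] using N.inv_mem hs))
  set R : Finset (G ⧸ N) :=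
    Finset.univ.filter fun q => q ≠ ((1 : G) : G ⧸ N) ∧ (Quotient.mk orb q).out = q with hR
  have hsplit : T = π + trS ρ S (∑ r ∈ R, F r) := by
    have h1 : trS ρ S (∑ r ∈ R, F r) =
        ∑ q ∈ (Finset.univ : Finset (G ⧸ N)).erase ((1 : G) : G ⧸ N), F q := by
      rw [trS, Finset.sum_congr rfl fun s _ => by rw [Finset.mul_sum, Finset.sum_mul]]
      simp only [← hFact]
      rw [← Finset.sum_product']
      refine Finset.sum_bij (fun z _ => (z.1 : G) • z.2) (fun z hz => ?_)
        (fun z hz z' hz' e => ?_) (fun q hq => ?_) (fun _ _ => rfl)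
      · have hr := (Finset.mem_filter.1 (Finset.mem_product.1 hz).2).2.1
        refine Finset.mem_erase.2 ⟨fun h => hr ?_, Finset.mem_univ _⟩
        have h' := congrArg (fun q => ((z.1⁻¹ : S) : G) • q) h
        simp only [smul_smul] at h'
        rwa [← Subgroup.coe_mul, inv_mul_cancel, OneMemClass.coe_one, one_smul, hbase] at h'
      · obtain ⟨s, r⟩ := z
        obtain ⟨s', r'⟩ := z'
        simp only at e
        obtain ⟨-, hr1, hr2⟩ := Finset.mem_filter.1 (Finset.mem_product.1 hz).2
        obtain ⟨-, -, hr2'⟩ := Finset.mem_filter.1 (Finset.mem_product.1 hz').2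
        have h1 : Quotient.mk orb r = Quotient.mk orb r' := Quotient.sound
          ⟨s⁻¹ * s', by
            show ((s⁻¹ * s' : S) : G) • r' = r
            rw [Subgroup.coe_mul, mul_smul, ← e, ← mul_smul, ← Subgroup.coe_mul, inv_mul_cancel,
              OneMemClass.coe_one, one_smul]⟩
        simp only at hr1 hr2 hr2'
        have hrr : r = r' := by rw [← hr2, h1, hr2']
        subst hrr
        have h2 := hfree r hr1 (s'⁻¹ * s) (by
          rw [Subgroup.coe_mul, mul_smul, e, ← mul_smul, ← Subgroup.coe_mul, inv_mul_cancel,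
            OneMemClass.coe_one, one_smul])
        exact Prod.ext (inv_mul_eq_one.1 h2).symm rfl
      · obtain ⟨s, hs⟩ := hout q
        refine ⟨(s, (Quotient.mk orb q).out), Finset.mem_product.2 ⟨Finset.mem_univ _,
          Finset.mem_filter.2 ⟨Finset.mem_univ _, fun h => ?_, ?_⟩⟩, hs⟩
        · simp only at h
          rw [h, hbase] at hs
          exact Finset.ne_of_mem_erase hq hs.symm
        · rw [Quotient.out_eq]
    rw [h1, hT, ← Finset.add_sum_erase _ _ (Finset.mem_univ ((1 : G) : G ⧸ N)), hF, inv_one, map_one,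
      one_mul, mul_one]
  have hoS : ∀ s : S, Commute o (ρ (s : G)) := fun s => hog _
  have hπS : ∀ s : S, Commute π (ρ (s : G)) := fun s => hπN _ (hSN s.2)
  have hcπo : Commute π o := hπo'.trans hπo.symm
  have hTo : Commute o T := Commute.sum_right _ _ _ fun q _ => by
    obtain ⟨c, rfl⟩ := QuotientGroup.mk_surjective q
    rw [hF]
    exact ((hog c).mul_right hcπo.symm).mul_right (hog c⁻¹)
  set a := o * T with ha
  have haI : InI ρ S o (a - π) :=
    ⟨∑ r ∈ R, F r, by rw [ha, hsplit, mul_add, hπo, add_sub_cancel_left]⟩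
  have hag : ∀ g, Commute a (ρ g) := fun g => (hog g).mul_left (hTg g)
  have haS : ∀ s : S, Commute a (ρ (s : G)) := fun s => hag _
  have hao : Commute a o := (Commute.refl o).mul_left hTo.symm
  have hasa : IsSA B a := hosa.mul (IsSA.sum _ _ fun q _ => hFsa q) hTo
  have hoa : o * a = a := by rw [ha, ← mul_assoc, hoo]
  have hsq : InI ρ S o (a * a - a) := by
    have e : a * a - a = a * (a - π) + (a - π) * π - (a - π) := by
      simp only [mul_sub, sub_mul, hπ]; abel
    rw [e]
    exact ((haI.mul_left haS hao).add (haI.mul_right hπS)).sub haI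
  obtain ⟨n, hn⟩ := hsq.isNilpotent hS hoS hkill
  -- congruences of powers
  have hpow : ∀ m : ℕ, InI ρ S o (a ^ (m + 1) - π) := by
    intro m
    induction m with
    | zero => simpa using haI
    | succ m ih =>
      have e : a ^ (m + 1 + 1) - π = a * (a ^ (m + 1) - π) + (a - π) * π := by
        rw [mul_sub, sub_mul, hπ, ← pow_succ']; abel
      rw [e]
      exact (ih.mul_left haS hao).add (haI.mul_right hπS)
  set c := a ^ (n + 1) with hc
  have hcg : ∀ g, Commute c (ρ g) := fun g => (hag g).pow_left _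
  have hco : Commute c o := hao.pow_left _
  have hcpow : ∀ m : ℕ, InI ρ S o ((1 - c) ^ (m + 1) - (1 - π)) := by
    intro m
    induction m with
    | zero =>
      rw [zero_add, pow_one, show (1 - c) - (1 - π) = -(c - π) by abel]
      exact (hpow n).neg
    | succ m ih =>
      have e : (1 - c) ^ (m + 1 + 1) - (1 - π) =
          (1 - c) * ((1 - c) ^ (m + 1) - (1 - π)) + (-(c - π)) * (1 - π) := by
        have hid : (1 - π) * (1 - π) = 1 - π := by
          rw [mul_sub, mul_one, sub_mul, one_mul, hπ, sub_self, sub_zero]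
        rw [show -(c - π) = (1 - c) - (1 - π) by abel, mul_sub (1 - c), sub_mul (1 - c) (1 - π), hid,
          ← pow_succ']
        abel
      rw [e]
      exact (ih.mul_left (fun s => (Commute.one_left _).sub_left (hcg _))
        ((Commute.one_left _).sub_left hco)).add
          ((hpow n).neg.mul_right fun s => (Commute.one_left _).sub_left (hπS s))
  set ε := 1 - (1 - c) ^ (n + 1) with hε
  have hεg : ∀ g, Commute ε (ρ g) := fun g =>
    (Commute.one_left _).sub_left (((Commute.one_left _).sub_left (hcg g)).pow_left _)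
  have hεsa : IsSA B ε := IsSA.one.sub ((IsSA.one.sub (hasa.pow _)).pow _)
  have hεI : InI ρ S o (ε - π) := by
    rw [hε, show 1 - (1 - c) ^ (n + 1) - π = -((1 - c) ^ (n + 1) - (1 - π)) by abel]
    exact (hcpow n).neg
  obtain ⟨d, hcd, hd⟩ : ∃ d, Commute a d ∧ 1 - c = (1 - a) * d := by
    refine ⟨∑ i ∈ Finset.range (n + 1), a ^ i, Commute.sum_right _ _ _ fun i _ =>
      (Commute.refl a).pow_right i, ?_⟩
    rw [hc, ← mul_neg_geom_sum]
  obtain ⟨d', hcd', hd'⟩ : ∃ d', Commute a d' ∧ ε = c * d' := by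
    refine ⟨∑ i ∈ Finset.range (n + 1), (1 - c) ^ i, Commute.sum_right _ _ _ fun i _ =>
      (((Commute.one_right a).sub_right ((Commute.refl a).pow_right _))).pow_right i, ?_⟩
    rw [hε, ← mul_neg_geom_sum, sub_sub_cancel]
  have hεε : ε * ε = ε := by
    have hz : c * (1 - c) ^ (n + 1) = 0 := by
      rw [hd, ((Commute.one_left d).sub_left hcd).mul_pow, ← mul_assoc, hc,
        ← ((Commute.one_right a).sub_right (Commute.refl a)).mul_pow, mul_sub, mul_one,
        show a - a * a = -(a * a - a) by abel, neg_pow, pow_succ (a * a - a), hn]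
      simp
    have h0 : ε * (1 - c) ^ (n + 1) = 0 := by
      rw [hd', mul_assoc]
      have hcd'' : Commute d' ((1 - c) ^ (n + 1)) :=
        (((Commute.one_right d').sub_right (hcd'.symm.pow_right _))).pow_right _
      rw [hcd''.eq, ← mul_assoc, hz, zero_mul]
    calc ε * ε = ε * (1 - (1 - c) ^ (n + 1)) := rfl
      _ = ε := by rw [mul_sub, mul_one, h0, sub_zero]
  -- the conjugating unit
  have hεS : ∀ s : S, Commute ε (ρ (s : G)) := fun s => hεg _
  refine ⟨ε, ε * π + (1 - ε) * (1 - π), hεε, hεg, hεsa, ?_, fun s => ?_, ?_⟩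
  · have e : ε * π + (1 - ε) * (1 - π) = 1 + (ε - π) * (π + π - 1) := by
      simp only [mul_sub, sub_mul, mul_add, one_mul, mul_one, hπ]; abel
    rw [e]
    exact IsNilpotent.isUnit_one_add ((hεI.mul_right fun s =>
      ((hπS s).add_left (hπS s)).sub_left (Commute.one_left _)).isNilpotent hS hoS hkill)
  · exact ((hεS s).mul_left (hπS s)).add_left
      (((Commute.one_left _).sub_left (hεS s)).mul_left ((Commute.one_left _).sub_left (hπS s)))
  · simp only [mul_sub, sub_mul, mul_add, add_mul, one_mul, mul_one, hπ, ← mul_assoc, hεε]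
    simp only [mul_assoc, hπ]
    abel

end Cfsg.Agent.SmallDim
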