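import Cfsg.Agent.Lib.SmallDim.Edge
import Cfsg.Agent.Lib.SmallDim.Image
import Cfsg.Agent.Lib.Char.Integral

/-!
Groups with a complex representation of degree about `p / 2` and a Sylow subgroup of order `p`
map to `PGL₂` in characteristic `p`.
-/

set_option autoImplicit false
set_option linter.unusedSectionVars false
set_option linter.style.haveILetI false

namespace Cfsg.Agent.SmallDim

open Cfsg Cfsg.Agent.Char Cfsg.Agent.Blocks IsLocalRing Module
open scoped Classical MatrixGroups ComplexConjugate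

universe u

variable {G : Type u} [Group G] [Fintype G]

theorem mem_of_isIntegral (V : ValuationSubring ℂ) {z : ℂ} (hz : IsIntegral ℤ z) : z ∈ V := by
  obtain ⟨y, hy⟩ := IsIntegrallyClosed.isIntegral_iff.1 (hz.tower_top (A := V))
  exact hy ▸ y.2

/-- Integral coefficients of the idempotent of the characters of degree divisible by `p`. -/
theorem exists_coeffs {p : ℕ} [hpF : Fact p.Prime] (V : ValuationSubring ℂ)
    (hpV : (p : V) ∈ maximalIdeal V) (hdvd : p ∣ Nat.card G) (hsq : ¬ p ^ 2 ∣ Nat.card G) :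
    ∃ c : G → V, (∀ g, (c g : ℂ) = blockCoeff {χ : IrrCharacter G | p ∣ charDegree (χ : G → ℂ)} g) ∧
      residue V (c 1) = 0 := by
  obtain ⟨g0, hg0⟩ := hdvd
  haveI : CharP (ResidueField V) p := (CharP.charP_iff_prime_eq_zero hpF.out).2 (by
    rw [← map_natCast (residue V), residue_eq_zero_iff]; exact hpV)
  have hg0' : ¬ p ∣ g0 := fun h => hsq (by rw [pow_two, hg0]; exact mul_dvd_mul_left p h)
  have hunit : IsUnit (g0 : V) := by
    by_contra h
    have h1 : residue V (g0 : V) = 0 := by
      rw [residue_eq_zero_iff, IsLocalRing.mem_maximalIdeal]; exact h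
    rw [map_natCast] at h1
    exact hg0' ((CharP.cast_eq_zero_iff (ResidueField V) p g0).1 h1)
  obtain ⟨w, hw⟩ := hunit.exists_right_inv
  set Z := Finset.univ.filter fun χ : IrrCharacter G => p ∣ charDegree (χ : G → ℂ) with hZ
  set c : G → V := fun g => w * ∑ χ ∈ Z, ((charDegree (χ : G → ℂ) / p : ℕ) : V) *
    ⟨(χ : G → ℂ) g⁻¹, mem_of_isIntegral V (irr_isIntegral χ g⁻¹)⟩ with hc
  refine ⟨c, fun g => ?_, ?_⟩
  · have hw' : (w : ℂ) = (g0 : ℂ)⁻¹ := by
      refine eq_inv_of_mul_eq_one_right ?_
      simpa using congrArg (fun v : V => (v : ℂ)) hw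
    rw [blockCoeff_eq_sum, hc]
    simp only [Set.mem_setOf_eq]
    push_cast
    rw [hw', Finset.mul_sum, Finset.mul_sum, ← hZ]
    refine Finset.sum_congr rfl fun χ hχ => ?_
    obtain ⟨m, hm⟩ := (Finset.mem_filter.1 hχ).2
    rw [irr_inv, irr_one_eq_charDegree, hm, Nat.mul_div_cancel_left _ hpF.out.pos, hg0]
    push_cast
    have : (p : ℂ) ≠ 0 := Nat.cast_ne_zero.2 hpF.out.ne_zero
    field_simp
  · rw [hc, map_mul, map_sum, Finset.sum_eq_zero, mul_zero]
    intro χ hχ
    have e : (⟨(χ : G → ℂ) 1⁻¹, mem_of_isIntegral V (irr_isIntegral χ 1⁻¹)⟩ : V) =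
        ((charDegree (χ : G → ℂ) : ℕ) : V) := Subtype.ext (by
      simp [irr_one_eq_charDegree])
    rw [e, map_mul, map_natCast, map_natCast,
      (CharP.cast_eq_zero_iff (ResidueField V) p _).2 (Finset.mem_filter.1 hχ).2, mul_zero]

/-- The extra hypotheses in degree `(p + 1) / 2`. -/
structure EdgeHyp (p : ℕ) (S : Subgroup G) (y : G) {d : ℕ}
    (ρ : Representation ℂ G (Fin d → ℂ)) : Prop where
  deg : 2 * d = p + 1
  selfCent : ∀ x : G, (∀ s ∈ S, s * x = x * s) → x ∈ S
  vanish : ∀ χ : IrrCharacter G, p ∣ charDegree (χ : G → ℂ) → ∀ s ∈ S, s ≠ 1 → (χ : G → ℂ) s = 0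
  twist : ∃ n ∈ Subgroup.normalizer (S : Set G), ∃ a : ℕ, n * y * n⁻¹ = y ^ a ∧
    (a : ZMod p) ^ (d - 2) ≠ 1
  constituent : ∃ χ : IrrCharacter G, p ∣ charDegree (χ : G → ℂ) ∧
    classInner (fun g => ρ.character g * conj (ρ.character g)) (χ : G → ℂ) ≠ 0

theorem trace_eq_zero_of_char {p : ℕ} [hpF : Fact p.Prime] {S : Subgroup G} {y : G} {d : ℕ}
    {ρ : Representation ℂ G (Fin d → ℂ)} (E : EdgeHyp p S y ρ) :
    ∑ g : G, blockCoeff {χ : IrrCharacter G | p ∣ charDegree (χ : G → ℂ)} g *
      (ρ.character g * conj (ρ.character g)) ≠ 0 := by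
  set ψ : G → ℂ := fun g => ρ.character g * conj (ρ.character g) with hψ
  have hψc : IsCharacter G ψ :=
    IsCharacter.mul (isCharacter_of_rep ρ) (IsCharacter.conj (isCharacter_of_rep ρ))
  choose m hm using fun χ : IrrCharacter G =>
    IsCharacter.exists_classInner_nat hψc (irr_isCharacter χ)
  set Z := Finset.univ.filter fun χ : IrrCharacter G => p ∣ charDegree (χ : G → ℂ) with hZ
  have e : ∑ g : G, blockCoeff {χ : IrrCharacter G | p ∣ charDegree (χ : G → ℂ)} g * ψ g =
      ((∑ χ ∈ Z, charDegree (χ : G → ℂ) * m χ : ℕ) : ℂ) := by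
    simp only [blockCoeff_eq_sum, Set.mem_setOf_eq, ← hZ, Finset.mul_sum, Finset.sum_mul]
    rw [Finset.sum_comm]
    push_cast
    refine Finset.sum_congr rfl fun χ _ => ?_
    rw [← hm χ, ← irr_one_eq_charDegree]
    simp only [classInner, Finset.mul_sum]
    exact Finset.sum_congr rfl fun g _ => by ring
  show ∑ g : G, _ * ψ g ≠ 0
  rw [e, Nat.cast_ne_zero]
  obtain ⟨χ, hχ, hne⟩ := E.constituent
  rw [hm χ, Nat.cast_ne_zero] at hne
  exact (Finset.sum_pos' (fun _ _ => Nat.zero_le _) ⟨χ, Finset.mem_filter.2 ⟨Finset.mem_univ _, hχ⟩,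
    Nat.mul_pos (Blocks.charDegree_pos χ) (Nat.pos_of_ne_zero hne)⟩).ne'

/-- The reduced idempotent is non-zero on the endomorphisms. -/
theorem adSum_ne_zero {V : ValuationSubring ℂ} {d : ℕ} (ρ : Representation ℂ G (Fin d → ℂ))
    (m : G →* Matrix (Fin d) (Fin d) V)
    (htr : ∀ g, (((m g).map (fun x : V => (x : ℂ))).trace) = LinearMap.trace ℂ _ (ρ g))
    (σ : Representation (ResidueField V) G (Fin d → ResidueField V))
    (hσ : ∀ g, σ g = Matrix.toLin' ((residue V).mapMatrix (m g)))
    (c : G → V) (hconv : ∀ x, ∑ g, c g * c (g⁻¹ * x) = c x)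
    (hne : ∑ g : G, (c g : ℂ) * (ρ.character g * conj (ρ.character g)) ≠ 0) :
    adSum σ (fun g => residue V (c g)) ≠ 0 := by
  intro h0
  let E : Matrix (Fin d) (Fin d) V →ₗ[V] Matrix (Fin d) (Fin d) V :=
    ∑ g, c g • (LinearMap.mulLeft V (m g)).comp (LinearMap.mulRight V (m g⁻¹))
  have hEa : ∀ X, E X = ∑ g, c g • (m g * (X * m g⁻¹)) := fun X => by simp [E]
  have hEE : ∀ X, E (E X) = E X := by
    intro X
    rw [hEa X, map_sum]
    simp only [hEa, mul_smul_comm, smul_mul_assoc, smul_smul]
    calc ∑ g, ∑ h, (c h * c g) • (m h * (m g * (X * m g⁻¹) * m h⁻¹))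
        = ∑ g, ∑ h, (c h * c g) • (m (h * g) * (X * m (h * g)⁻¹)) := by
          refine Finset.sum_congr rfl fun g _ => Finset.sum_congr rfl fun h _ => ?_
          rw [mul_inv_rev, map_mul, map_mul]
          simp only [mul_assoc]
      _ = ∑ h, ∑ x, (c h * c (h⁻¹ * x)) • (m x * (X * m x⁻¹)) := by
          rw [Finset.sum_comm]
          refine Finset.sum_congr rfl fun h _ => Fintype.sum_equiv (Equiv.mulLeft h) _ _ fun g => ?_
          rw [Equiv.coe_mulLeft, inv_mul_cancel_left]
      _ = ∑ x, c x • (m x * (X * m x⁻¹)) := by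
          rw [Finset.sum_comm]
          exact Finset.sum_congr rfl fun x _ => by rw [← Finset.sum_smul, hconv]
  have hred : ∀ X i j, E X i j ∈ maximalIdeal V := by
    intro X i j
    rw [← residue_eq_zero_iff]
    have h := LinearMap.congr_fun h0 (Matrix.toLin' ((residue V).mapMatrix X))
    have h2 : Matrix.toLin' ((residue V).mapMatrix (E X)) = 0 := by
      refine Eq.trans ?_ (h.trans (LinearMap.zero_apply _))
      rw [hEa, map_sum, map_sum]
      simp only [adSum, LinearMap.sum_apply, LinearMap.smul_apply]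
      refine Finset.sum_congr rfl fun g _ => ?_
      rw [adRep_apply, hσ, hσ, mul_assoc, Module.End.mul_eq_comp, Module.End.mul_eq_comp,
        ← Matrix.toLin'_mul, ← Matrix.toLin'_mul, ← map_mul, ← map_mul, ← map_smul]
      congr 1
    rw [LinearEquiv.map_eq_zero_iff] at h2
    exact congrFun (congrFun h2 i) j
  have hR : ∀ X, E X = 0 := by
    set R := LinearMap.range E with hRd
    have hle : R ≤ maximalIdeal V • R := by
      rintro _ ⟨X, rfl⟩
      rw [← hEE X, Matrix.matrix_eq_sum_single (E X)]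
      simp only [map_sum]
      refine Submodule.sum_mem _ fun i _ => Submodule.sum_mem _ fun j _ => ?_
      rw [show Matrix.single i j (E X i j) = (E X i j) • Matrix.single i j (1 : V) by
        rw [Matrix.smul_single, smul_eq_mul, mul_one], map_smul]
      exact Submodule.smul_mem_smul (hred X i j) (LinearMap.mem_range_self E _)
    have hfg : R.FG := by
      rw [hRd, LinearMap.range_eq_map]
      exact Submodule.FG.map E Module.Finite.fg_top
    have hbot := Submodule.eq_bot_of_le_smul_of_le_jacobson_bot (maximalIdeal V) R hfg hle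
      (le_of_eq (IsLocalRing.jacobson_eq_maximalIdeal _ bot_ne_top).symm)
    intro X
    have hX : E X ∈ R := LinearMap.mem_range_self E X
    rw [hbot] at hX
    exact hX
  refine hne ?_
  have h1 : ∀ g, ∑ i, ∑ j,
      (((m g * (Matrix.single i j (1 : V) * m g⁻¹) : Matrix (Fin d) (Fin d) V) i j : V) : ℂ) =
      ρ.character g * conj (ρ.character g) := by
    intro g
    have e : ∀ g', (((m g').map (fun x : V => (x : ℂ))).trace) = ρ.character g' := htr
    rw [← IsCharacter.inv (isCharacter_of_rep ρ) g, ← e, ← e, Matrix.trace, Matrix.trace,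
      Finset.sum_mul_sum]
    refine Finset.sum_congr rfl fun i _ => Finset.sum_congr rfl fun j _ => ?_
    have : (m g * (Matrix.single i j (1 : V) * m g⁻¹)) i j = m g i i * m g⁻¹ j j := by
      rw [Matrix.mul_apply, Finset.sum_eq_single i]
      · rw [Matrix.single_mul_apply_same, one_mul]
      · intro a _ ha
        rw [Matrix.single_mul_apply_of_ne _ _ _ _ _ ha, mul_zero]
      · exact fun h => absurd (Finset.mem_univ _) h
    rw [this]
    simp
  calc ∑ g : G, (c g : ℂ) * (ρ.character g * conj (ρ.character g))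
      = ∑ i, ∑ j, ((E (Matrix.single i j (1 : V))) i j : ℂ) := by
        simp only [← h1, Finset.mul_sum]
        rw [Finset.sum_comm]
        refine Finset.sum_congr rfl fun i _ => ?_
        rw [Finset.sum_comm]
        refine Finset.sum_congr rfl fun j _ => ?_
        rw [hEa, Matrix.sum_apply]
        push_cast [Matrix.smul_apply, smul_eq_mul]
        rfl
    _ = 0 := by simp [hR]

/-- The map to `PGL₂` in characteristic `p`. -/
theorem exists_hom_complex {p : ℕ} [hpF : Fact p.Prime] (hp5 : 5 ≤ p) (S : Subgroup G)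
    (hS : Nat.card S = p) (hsq : ¬ p ^ 2 ∣ Nat.card G)
    (hnn : ∀ H : Subgroup G, H.Normal → IsPGroup p H → H = ⊥) {d : ℕ}
    (ρ : Representation ℂ G (Fin d → ℂ)) (hρ : Function.Injective ρ) {y : G} (hy : y ∈ S)
    (hy1 : y ≠ 1) (hcase : 2 * d ≤ p ∨ EdgeHyp p S y ρ) :
    ∃ (k : Type) (_ : Field k) (_ : IsAlgClosed k) (_ : CharP k p) (φ : G →* PGL(2, k)),
      φ y = Matrix.SpecialLinearGroup.toPGL (sU 1) := by
  haveI : Fintype S := Fintype.ofFinite _
  obtain ⟨V, hpV, hch, m, σ, hσ, hinj, htr⟩ := exists_reduction hnn ρ hρ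
  haveI := hch
  have hA : σ y ≠ 1 := fun h => hy1 (hinj (by rw [h, map_one]))
  have hfr : Module.finrank (ResidueField V) (Fin d → ResidueField V) = d := Module.finrank_fin_fun _
  obtain ⟨φ, hφ⟩ : ∃ φ : G →* PGL(2, ResidueField V), φ y = Matrix.ProjGenLinGroup.mk
      (Matrix.GeneralLinearGroup.mkOfDetNeZero !![1, 1; 0, 1] (by simp [Matrix.det_fin_two])) := by
    rcases hcase with hd | E
    · exact exists_hom_small σ hS hsq hy hA (by rw [hfr]; exact hd) hp5
    · obtain ⟨c, hc, hc1⟩ := exists_coeffs V hpV (hS ▸ S.card_subgroup_dvd_card) hsq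
      set Z : Set (IrrCharacter G) := {χ | p ∣ charDegree (χ : G → ℂ)} with hZ
      have hinjc : Function.Injective fun x : V => (x : ℂ) := Subtype.val_injective
      have hcl : ∀ g x, c (g * x * g⁻¹) = c x := fun g x => hinjc (by
        show (c _ : ℂ) = c x
        rw [hc, hc]; exact isClassElt_blockElt Z x g)
      have hconv : ∀ x, ∑ g, c g * c (g⁻¹ * x) = c x := fun x => hinjc (by
        show ((∑ g, c g * c (g⁻¹ * x) : V) : ℂ) = c x
        push_cast
        simp only [hc]
        have h := congrArg (fun z : MonoidAlgebra ℂ G => z.coeff x) (blockElt_idem Z)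
        simp only [coeff_mul_univ, coeff_blockElt] at h
        exact h)
      have hinv : ∀ g, c g⁻¹ = c g := fun g => hinjc (by
        show (c _ : ℂ) = c g
        rw [hc, hc, blockCoeff_eq_sum, blockCoeff_eq_sum]
        congr 1
        refine Finset.sum_nbij' conjIrr conjIrr (fun χ hχ => ?_) (fun χ hχ => ?_)
          (fun χ _ => conjIrr_conjIrr χ) (fun χ _ => conjIrr_conjIrr χ) fun χ _ => ?_
        · simpa [hZ, charDegree_conjIrr] using hχ
        · simpa [hZ, charDegree_conjIrr] using hχ
        · rw [conjIrr_apply, conjIrr_apply, conj_irr_one, Complex.conj_conj, irr_inv, Complex.conj_conj])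
      have hfree : ∀ x, residue V (c x) ≠ 0 → ∀ s ∈ S, s * x * s⁻¹ = x → s = 1 := by
        intro x hx s hs hsx
        by_contra hs1
        have hxc : ∀ t ∈ S, t * x = x * t := by
          intro t ht
          obtain ⟨b, hb⟩ := exists_pow_eq hS hs hs1 ht
          have hcm : Commute s x := mul_inv_eq_iff_eq_mul.1 hsx
          rw [hb]
          exact (hcm.pow_left b).eq
        have hxS := E.selfCent x hxc
        rcases eq_or_ne x 1 with rfl | hx1
        · exact hx hc1
        refine hx ?_
        rw [show c x = 0 from hinjc (by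
          show (c x : ℂ) = ((0 : V) : ℂ)
          rw [hc, blockCoeff_eq_sum, Finset.sum_eq_zero (fun χ hχ => ?_), mul_zero, ZeroMemClass.coe_zero]
          rw [E.vanish χ (Finset.mem_filter.1 hχ).2 x hxS hx1, map_zero, mul_zero]), map_zero]
      refine exists_hom_edge σ hS hsq hy hA (by rw [hfr]; exact E.deg) hp5
        (fun g => residue V (c g)) (fun g x => by simp only [hcl]) (fun g => by simp only [hinv])
        (fun x => by simp only [← map_mul, ← map_sum, hconv]) hfree ?_ ?_
      · refine adSum_ne_zero ρ m htr σ hσ c hconv ?_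
        simp only [hc]
        exact trace_eq_zero_of_char E
      · obtain ⟨n, hn, a, hna, ha⟩ := E.twist
        refine ⟨n, hn, a, hna, fun h => ha ?_⟩
        refine (ZMod.castHom (dvd_refl p) (ResidueField V)).injective ?_
        rw [hfr] at h
        rw [map_pow, map_natCast, map_one, h]
  refine ⟨ResidueField V, inferInstance, isAlgClosed_residue V, hch, φ, hφ.trans ?_⟩
  exact congrArg Matrix.ProjGenLinGroup.mk (Units.ext rfl)

/-- The elements of order `p` generate a simple group. -/
theorem closure_order_eq_top [IsSimpleGroup G] {p : ℕ} [Fact p.Prime] (hdvd : p ∣ Nat.card G) :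
    Subgroup.closure {x : G | x ^ p = 1} = ⊤ := by
  have hn : (Subgroup.closure {x : G | x ^ p = 1}).Normal := by
    refine ⟨fun a ha g => ?_⟩
    have h : Subgroup.closure {x : G | x ^ p = 1} ≤
        (Subgroup.closure {x : G | x ^ p = 1}).comap (MulAut.conj g).toMonoidHom :=
      (Subgroup.closure_le _).2 fun x hx => Subgroup.subset_closure (by
        show (g * x * g⁻¹) ^ p = 1
        rw [conj_pow, hx, mul_one, mul_inv_cancel])
    exact h ha
  refine hn.eq_bot_or_eq_top.resolve_left fun h => ?_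
  obtain ⟨x, hx⟩ := exists_prime_orderOf_dvd_card' (G := G) p hdvd
  have : x ∈ Subgroup.closure {x : G | x ^ p = 1} :=
    Subgroup.subset_closure (by show x ^ p = 1; rw [← hx]; exact pow_orderOf_eq_one x)
  rw [h, Subgroup.mem_bot] at this
  rw [this, orderOf_one] at hx
  exact (Fact.out : p.Prime).ne_one hx.symm

/-- A simple group mapping non-trivially to `PGL₂` is `PSL₂(p)`. -/
theorem equiv_psl_of_hom [IsSimpleGroup G] {p : ℕ} [hpF : Fact p.Prime] (hp5 : 5 ≤ p)
    (S : Subgroup G) (hS : Nat.card S = p) (hsq : ¬ p ^ 2 ∣ Nat.card G) (hSn : ¬ S.Normal)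
    {k : Type} [Field k] [IsAlgClosed k] [CharP k p] (φ : G →* PGL(2, k)) {y : G} (hy : y ∈ S)
    (hφ : φ y = Matrix.SpecialLinearGroup.toPGL (sU 1)) :
    Nonempty (G ≃* Matrix.ProjectiveSpecialLinearGroup (Fin 2) (ZMod p)) := by
  obtain ⟨φ', hker, hy', hle, hge⟩ := exists_conj_hom hp5 hsq φ hφ
  have hne : φ y ≠ 1 := by
    rw [hφ, Ne, ← MonoidHom.mem_ker, Matrix.SpecialLinearGroup.toPGL_ker]
    intro h
    rcases center_sl_eq h with h | h <;>
      simpa [sU] using congrFun (congrFun h 0) 1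
  have hbot : φ.ker = ⊥ := by
    refine (inferInstance : φ.ker.Normal).eq_bot_or_eq_top.resolve_right fun h => hne ?_
    rw [← MonoidHom.mem_ker, h]
    exact Subgroup.mem_top y
  have hinj : Function.Injective φ' := (MonoidHom.ker_eq_bot_iff φ').1 (hker.trans hbot)
  have hrange : φ'.range = (iotaSL k p).range := by
    refine le_antisymm ?_ (hge.resolve_right fun h => hSn ⟨fun a ha g => ?_⟩)
    · rw [MonoidHom.range_eq_map, ← closure_order_eq_top (p := p) (hS ▸ S.card_subgroup_dvd_card),
        MonoidHom.map_closure, Subgroup.closure_le]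
      rintro _ ⟨x, hx, rfl⟩
      exact hle x hx
    · have hap : (g * a * g⁻¹) ^ p = 1 := by
        rw [conj_pow, pow_p_eq_one hS ha, mul_one, mul_inv_cancel]
      obtain ⟨b, hb⟩ := Subgroup.mem_zpowers_iff.1 (h _ hap)
      rw [← map_zpow] at hb
      exact hinj hb ▸ S.zpow_mem hy b
  exact ⟨((MonoidHom.ofInjective hinj).trans (MulEquiv.subgroupCongr
    (hrange.trans (iotaPSL_range k p).symm))).trans
      (MonoidHom.ofInjective (iotaPSL_injective k p)).symm⟩

end Cfsg.Agent.SmallDim
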