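import Cfsg.Agent.S0801
import Mathlib.LinearAlgebra.Matrix.GeneralLinearGroup.Projective
import Mathlib.FieldTheory.IntermediateField.Adjoin.Basic
import Mathlib.FieldTheory.IsAlgClosed.Basic
import Mathlib.FieldTheory.Finite.Basic
import Mathlib.RingTheory.IntegralClosure.IsIntegralClosure.Basic

/-!
Finite subgroups of `PGL₂` in characteristic `p` whose order contains `p` only once.
-/

set_option autoImplicit false
set_option linter.unusedSectionVars false
set_option linter.style.haveILetI false

namespace Cfsg.Agent.SmallDim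

open Matrix
open scoped MatrixGroups Classical

variable {k : Type*} [Field k]

local notation "SL₂" => Matrix.SpecialLinearGroup (Fin 2) k
local notation "M₂" => Matrix (Fin 2) (Fin 2) k

/-- Upper transvections. -/
def sU (a : k) : Matrix.SpecialLinearGroup (Fin 2) k := ⟨!![1, a; 0, 1], by simp [det_fin_two]⟩

/-- Lower transvections. -/
def sL (a : k) : Matrix.SpecialLinearGroup (Fin 2) k := ⟨!![1, 0; a, 1], by simp [det_fin_two]⟩

theorem sU_pow (a : k) : ∀ n : ℕ, (sU a) ^ n = sU ((n : k) * a)
  | 0 => by rw [pow_zero]; exact Subtype.ext (by simp [sU, Matrix.one_fin_two])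
  | n + 1 => by
    rw [pow_succ, sU_pow a n]
    refine Subtype.ext ?_
    show (sU ((n : k) * a)).1 * (sU a).1 = _
    ext i j
    fin_cases i <;> fin_cases j <;> simp [sU, Matrix.mul_apply]
    ring

theorem sL_pow (a : k) : ∀ n : ℕ, (sL a) ^ n = sL ((n : k) * a)
  | 0 => by rw [pow_zero]; exact Subtype.ext (by simp [sL, Matrix.one_fin_two])
  | n + 1 => by
    rw [pow_succ, sL_pow a n]
    refine Subtype.ext ?_
    show (sL ((n : k) * a)).1 * (sL a).1 = _
    ext i j
    fin_cases i <;> fin_cases j <;> simp [sL, Matrix.mul_apply]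
    ring

variable {p : ℕ} [hpF : Fact p.Prime] [CharP k p]

omit hpF in
theorem two_ne_zero_of (hp : 5 ≤ p) : (2 : k) ≠ 0 := by
  rw [show (2 : k) = ((2 : ℕ) : k) by norm_num, Ne, CharP.cast_eq_zero_iff k p]
  intro h; have := Nat.le_of_dvd (by norm_num) h; omega

theorem mem_prime_field {x : k} (h : x ^ p = x) : ∃ c : ZMod p, ZMod.castHom dvd_rfl k c = x := by
  by_contra hne
  push Not at hne
  have hinj : Function.Injective (ZMod.castHom (dvd_refl p) k) := RingHom.injective _
  set s : Finset k := insert x (Finset.univ.map ⟨ZMod.castHom (dvd_refl p) k, hinj⟩) with hs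
  have hcard : s.card = p + 1 := by
    rw [hs, Finset.card_insert_of_notMem (by simpa using hne), Finset.card_map, Finset.card_univ,
      ZMod.card]
  have hne0 : (Polynomial.X ^ p - Polynomial.X : Polynomial k) ≠ 0 :=
    FiniteField.X_pow_card_sub_X_ne_zero k hpF.out.one_lt
  have hsub : s ⊆ (Polynomial.X ^ p - Polynomial.X : Polynomial k).roots.toFinset := by
    intro z hz
    rw [Multiset.mem_toFinset, Polynomial.mem_roots hne0]
    rcases Finset.mem_insert.1 hz with rfl | hz
    · simp [h]
    · obtain ⟨c, -, rfl⟩ := Finset.mem_map.1 hz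
      simp only [Polynomial.IsRoot, Polynomial.eval_sub, Polynomial.eval_pow, Polynomial.eval_X,
        Function.Embedding.coeFn_mk]
      rw [← map_pow, ZMod.pow_card, sub_self]
  have := (Finset.card_le_card hsub).trans ((Multiset.toFinset_card_le _).trans
    (Polynomial.card_roots' _))
  rw [hcard, FiniteField.X_pow_card_sub_X_natDegree_eq k hpF.out.one_lt] at this
  omega

/-- A transvection pair in a finite group of order not divisible by `p ^ 2` is defined over the
prime field. -/
theorem pair_mem [IsAlgClosed k] (hp : 5 ≤ p) (H : Subgroup SL₂) [Finite H]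
    (hsq : ¬ p ^ 2 ∣ Nat.card H) {b : k} (hu : sU b ∈ H) (hl : sL 1 ∈ H) :
    ∃ c : ZMod p, ZMod.castHom dvd_rfl k c = b := by
  rcases eq_or_ne b 0 with rfl | hb
  · exact ⟨0, map_zero _⟩
  letI : Algebra (ZMod p) k := ZMod.algebra k p
  -- `b` is integral
  have hint : IsIntegral (ZMod p) b := by
    set M := sL (1 : k) * sU b with hM
    have hMH : M ∈ H := H.mul_mem hl hu
    obtain ⟨n, hn, hMn⟩ := isOfFinOrder_iff_pow_eq_one.1 (isOfFinOrder_of_finite (⟨M, hMH⟩ : H))
    have hMn' : (M : M₂) ^ n = 1 := by
      rw [← Matrix.SpecialLinearGroup.coe_pow, show M ^ n = 1 by simpa using congrArg Subtype.val hMn]; rfl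
    obtain ⟨l, hl⟩ := IsAlgClosed.exists_root
      (Polynomial.X ^ 2 - Polynomial.C (2 + b) * Polynomial.X + 1 : Polynomial k) (by
        rw [show (Polynomial.X ^ 2 - Polynomial.C (2 + b) * Polynomial.X + 1 : Polynomial k) =
          Polynomial.C 1 * Polynomial.X ^ 2 + Polynomial.C (-(2 + b)) * Polynomial.X +
            Polynomial.C 1 by simp; ring, Polynomial.degree_quadratic one_ne_zero]
        decide)
    simp only [Polynomial.IsRoot, Polynomial.eval_add, Polynomial.eval_sub, Polynomial.eval_pow,
      Polynomial.eval_X, Polynomial.eval_mul, Polynomial.eval_C, Polynomial.eval_one] at hl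
    set w : Fin 2 → k := ![b, l - 1] with hw
    have hev : (M : M₂).mulVec w = l • w := by
      ext i
      have hMe : (M : M₂) = !![1, b; 1, b + 1] := by
        show (sL (1 : k)).1 * (sU b).1 = _
        ext a c
        fin_cases a <;> fin_cases c <;> simp [sL, sU, Matrix.mul_apply]
      rw [hMe]
      fin_cases i <;> simp [hw, dotProduct, Matrix.mulVec, Fin.sum_univ_two]
      · ring
      · linear_combination -hl
    have hevn : ∀ m : ℕ, ((M : M₂) ^ m).mulVec w = l ^ m • w := fun m => by
      induction m with
      | zero => simp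
      | succ m ih => rw [pow_succ, ← Matrix.mulVec_mulVec, hev, Matrix.mulVec_smul, ih, smul_smul,
          pow_succ']
    have hln : l ^ n = 1 := by
      have h1 := congrFun (hevn n) 0
      rw [hMn', Matrix.one_mulVec, Pi.smul_apply, smul_eq_mul] at h1
      simp only [hw, Matrix.cons_val_zero] at h1
      exact mul_right_cancel₀ hb (h1.symm.trans (one_mul b).symm)
    have hli : IsIntegral (ZMod p) l := IsIntegral.of_pow hn (by rw [hln]; exact isIntegral_one)
    have hl0 : l ≠ 0 := fun h => by simp [h] at hl
    have e : b = l + l ^ (n - 1) - 2 := by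
      have : l * l ^ (n - 1) = 1 := by rw [← pow_succ', Nat.sub_add_cancel hn, hln]
      refine mul_left_cancel₀ hl0 ?_
      linear_combination -hl - this
    rw [e, show (2 : k) = algebraMap (ZMod p) k 2 from (map_ofNat _ 2).symm]
    exact (hli.add (hli.pow _)).sub isIntegral_algebraMap
  haveI : FiniteDimensional (ZMod p) (IntermediateField.adjoin (ZMod p) {b}) :=
    IntermediateField.adjoin.finiteDimensional hint
  set F := IntermediateField.adjoin (ZMod p) {b} with hF
  haveI : Finite F := Module.finite_of_finite (ZMod p)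
  haveI : Fintype F := Fintype.ofFinite _
  haveI : CharP F p := charP_of_injective_algebraMap (algebraMap (ZMod p) F).injective p
  set gen : F := ⟨b, IntermediateField.mem_adjoin_simple_self (ZMod p) b⟩ with hgen
  have hclo : Subfield.closure ({gen} : Set F) = ⊤ := by
    set K := Subfield.closure ({gen} : Set F) with hK
    refine eq_top_iff.2 fun x _ => ?_
    have hpr : ∀ c : ZMod p, algebraMap (ZMod p) F c ∈ K := fun c => by
      rw [← ZMod.natCast_zmod_val c, map_natCast]
      exact natCast_mem K _
    let Kk : IntermediateField (ZMod p) k := (K.map (F.val : F →+* k)).toIntermediateField fun c =>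
      ⟨algebraMap (ZMod p) F c, hpr c, rfl⟩
    have hle : F ≤ Kk := IntermediateField.adjoin_le_iff.2 (Set.singleton_subset_iff.2
      ⟨gen, Subfield.subset_closure rfl, rfl⟩)
    obtain ⟨z, hz, hzx⟩ := hle x.2
    rwa [← Subtype.ext (a1 := z) (a2 := x) hzx]
  let f : Matrix.SpecialLinearGroup (Fin 2) F →* SL₂ := Matrix.SpecialLinearGroup.map (F.val : F →+* k)
  have hfinj : Function.Injective f := fun x z h => Subtype.ext (Matrix.ext fun i j =>
    Subtype.ext (congrFun (congrFun (congrArg Subtype.val h) i) j))
  rcases Cfsg.Agent.S0801.result (F := F) (two_ne_zero_of hp) gen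
      (fun h => hb (congrArg Subtype.val h)) hclo with ⟨h, -⟩ | ⟨h9, -, -⟩
  · have hle : (⊤ : Subgroup (Matrix.SpecialLinearGroup (Fin 2) F)) ≤ H.comap f := by
      rw [← h, Subgroup.closure_le]
      intro g hg
      show f g ∈ H
      rcases hg with hg | hg
      · rw [show f g = sL 1 from Subtype.ext (by
          ext i j
          fin_cases i <;> fin_cases j <;> simp [f, hg, sL])]
        exact hl
      · rw [show f g = sU b from Subtype.ext (by
          ext i j
          fin_cases i <;> fin_cases j <;> simp [f, hg, sU, gen])]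
        exact hu
    have hdvd : Nat.card (Matrix.SpecialLinearGroup (Fin 2) F) ∣ Nat.card H :=
      Subgroup.card_dvd_of_injective (f.codRestrict H fun g => hle (Subgroup.mem_top g))
        fun x z h => hfinj (congrArg Subtype.val h)
    rw [Cfsg.Agent.Dickson.card_sl2_eq] at hdvd
    obtain ⟨n, -, hn⟩ := FiniteField.card F p
    rw [← Nat.card_eq_fintype_card] at hn
    have hn1 : (n : ℕ) = 1 := by
      by_contra hne
      exact hsq ((pow_dvd_pow p (show 2 ≤ (n : ℕ) by have := n.pos; omega)).trans
        (hn ▸ (dvd_mul_right _ _).trans hdvd))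
    refine mem_prime_field ?_
    have := FiniteField.pow_card gen
    rw [← Nat.card_eq_fintype_card, hn, hn1, pow_one] at this
    exact congrArg Subtype.val this
  · exfalso
    obtain ⟨n, -, hn⟩ := FiniteField.card F p
    rw [hn] at h9
    have h3 : p ∣ 3 ^ 2 := (dvd_pow_self p n.ne_zero).trans (dvd_of_eq h9)
    have := Nat.le_of_dvd (by norm_num) (hpF.out.dvd_of_dvd_pow h3)
    omega

end Cfsg.Agent.SmallDim
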