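import Mathlib.RingTheory.Adjoin.Basic
import Mathlib.RingTheory.Nilpotent.Basic
import Mathlib.RingTheory.Finiteness.Defs
import Mathlib.Algebra.CharP.Basic
import Mathlib.Algebra.BigOperators.Intervals
import Mathlib.Data.Nat.Choose.Sum
import Mathlib.Algebra.Algebra.Bilinear
import Mathlib.Tactic.Module
import Mathlib.Tactic.FieldSimp
import Mathlib.Tactic.LinearCombination
import Mathlib.Tactic.NoncommRing
import Mathlib.Algebra.Field.Basic
import Mathlib.Data.Nat.Prime.Factorial

/-!
The truncated exponential in characteristic `p` and the logarithm of a unipotent element.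
-/

set_option autoImplicit false
set_option linter.unusedSectionVars false

namespace Cfsg.Agent.SmallDim

open Finset

variable (k : Type*) [Field k] {R : Type*} [Ring R] [Algebra k R]

/-- The exponential series, cut off at `p`. -/
def texp (p : ℕ) (x : R) : R := ∑ i ∈ range p, ((Nat.factorial i : k)⁻¹) • x ^ i

variable {k}

theorem factorial_ne_zero {p : ℕ} [hp : Fact p.Prime] [CharP k p] {n : ℕ} (h : n < p) :
    (Nat.factorial n : k) ≠ 0 := by
  rw [Ne, CharP.cast_eq_zero_iff k p, Nat.Prime.dvd_factorial hp.out]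
  omega

theorem texp_zero {p : ℕ} (hp : 0 < p) : texp k p (0 : R) = 1 := by
  rw [texp, sum_eq_single 0 (fun i _ hi => by rw [zero_pow hi, smul_zero])
    (fun h => absurd (mem_range.2 hp) h)]
  simp

theorem texp_map {S : Type*} [Ring S] [Algebra k S] (f : R →ₐ[k] S) (p : ℕ) (x : R) :
    f (texp k p x) = texp k p (f x) := by
  simp [texp, map_sum, map_smul, map_pow]

/-- The addition formula. -/
theorem texp_add {p : ℕ} [hp : Fact p.Prime] [CharP k p] {x y : R} (h : Commute x y)
    (hv : ∀ i j, p ≤ i + j → x ^ i * y ^ j = 0) :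
    texp k p x * texp k p y = texp k p (x + y) := by
  have hR : texp k p (x + y) = ∑ n ∈ range p, ∑ i ∈ range (n + 1),
      ((Nat.factorial i : k)⁻¹ * (Nat.factorial (n - i) : k)⁻¹) • (x ^ i * y ^ (n - i)) := by
    refine sum_congr rfl fun n hn => ?_
    rw [h.add_pow, smul_sum]
    refine sum_congr rfl fun i hi => ?_
    rw [← nsmul_eq_mul', ← Nat.cast_smul_eq_nsmul k, smul_smul]
    congr 1
    have hn' := mem_range.1 hn
    have hi' := Nat.lt_succ_iff.1 (mem_range.1 hi)
    have h1 := factorial_ne_zero (k := k) (p := p) hn'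
    have h2 := factorial_ne_zero (k := k) (p := p) (n := i) (by omega)
    have h3 := factorial_ne_zero (k := k) (p := p) (n := n - i) (by omega)
    have e : (n.choose i : k) * (i.factorial : k) * ((n - i).factorial : k) = (n.factorial : k) := by
      exact_mod_cast congrArg (Nat.cast (R := k)) (Nat.choose_mul_factorial_mul_factorial hi')
    field_simp
    linear_combination e
  have hL : texp k p x * texp k p y = ∑ n ∈ range p, ∑ i ∈ range (n + 1),
      ((Nat.factorial i : k)⁻¹ * (Nat.factorial (n - i) : k)⁻¹) • (x ^ i * y ^ (n - i)) := by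
    rw [Finset.sum_range_diag_flip p
      (fun i j => ((Nat.factorial i : k)⁻¹ * (Nat.factorial j : k)⁻¹) • (x ^ i * y ^ j)),
      texp, texp, sum_mul_sum]
    refine sum_congr rfl fun i _ => ?_
    rw [← Finset.sum_subset (range_mono (Nat.sub_le p i))]
    · exact sum_congr rfl fun j _ => by rw [smul_mul_smul_comm]
    · intro j hj hj'
      rw [mem_range] at hj hj'
      rw [smul_mul_smul_comm, hv i j (by omega), smul_zero]
  rw [hR, hL]

/-- `texp x = 1 + x + x ^ 2 * s`. -/
theorem texp_eq {p : ℕ} (hp : 2 ≤ p) (x : R) :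
    ∃ s ∈ Algebra.adjoin k {x}, texp k p x = 1 + x + x ^ 2 * s := by
  refine ⟨∑ i ∈ range (p - 2), ((Nat.factorial (i + 2) : k)⁻¹) • x ^ i,
    Subalgebra.sum_mem _ fun i _ => Subalgebra.smul_mem _ (Subalgebra.pow_mem _
      (Algebra.self_mem_adjoin_singleton k x) i) _, ?_⟩
  obtain ⟨m, rfl⟩ : ∃ m, p = m + 2 := ⟨p - 2, by omega⟩
  rw [texp, sum_range_succ', sum_range_succ']
  simp only [Nat.add_sub_cancel, mul_sum, mul_smul_comm, ← pow_add]
  simp only [Nat.factorial_zero, Nat.cast_one, inv_one, one_smul, pow_zero, zero_add,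
    Nat.factorial_one, pow_one]
  rw [show (∑ i ∈ range m, ((Nat.factorial (i + 2) : k))⁻¹ • x ^ (2 + i)) =
    ∑ i ∈ range m, ((Nat.factorial (i + 1 + 1) : k))⁻¹ • x ^ (i + 1 + 1) from
      sum_congr rfl fun i _ => by ring_nf]
  abel

/-- The multiples of `A` by polynomials in `A`. -/
def InN (A x : R) : Prop := ∃ r ∈ Algebra.adjoin k {A}, x = A * r

namespace InN

variable {A x y : R}

theorem self : InN (k := k) A A := ⟨1, one_mem _, (mul_one A).symm⟩

theorem mem (h : InN (k := k) A x) : x ∈ Algebra.adjoin k {A} := by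
  obtain ⟨r, hr, rfl⟩ := h
  exact mul_mem (Algebra.self_mem_adjoin_singleton k A) hr

theorem zero : InN (k := k) A (0 : R) := ⟨0, zero_mem _, (mul_zero A).symm⟩

theorem add (hx : InN (k := k) A x) (hy : InN (k := k) A y) : InN (k := k) A (x + y) := by
  obtain ⟨r, hr, rfl⟩ := hx; obtain ⟨s, hs, rfl⟩ := hy
  exact ⟨r + s, add_mem hr hs, (mul_add A r s).symm⟩

theorem smul (c : k) (hx : InN (k := k) A x) : InN (k := k) A (c • x) := by
  obtain ⟨r, hr, rfl⟩ := hx
  exact ⟨c • r, Subalgebra.smul_mem _ hr c, (mul_smul_comm c A r).symm⟩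

theorem neg (hx : InN (k := k) A x) : InN (k := k) A (-x) := by
  obtain ⟨r, hr, rfl⟩ := hx
  exact ⟨-r, neg_mem hr, (mul_neg A r).symm⟩

theorem sub (hx : InN (k := k) A x) (hy : InN (k := k) A y) : InN (k := k) A (x - y) := by
  rw [sub_eq_add_neg]; exact hx.add hy.neg

theorem mul (hx : InN (k := k) A x) (hy : y ∈ Algebra.adjoin k {A}) : InN (k := k) A (x * y) := by
  obtain ⟨r, hr, rfl⟩ := hx
  exact ⟨r * y, mul_mem hr hy, mul_assoc A r y⟩

theorem commute_adjoin {r s : R} (hr : r ∈ Algebra.adjoin k {A}) (hs : s ∈ Algebra.adjoin k {A}) :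
    Commute r s := by
  have h1 : Commute A r := Algebra.commute_of_mem_adjoin_self hr
  exact Algebra.commute_of_mem_adjoin_singleton_of_commute hs h1.symm

theorem commute (hx : InN (k := k) A x) (hy : InN (k := k) A y) : Commute x y :=
  commute_adjoin hx.mem hy.mem

theorem pow (hx : InN (k := k) A x) (i : ℕ) : ∃ r ∈ Algebra.adjoin k {A}, x ^ i = A ^ i * r := by
  obtain ⟨r, hr, rfl⟩ := hx
  exact ⟨r ^ i, pow_mem hr i,
    (commute_adjoin (Algebra.self_mem_adjoin_singleton k A) hr).mul_pow i⟩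

theorem pow_mul_pow {d : ℕ} (hA : A ^ d = 0) (hx : InN (k := k) A x) (hy : InN (k := k) A y)
    (i j : ℕ) (h : d ≤ i + j) : x ^ i * y ^ j = 0 := by
  obtain ⟨r, hr, e⟩ := hx.pow i
  obtain ⟨s, hs, e'⟩ := hy.pow j
  have hc : Commute r (A ^ j) :=
    commute_adjoin hr (pow_mem (Algebra.self_mem_adjoin_singleton k A) j)
  rw [e, e', mul_assoc, ← mul_assoc r, hc.eq, ← mul_assoc, ← mul_assoc, ← pow_add,
    pow_eq_zero_of_le h hA, zero_mul, zero_mul]

end InN

variable {p : ℕ} [Fact p.Prime] [CharP k p] {A : R} {d : ℕ}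

theorem texp_add_of_inN (hA : A ^ d = 0) (hd : d ≤ p) {x y : R} (hx : InN (k := k) A x)
    (hy : InN (k := k) A y) : texp k p x * texp k p y = texp k p (x + y) :=
  texp_add (hx.commute hy) fun i j h => hx.pow_mul_pow hA hy i j (hd.trans h)

theorem texp_mul_neg (hA : A ^ d = 0) (hd : d ≤ p) {x : R} (hx : InN (k := k) A x) :
    texp k p x * texp k p (-x) = 1 := by
  rw [texp_add_of_inN hA hd hx hx.neg, add_neg_cancel, texp_zero (Fact.out : p.Prime).pos]

theorem texp_neg_mul (hA : A ^ d = 0) (hd : d ≤ p) {x : R} (hx : InN (k := k) A x) :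
    texp k p (-x) * texp k p x = 1 := by
  rw [texp_add_of_inN hA hd hx.neg hx, neg_add_cancel, texp_zero (Fact.out : p.Prime).pos]

/-- The exponential is surjective onto the unipotent elements. -/
theorem exists_log (hA : A ^ d = 0) (hd : d ≤ p) :
    ∃ x : R, InN (k := k) A x ∧ texp k p x = 1 + A := by
  have hp2 := (Fact.out : p.Prime).two_le
  have hAm := Algebra.self_mem_adjoin_singleton k A
  have step : ∀ m : ℕ, ∃ x, InN (k := k) A x ∧ ∃ r ∈ Algebra.adjoin k {A},
      (1 + A) * texp k p (-x) = 1 + A ^ (m + 1) * r := by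
    intro m
    induction m with
    | zero =>
      exact ⟨0, InN.zero, 1, one_mem _, by
        rw [neg_zero, texp_zero (by omega), mul_one, mul_one, zero_add, pow_one]⟩
    | succ m ih =>
      obtain ⟨x, hx, r, hr, e⟩ := ih
      set T := A ^ (m + 1) * r with hT
      have hTm : InN (k := k) A T :=
        ⟨A ^ m * r, mul_mem (pow_mem hAm m) hr, by rw [hT, pow_succ', mul_assoc]⟩
      obtain ⟨s, hs, es⟩ := texp_eq (k := k) hp2 (-T)
      have hs' : s ∈ Algebra.adjoin k {A} :=
        Algebra.adjoin_le (Set.singleton_subset_iff.2 hTm.neg.mem) hs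
      refine ⟨x + T, hx.add hTm, A ^ m * (r * r) * (-1 + (1 + T) * s),
        mul_mem (mul_mem (pow_mem hAm m) (mul_mem hr hr))
          (add_mem (neg_mem (one_mem _)) (mul_mem (add_mem (one_mem _) hTm.mem) hs')), ?_⟩
      rw [neg_add, ← texp_add_of_inN hA hd hx.neg hTm.neg, ← mul_assoc, e, es]
      have hsq : T * T = A ^ (m + 1 + 1) * (A ^ m * (r * r)) := by
        rw [hT, ← mul_assoc, mul_assoc (A ^ (m + 1)) r,
          (InN.commute_adjoin hr (pow_mem hAm (m + 1))).eq, ← mul_assoc (A ^ (m + 1)) (A ^ (m + 1)),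
          ← pow_add, mul_assoc, ← mul_assoc (A ^ (m + 1 + 1)) (A ^ m), ← pow_add]
        congr 2
        omega
      rw [← mul_assoc, ← hsq]
      rw [neg_sq, pow_two]
      noncomm_ring
  obtain ⟨x, hx, r, hr, e⟩ := step d
  refine ⟨x, hx, ?_⟩
  rw [pow_eq_zero_of_le (Nat.le_succ d) hA, zero_mul, add_zero] at e
  have := congrArg (· * texp k p x) e
  simp only [mul_assoc, texp_neg_mul hA hd hx, mul_one, one_mul] at this
  exact this.symm

/-- The exponential is injective. -/
theorem texp_injective (hA : A ^ d = 0) (hd : d ≤ p) {x y : R} (hx : InN (k := k) A x)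
    (hy : InN (k := k) A y) (h : texp k p x = texp k p y) : x = y := by
  have hp2 := (Fact.out : p.Prime).two_le
  have h1 : texp k p (x - y) = 1 := by
    rw [sub_eq_add_neg, ← texp_add_of_inN hA hd hx hy.neg, h, texp_mul_neg hA hd hy]
  obtain ⟨s, hs, es⟩ := texp_eq (k := k) hp2 (x - y)
  set D := x - y with hD
  have hDm : InN (k := k) A D := hx.sub hy
  have hnil : IsNilpotent (D * s) := by
    refine ⟨d, ?_⟩
    rw [Commute.mul_pow (InN.commute_adjoin hDm.mem
      (Algebra.adjoin_le (Set.singleton_subset_iff.2 hDm.mem) hs))]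
    obtain ⟨r, -, e⟩ := hDm.pow d
    rw [e, hA, zero_mul, zero_mul]
  have h2 : D * (1 + D * s) = 0 := by
    rw [h1] at es
    calc D * (1 + D * s) = (1 + D + D ^ 2 * s) - 1 := by noncomm_ring
      _ = 0 := by rw [← es, sub_self]
  exact sub_eq_zero.1 ((hnil.isUnit_one_add.mul_left_eq_zero).1 h2)

theorem texp_pow (hA : A ^ d = 0) (hd : d ≤ p) {x : R} (hx : InN (k := k) A x) (n : ℕ) :
    texp k p x ^ n = texp k p ((n : k) • x) := by
  induction n with
  | zero => rw [pow_zero, Nat.cast_zero, zero_smul, texp_zero (Fact.out : p.Prime).pos]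
  | succ n ih =>
    rw [pow_succ, ih, texp_add_of_inN hA hd (hx.smul _) hx, Nat.cast_succ, add_smul, one_smul]

end Cfsg.Agent.SmallDim
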